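import Mathlib
import Cfsg.Prelude.Def_Local
import Cfsg.Agent.Lib.Helper21.Comp
import Cfsg.Agent.Lib.Helper21.Quasi
import Cfsg.Agent.Lib.Helper21.Layer
import Cfsg.Agent.Lib.Helper22.Layer
import Cfsg.Agent.Lib.Helper22.Layer2
import Cfsg.Agent.Lib.Helper24.Coprime
import Cfsg.Agent.Lib.Helper24.ConjAction
import Cfsg.Agent.Lib.Helper29.Basic
import Cfsg.Agent.Lib.Helper78.Fitting
import Cfsg.Agent.Lib.Helper31.SigBasic
import Cfsg.Agent.S0026
import Cfsg.Agent.S0027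

/-!
# Action of a `p`-subgroup on subnormal subgroups of `F*(H)` when `O_p(H) = 1`

General commutator lemmas, the dichotomy "a quasisimple member of a commuting family permuted by
`Y` lies in `⁅L, Y⁆` or is centralized by `Y`", and the splitting `L = ⁅L, Y⁆ C_L(Y)`.
-/

set_option autoImplicit false

namespace Cfsg.Agent.Lib.Helper31.FStarAct

open Subgroup
open scoped commutatorElement

variable {G : Type*} [Group G]

/-- `⁅L, Y⁆` is stable under conjugation by elements of `L`. -/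
theorem conj_mem_commutator {L Y : Subgroup G} {l : G} (hl : l ∈ L) {u : G} (hu : u ∈ ⁅L, Y⁆) :
    l * u * l⁻¹ ∈ ⁅L, Y⁆ := by
  have h : ⁅L, Y⁆ ≤ (⁅L, Y⁆).comap (MulAut.conj l).toMonoidHom := by
    rw [Subgroup.commutator_le]
    intro a ha y hy
    rw [Subgroup.mem_comap]
    have e : (MulAut.conj l).toMonoidHom ⁅a, y⁆ = ⁅l * a, y⁆ * ⁅l, y⁆⁻¹ := by
      simp only [commutatorElement_def, MulEquiv.toMonoidHom_eq_coe, MonoidHom.coe_coe,
        MulAut.conj_apply]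
      group
    rw [e]
    exact mul_mem (Subgroup.commutator_mem_commutator (mul_mem hl ha) hy)
      (inv_mem (Subgroup.commutator_mem_commutator hl hy))
  exact h hu

/-- `⁅L, Y⁆` is stable under conjugation by elements of `Y`. -/
theorem conj_mem_commutator_right {L Y : Subgroup G} {y : G} (hy : y ∈ Y) {u : G}
    (hu : u ∈ ⁅L, Y⁆) : y * u * y⁻¹ ∈ ⁅L, Y⁆ := by
  have h : ⁅L, Y⁆ ≤ (⁅L, Y⁆).comap (MulAut.conj y).toMonoidHom := by
    rw [Subgroup.commutator_le]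
    intro a ha z hz
    rw [Subgroup.mem_comap]
    have e : (MulAut.conj y).toMonoidHom ⁅a, z⁆ = ⁅a, y⁆⁻¹ * ⁅a, y * z⁆ := by
      simp only [commutatorElement_def, MulEquiv.toMonoidHom_eq_coe, MonoidHom.coe_coe,
        MulAut.conj_apply]
      group
    rw [e]
    exact mul_mem (inv_mem (Subgroup.commutator_mem_commutator ha hy))
      (Subgroup.commutator_mem_commutator ha (mul_mem hy hz))
  exact h hu

theorem le_normalizer_commutator (L Y : Subgroup G) :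
    L ≤ normalizer ((⁅L, Y⁆ : Subgroup G) : Set G) :=
  Cfsg.Agent.Lib.Helper31.SigBasic.le_normalizer_of_conj_mem L ⁅L, Y⁆
    fun _ hb _ hu => conj_mem_commutator hb hu

theorem le_normalizer_commutator_right (L Y : Subgroup G) :
    Y ≤ normalizer ((⁅L, Y⁆ : Subgroup G) : Set G) :=
  Cfsg.Agent.Lib.Helper31.SigBasic.le_normalizer_of_conj_mem Y ⁅L, Y⁆
    fun _ hb _ hu => conj_mem_commutator_right hb hu

theorem commutator_le_left {L Y : Subgroup G} (hYL : Y ≤ normalizer (L : Set G)) : ⁅L, Y⁆ ≤ L :=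
  Cfsg.Agent.Lib.Helper24.Coprime.commutator_le_of_le_normalizer hYL

/-- If `L = ⁅L, Y⁆ C_L(Y)` then `⁅L, Y⁆ = ⁅L, Y, Y⁆`. -/
theorem commutator_eq_of_split {L Y : Subgroup G} (hYL : Y ≤ normalizer (L : Set G))
    (h : ⁅L, Y⁆ ⊔ (L ⊓ centralizer (Y : Set G)) = L) : ⁅L, Y⁆ = ⁅⁅L, Y⁆, Y⁆ := by
  apply le_antisymm
  · rw [Subgroup.commutator_le]
    intro l hl y hy
    rw [← h] at hl
    obtain ⟨a, ha, c, hc, rfl⟩ :=
      Cfsg.Agent.Lib.Helper31.SigBasic.mem_sup_of_le_normalizer ⁅L, Y⁆ (L ⊓ centralizer (Y : Set G))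
        (inf_le_left.trans (le_normalizer_commutator L Y)) hl
    have hcy : y * c = c * y := (Subgroup.mem_centralizer_iff.mp hc.2) y hy
    have e : ⁅a * c, y⁆ = ⁅a, y⁆ := by
      simp only [commutatorElement_def, mul_inv_rev]
      have : c * y * c⁻¹ = y := by rw [← hcy, mul_inv_cancel_right]
      calc a * c * y * (c⁻¹ * a⁻¹) * y⁻¹ = a * (c * y * c⁻¹) * a⁻¹ * y⁻¹ := by group
        _ = a * y * a⁻¹ * y⁻¹ := by rw [this]
    rw [e]
    exact Subgroup.commutator_mem_commutator ha hy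
  · exact Subgroup.commutator_mono (commutator_le_left hYL) le_rfl

/-- A quasisimple member `K ≤ L` of a family of pairwise commuting subgroups permuted by `Y` lies
in `⁅L, Y⁆` or is centralized by `Y`. -/
theorem quasi_le_commutator_or_centralizer {L Y K : Subgroup G} (𝒦 : Set (Subgroup G))
    (hKL : K ≤ L) (hK : K ∈ 𝒦) (hq : Cfsg.IsQuasisimple K)
    (hcomm : ∀ K' ∈ 𝒦, K ≠ K' → ⁅K, K'⁆ = ⊥)
    (hconj : ∀ y ∈ Y, K.map (MulAut.conj y).toMonoidHom ∈ 𝒦) :
    K ≤ ⁅L, Y⁆ ∨ K ≤ centralizer (Y : Set G) := by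
  have hperf : ⁅K, K⁆ = K := Cfsg.Agent.Lib.Helper21.Comp.commutator_self hq
  by_cases hall : ∀ y ∈ Y, K.map (MulAut.conj y).toMonoidHom = K
  · have hYK : Y ≤ normalizer (K : Set G) := fun y hy =>
      Subgroup.mem_normalizer_iff_map_conj_eq.mpr (hall y hy)
    have hD : ⁅K, Y⁆ ≤ K := commutator_le_left hYK
    rcases Cfsg.Agent.Lib.Helper21.Comp.le_or_inf_le_centralizer (N := ⁅K, Y⁆) hq
        (le_normalizer_commutator K Y) with h1 | h1
    · exact Or.inl (h1.trans (Subgroup.commutator_mono hKL le_rfl))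
    · right
      have h2 : ⁅K, Y⁆ ≤ centralizer (K : Set G) := (le_inf le_rfl hD).trans h1
      have h3 : ⁅⁅K, Y⁆, K⁆ = ⊥ := Subgroup.commutator_eq_bot_iff_le_centralizer.mpr h2
      have h4 : ⁅⁅Y, K⁆, K⁆ = ⊥ := by rw [Subgroup.commutator_comm Y K]; exact h3
      have h5 : ⁅⁅K, K⁆, Y⁆ = ⊥ := Subgroup.commutator_commutator_eq_bot_of_rotate h3 h4
      rw [hperf] at h5
      exact Subgroup.commutator_eq_bot_iff_le_centralizer.mp h5
  · left
    push Not at hall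
    obtain ⟨y, hy, hne⟩ := hall
    have hc : ⁅K, K.map (MulAut.conj y).toMonoidHom⁆ = ⊥ :=
      hcomm _ (hconj y hy) (fun h => hne h.symm)
    have hc' : K ≤ centralizer ((K.map (MulAut.conj y).toMonoidHom : Subgroup G) : Set G) :=
      Subgroup.commutator_eq_bot_iff_le_centralizer.mp hc
    rw [← hperf, Subgroup.commutator_le]
    intro k₁ hk₁ k₂ hk₂
    have hcmem : y * k₁⁻¹ * y⁻¹ ∈ K.map (MulAut.conj y).toMonoidHom :=
      ⟨k₁⁻¹, K.inv_mem hk₁, by simp [MulAut.conj_apply]⟩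
    have hc2 : (y * k₁⁻¹ * y⁻¹) * k₂ = k₂ * (y * k₁⁻¹ * y⁻¹) :=
      (Subgroup.mem_centralizer_iff.mp (hc' hk₂)) _ hcmem
    have e : ⁅k₁, k₂⁆ = ⁅k₁, y⁆ * (k₂ * ⁅k₁, y⁆⁻¹ * k₂⁻¹) := by
      have e1 : ⁅k₁, y⁆ = k₁ * (y * k₁⁻¹ * y⁻¹) := by
        simp only [commutatorElement_def]; group
      rw [e1]
      simp only [commutatorElement_def, mul_inv_rev, inv_inv]
      have hc3 : (y * k₁⁻¹ * y⁻¹) * k₂ * (y * k₁⁻¹ * y⁻¹)⁻¹ = k₂ := by
        rw [hc2, mul_inv_cancel_right]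
      calc k₁ * k₂ * k₁⁻¹ * k₂⁻¹ = k₁ * ((y * k₁⁻¹ * y⁻¹) * k₂ * (y * k₁⁻¹ * y⁻¹)⁻¹) * k₁⁻¹ * k₂⁻¹ := by
            rw [hc3]
        _ = _ := by group
    rw [e]
    have hz : ⁅k₁, y⁆ ∈ ⁅L, Y⁆ := Subgroup.commutator_mem_commutator (hKL hk₁) hy
    exact mul_mem hz (conj_mem_commutator (hKL hk₂) (inv_mem hz))

/-- Coprime action of a `p`-group on a `p'`-group: `N = ⁅N, Y⁆ C_N(Y)`. -/
theorem coprime_split [Finite G] {p : ℕ} [Fact p.Prime] {Y N : Subgroup G} (hY : IsPGroup p Y)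
    (hYN : Y ≤ normalizer (N : Set G)) (hN : (Nat.card N).Coprime p) :
    ⁅N, Y⁆ ⊔ (N ⊓ centralizer (Y : Set G)) = N := by
  obtain ⟨k, hk⟩ := hY.exists_card_eq
  have hcop : (Nat.card Y).Coprime (Nat.card N) := by
    rw [hk]; exact (Nat.Coprime.pow_right k hN).symm
  have hsolv : Group.IsSolvable Y := by
    haveI := hY.isNilpotent
    infer_instance
  exact Cfsg.Agent.S0026.result Y N hYN hcop (Or.inl hsolv)

/-- Coprime action of a `p`-group on a `p'`-group: `⁅N, Y, Y⁆ = ⁅N, Y⁆`. -/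
theorem coprime_comm_comm [Finite G] {p : ℕ} [Fact p.Prime] {Y N : Subgroup G} (hY : IsPGroup p Y)
    (hYN : Y ≤ normalizer (N : Set G)) (hN : (Nat.card N).Coprime p) :
    ⁅⁅N, Y⁆, Y⁆ = ⁅N, Y⁆ :=
  (commutator_eq_of_split hYN (coprime_split hY hYN hN)).symm

/-- Splitting for a subgroup generated by a `p'`-subgroup and a commuting family of quasisimple
subgroups permuted by the `p`-group `Y`. -/
theorem split_of_family [Finite G] {p : ℕ} [Fact p.Prime] {L Y N : Subgroup G} (hY : IsPGroup p Y)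
    (𝒦 : Set (Subgroup G)) (hKL : ∀ K ∈ 𝒦, K ≤ L) (hq : ∀ K ∈ 𝒦, Cfsg.IsQuasisimple K)
    (hcomm : ∀ K ∈ 𝒦, ∀ K' ∈ 𝒦, K ≠ K' → ⁅K, K'⁆ = ⊥)
    (hconj : ∀ K ∈ 𝒦, ∀ y ∈ Y, K.map (MulAut.conj y).toMonoidHom ∈ 𝒦)
    (hNL : N ≤ L) (hYN : Y ≤ normalizer (N : Set G)) (hN : (Nat.card N).Coprime p)
    (hYL : Y ≤ normalizer (L : Set G)) (hL : L ≤ sSup 𝒦 ⊔ N) :
    ⁅L, Y⁆ ⊔ (L ⊓ centralizer (Y : Set G)) = L := by
  apply le_antisymm (sup_le (commutator_le_left hYL) inf_le_left)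
  refine hL.trans (sup_le (sSup_le fun K hK => ?_) ?_)
  · rcases quasi_le_commutator_or_centralizer (L := L) (Y := Y) 𝒦 (hKL K hK) hK (hq K hK)
        (hcomm K hK) (hconj K hK) with h | h
    · exact h.trans le_sup_left
    · exact (le_inf (hKL K hK) h).trans le_sup_right
  · rw [← coprime_split hY hYN hN]
    exact sup_le_sup (Subgroup.commutator_mono hNL le_rfl) (inf_le_inf_right _ hNL)

section FStar

variable [Finite G] {p : ℕ} [Fact p.Prime]

/-- If `O_p(G) = 1` then `F(G)` is a `p'`-group. -/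
theorem fitting_coprime (hO : Cfsg.pCore p G = ⊥) :
    (Nat.card (Cfsg.fittingSubgroup G)).Coprime p := by
  have hp : p.Prime := Fact.out
  haveI hnil : Group.IsNilpotent (Cfsg.fittingSubgroup G) :=
    Cfsg.Agent.Lib.Helper78.Fitting.fitting_isNilpotent
  by_contra hcon
  have hdvd : p ∣ Nat.card (Cfsg.fittingSubgroup G) := by
    by_contra h
    exact hcon ((Nat.Prime.coprime_iff_not_dvd hp).mpr h).symm
  obtain ⟨P⟩ : Nonempty (Sylow p (Cfsg.fittingSubgroup G)) := inferInstance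
  have hPne : (P : Subgroup (Cfsg.fittingSubgroup G)) ≠ ⊥ := P.ne_bot_of_dvd_card hdvd
  have hPn : (P : Subgroup (Cfsg.fittingSubgroup G)).Normal :=
    Sylow.normal_of_normalizerCondition normalizerCondition_of_isNilpotent P
  have hPc : (P : Subgroup (Cfsg.fittingSubgroup G)).Characteristic :=
    Sylow.characteristic_of_normal P hPn
  have hFn : (Cfsg.fittingSubgroup G).Normal := Cfsg.Agent.Lib.Helper78.Fitting.fitting_normal
  have h1 := Cfsg.Agent.Lib.Helper24.ConjAction.le_normalizer_map_of_characteristic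
    (Cfsg.fittingSubgroup G) (P : Subgroup (Cfsg.fittingSubgroup G)) hPc
  rw [Subgroup.normalizer_eq_top_iff.mpr hFn] at h1
  have hMn : ((P : Subgroup (Cfsg.fittingSubgroup G)).map
      (Cfsg.fittingSubgroup G).subtype).Normal :=
    Subgroup.normalizer_eq_top_iff.mp (top_le_iff.mp h1)
  have hMp : IsPGroup p ((P : Subgroup (Cfsg.fittingSubgroup G)).map
      (Cfsg.fittingSubgroup G).subtype) := P.isPGroup'.map _
  have h2 := Cfsg.Agent.Lib.Helper78.Fitting.le_pCore hMn hMp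
  rw [hO, le_bot_iff, Subgroup.map_eq_bot_iff_of_injective _ (Subgroup.subtype_injective _)] at h2
  exact hPne h2

/-- A `p`-subgroup of `F(G)` is trivial when `O_p(G) = 1`. -/
theorem eq_bot_of_isPGroup_of_le_fitting (hO : Cfsg.pCore p G = ⊥) {Y : Subgroup G}
    (hY : IsPGroup p Y) (hYF : Y ≤ Cfsg.fittingSubgroup G) : Y = ⊥ := by
  obtain ⟨k, hk⟩ := hY.exists_card_eq
  have h1 : (Nat.card Y).Coprime p :=
    Nat.Coprime.coprime_dvd_left (Subgroup.card_dvd_of_le hYF) (fitting_coprime hO)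
  have hp : p.Prime := Fact.out
  rcases Nat.eq_zero_or_pos k with h0 | h0
  · rw [h0, pow_zero] at hk
    exact Subgroup.card_eq_one.mp hk
  · exfalso
    rw [hk] at h1
    have h3 : p ∣ p ^ k := dvd_pow_self p (by omega)
    have h4 : p ∣ Nat.gcd (p ^ k) p := Nat.dvd_gcd h3 dvd_rfl
    rw [Nat.Coprime] at h1
    rw [h1] at h4
    exact hp.one_lt.ne' (Nat.dvd_one.mp h4)

/-- Native splitting lemma: `O_p(G) = 1`, `Y` a `p`-subgroup normalizing the subnormal subgroup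
`L ≤ F*(G)`: then `L = ⁅L, Y⁆ C_L(Y)`. -/
theorem split_native (hO : Cfsg.pCore p G = ⊥) {Y L : Subgroup G} (hY : IsPGroup p Y)
    (hLF : L ≤ Cfsg.generalizedFittingSubgroup G) (hLsn : L.IsSubnormal)
    (hYL : Y ≤ normalizer (L : Set G)) :
    ⁅L, Y⁆ ⊔ (L ⊓ centralizer (Y : Set G)) = L := by
  have hFn : (Cfsg.fittingSubgroup G).Normal := Cfsg.Agent.Lib.Helper78.Fitting.fitting_normal
  refine split_of_family (N := Cfsg.fittingSubgroup G ⊓ L) hY
    {K | Cfsg.IsComponent K ∧ K ≤ L} (fun K hK => hK.2) (fun K hK => hK.1.2) ?_ ?_ inf_le_right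
    ?_ ?_ hYL ?_
  · intro K hK K' hK' hne
    exact Cfsg.Agent.Lib.Helper21.Comp.components_commute K K' hK.1 hK'.1 hne
  · intro K hK y hy
    refine ⟨Cfsg.Agent.Lib.Helper29.Basic.isComponent_map_conj hK.1 y, ?_⟩
    have h1 := Subgroup.map_mono (f := (MulAut.conj y).toMonoidHom) hK.2
    exact h1.trans (Subgroup.mem_normalizer_iff_map_conj_eq.mp (hYL hy)).le
  · apply Cfsg.Agent.Lib.Helper31.SigBasic.le_normalizer_of_conj_mem
    intro y hy u hu
    exact ⟨hFn.conj_mem u hu.1 y,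
      Cfsg.Agent.Lib.Helper31.SigBasic.conj_mem_of_mem_normalizer (hYL hy) hu.2⟩
  · exact Nat.Coprime.coprime_dvd_left (Subgroup.card_dvd_of_le inf_le_left) (fitting_coprime hO)
  · intro s hs
    obtain ⟨e, he, m, hm, rfl⟩ :=
      Cfsg.Agent.Lib.Helper22.Layer2.subnormal_le_genFitting_decomp hLsn hLF hs
    exact mul_mem (Subgroup.mem_sup_left he) (Subgroup.mem_sup_right hm)

/-- Native version: `⁅L, Y⁆ = ⁅L, Y, Y⁆`. -/
theorem comm_comm_native (hO : Cfsg.pCore p G = ⊥) {Y L : Subgroup G} (hY : IsPGroup p Y)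
    (hLF : L ≤ Cfsg.generalizedFittingSubgroup G) (hLsn : L.IsSubnormal)
    (hYL : Y ≤ normalizer (L : Set G)) : ⁅L, Y⁆ = ⁅⁅L, Y⁆, Y⁆ :=
  commutator_eq_of_split hYL (split_native hO hY hLF hLsn hYL)

/-- A component of `G` lies in `⁅F*(G), Y⁆` or is centralized by `Y`. -/
theorem component_le_or_centralizer (Y : Subgroup G) {K : Subgroup G} (hK : Cfsg.IsComponent K) :
    K ≤ ⁅Cfsg.generalizedFittingSubgroup G, Y⁆ ∨ K ≤ centralizer (Y : Set G) :=
  quasi_le_commutator_or_centralizer {K | Cfsg.IsComponent K}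
    ((Cfsg.Agent.Lib.Helper22.Layer.le_layer hK).trans
      Cfsg.Agent.Lib.Helper22.Layer.layer_le_genFitting) hK hK.2
    (fun K' hK' hne => Cfsg.Agent.Lib.Helper21.Comp.components_commute K K' hK hK' hne)
    (fun y _ => Cfsg.Agent.Lib.Helper29.Basic.isComponent_map_conj hK y)

end FStar

end Cfsg.Agent.Lib.Helper31.FStarAct
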