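import Mathlib
import Cfsg.Agent.Lib.Helper4.UniStmt

/-!
S4395 piece `EAB`: the abelian model `P₀ = (K, +)`, `α` = multiplication by `lam`.
-/

set_option autoImplicit false

namespace Cfsg.Agent.Lib.Helper31.UniEAB

open Cfsg.Agent.Lib.Helper4.UniStmt

universe u

/-- multiplication by a nonzero element as an automorphism of `Multiplicative K` -/
def mulAut {K : Type u} [Field K] (lam : K) (hlam : lam ≠ 0) : MulAut (Multiplicative K) :=
  { toFun := fun x => Multiplicative.ofAdd (lam * Multiplicative.toAdd x)
    invFun := fun x => Multiplicative.ofAdd (lam⁻¹ * Multiplicative.toAdd x)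
    left_inv := fun x => by
      show Multiplicative.ofAdd (lam⁻¹ * (lam * Multiplicative.toAdd x)) = x
      rw [inv_mul_cancel_left₀ hlam]; rfl
    right_inv := fun x => by
      show Multiplicative.ofAdd (lam * (lam⁻¹ * Multiplicative.toAdd x)) = x
      rw [mul_inv_cancel_left₀ hlam]; rfl
    map_mul' := fun x y => by
      show Multiplicative.ofAdd (lam * (Multiplicative.toAdd x + Multiplicative.toAdd y)) =
        Multiplicative.ofAdd (lam * Multiplicative.toAdd x) *
          Multiplicative.ofAdd (lam * Multiplicative.toAdd y)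
      rw [mul_add]; rfl }

theorem mulAut_apply {K : Type u} [Field K] (lam : K) (hlam : lam ≠ 0) (x : Multiplicative K) :
    mulAut lam hlam x = Multiplicative.ofAdd (lam * Multiplicative.toAdd x) := rfl

theorem mulAut_pow {K : Type u} [Field K] (lam : K) (hlam : lam ≠ 0) (n : ℕ)
    (x : Multiplicative K) :
    (mulAut lam hlam ^ n) x = Multiplicative.ofAdd (lam ^ n * Multiplicative.toAdd x) := by
  induction n generalizing x with
  | zero => rw [pow_zero, pow_zero, one_mul]; rfl
  | succ n ih =>
    rw [pow_succ, MulAut.mul_apply, ih, mulAut_apply, pow_succ]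
    show Multiplicative.ofAdd (lam ^ n * (lam * Multiplicative.toAdd x)) = _
    rw [mul_assoc]

theorem main : EAB.{u} := by
  intro hEF p q _ _ hpq
  obtain ⟨K, _, _, lam, hcard, hlam1, hlamq, hirr⟩ := hEF p q hpq
  have hq0 : q ≠ 0 := (Fact.out : q.Prime).ne_zero
  have hlam : lam ≠ 0 := by
    intro h
    rw [h, zero_pow hq0] at hlamq
    exact zero_ne_one hlamq
  have hcard' : Nat.card (Multiplicative K) = p ^ orderOf (p : ZMod q) := by
    rw [← hcard]
    exact Nat.card_congr Multiplicative.toAdd
  refine ⟨Multiplicative K, inferInstance, inferInstance, mulAut lam hlam, ⟨?_, ?_, ?_, ?_⟩, hcard'⟩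
  · exact IsPGroup.of_card hcard'
  · ext x
    rw [mulAut_pow, hlamq, one_mul]
    rfl
  · intro h
    have h1 : mulAut lam hlam (Multiplicative.ofAdd 1) = Multiplicative.ofAdd 1 := by
      rw [h]; rfl
    rw [mulAut_apply] at h1
    have h2 : lam * 1 = 1 := Multiplicative.ofAdd.injective h1
    rw [mul_one] at h2
    exact hlam1 h2
  · intro R hR w hw
    let A : AddSubgroup K :=
      { carrier := {x | Multiplicative.ofAdd x ∈ R}
        zero_mem' := R.one_mem
        add_mem' := fun {a b} ha hb => R.mul_mem ha hb
        neg_mem' := fun {a} ha => R.inv_mem ha }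
    have hstab : ∀ x ∈ A, lam * x ∈ A := by
      intro x hx
      have h1 := hw _ hx
      rw [mul_comm w, mul_assoc, mul_inv_cancel, mul_one] at h1
      exact h1
    rcases hirr A hstab with h | h
    · intro r hr
      have h1 : Multiplicative.toAdd r ∈ A := hr
      rw [h] at h1
      have h2 : Multiplicative.toAdd r = 0 := (AddSubgroup.mem_bot).mp h1
      have h3 : r = 1 := h2
      rw [h3]
      exact ⟨map_one _, (Subgroup.center _).one_mem⟩
    · exfalso
      apply hR
      rw [eq_top_iff]
      intro r _
      have h1 : Multiplicative.toAdd r ∈ A := by rw [h]; exact AddSubgroup.mem_top _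
      exact h1

end Cfsg.Agent.Lib.Helper31.UniEAB
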