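import Mathlib
import Cfsg.Agent.Lib.Helper4.UniStmt

/-!
S4395 piece `EF2`: for `a = orderOf (p mod q)` even, the involution `s = Frob^(a/2)` of a field
with `p^a` elements: `lam * s lam = 1`, the kernel of `z ↦ z + s z` has `p^(a/2)` elements and
its image is the fixed field of `s`.
-/

set_option autoImplicit false

namespace Cfsg.Agent.Lib.Helper31.UniEF2

open Cfsg.Agent.Lib.Helper4.UniStmt Polynomial

universe u

theorem card_le_natDegree {K : Type u} [Field K] (f : K[X]) (hf : f ≠ 0) (S : Set K)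
    (hS : ∀ x ∈ S, f.eval x = 0) : Nat.card S ≤ f.natDegree := by
  classical
  have h1 : S ⊆ (f.roots.toFinset : Set K) := by
    intro x hx
    rw [Finset.mem_coe, Multiset.mem_toFinset, Polynomial.mem_roots hf]
    exact hS x hx
  calc Nat.card S = S.ncard := Nat.card_coe_set_eq S
    _ ≤ (f.roots.toFinset : Set K).ncard := Set.ncard_le_ncard h1 (Finset.finite_toSet _)
    _ = f.roots.toFinset.card := Set.ncard_coe_finset _
    _ ≤ Multiset.card f.roots := Multiset.toFinset_card_le _
    _ ≤ f.natDegree := Polynomial.card_roots' f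

theorem eq_of_le_of_mul_eq {x y n : ℕ} (hn : 0 < n) (hx : x ≤ n) (hy : y ≤ n)
    (h : x * y = n * n) : x = n ∧ y = n := by
  have hx' : x = n := by
    by_contra hne
    have hlt : x < n := lt_of_le_of_ne hx hne
    have h1 : x * y ≤ x * n := Nat.mul_le_mul_left x hy
    have h2 : x * n < n * n := Nat.mul_lt_mul_of_pos_right hlt hn
    omega
  subst hx'
  exact ⟨rfl, Nat.eq_of_mul_eq_mul_left hn h⟩

theorem main : EF2.{u} := by
  intro p q _ _ hpq heven K _ _ lam hcard hlamq
  have hp : p.Prime := Fact.out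
  have hq : q.Prime := Fact.out
  have : NeZero q := ⟨hq.ne_zero⟩
  -- the order `a` of `p` modulo `q` is positive
  have hp0 : (p : ZMod q) ≠ 0 := by
    intro h
    have h1 : q ∣ p := (ZMod.natCast_eq_zero_iff p q).mp h
    exact hpq ((Nat.prime_dvd_prime_iff_eq hq hp).mp h1).symm
  have hapos : 0 < orderOf (p : ZMod q) := by
    rw [orderOf_pos_iff, isOfFinOrder_iff_pow_eq_one]
    exact ⟨q - 1, Nat.sub_pos_of_lt hq.one_lt, ZMod.pow_card_sub_one_eq_one hp0⟩
  obtain ⟨m, hm⟩ : ∃ m, orderOf (p : ZMod q) = 2 * m := ⟨orderOf (p : ZMod q) / 2, by omega⟩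
  have hm2 : orderOf (p : ZMod q) / 2 = m := by omega
  have hmpos : 0 < m := by omega
  rw [hm2]
  rw [hm] at hcard
  -- `q ∣ p^m + 1`
  have hqdvd : q ∣ p ^ m + 1 := by
    have h1 : ((p : ZMod q) ^ m) * ((p : ZMod q) ^ m) = 1 := by
      rw [← pow_add, ← two_mul, ← hm, pow_orderOf_eq_one]
    have h2 : (p : ZMod q) ^ m ≠ 1 :=
      pow_ne_one_of_lt_orderOf hmpos.ne' (by omega)
    have h3 : (p : ZMod q) ^ m = -1 := (mul_self_eq_one_iff.mp h1).resolve_left h2
    rw [← ZMod.natCast_eq_zero_iff]
    push_cast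
    rw [h3, neg_add_cancel]
  -- characteristic `p`
  haveI := Fintype.ofFinite K
  have hcardF : Fintype.card K = p ^ (2 * m) := by
    rw [← Nat.card_eq_fintype_card]; exact hcard
  obtain ⟨c, hc⟩ := CharP.exists K
  obtain ⟨n, hcp, hcn⟩ := FiniteField.card K c
  have hcp' : c = p := by
    rw [hcardF] at hcn
    have h2 : c ∣ p ^ (2 * m) := by rw [hcn]; exact dvd_pow_self c n.ne_zero
    exact (Nat.prime_dvd_prime_iff_eq hcp hp).mp (hcp.dvd_of_dvd_pow h2)
  rw [hcp'] at hc
  have : CharP K p := hc
  have : ExpChar K p := ExpChar.prime hp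
  -- the involution
  let s : K →+* K := iterateFrobenius K p m
  have hs : ∀ x : K, s x = x ^ p ^ m := fun x => iterateFrobenius_def p m x
  have hss : ∀ x : K, s (s x) = x := by
    intro x
    rw [hs, hs, ← pow_mul, ← pow_add, ← two_mul, ← hcardF, FiniteField.pow_card]
  have hlam : lam * s lam = 1 := by
    obtain ⟨k, hk⟩ := hqdvd
    rw [hs, ← pow_succ', hk, pow_mul, hlamq, one_pow]
  have hpm : 1 < p ^ m := Nat.one_lt_pow hmpos.ne' hp.one_lt
  -- the additive map `z ↦ z + s z`
  let T : K →+ K := AddMonoidHom.id K + s.toAddMonoidHom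
  have hT : ∀ z : K, T z = z + s z := fun z => rfl
  -- the kernel has at most `p^m` elements
  have hker : Nat.card T.ker ≤ p ^ m := by
    have hdeg : ((X : K[X]) ^ p ^ m + X).Monic :=
      monic_X_pow_add (by rw [degree_X]; exact_mod_cast hpm)
    have h1 := card_le_natDegree ((X : K[X]) ^ p ^ m + X) hdeg.ne_zero (T.ker : Set K) (by
      intro z hz
      have h2 : T z = 0 := hz
      rw [hT, hs] at h2
      rw [eval_add, eval_pow, eval_X]
      rw [← h2]; ring)
    have h3 : ((X : K[X]) ^ p ^ m + X).natDegree ≤ p ^ m := by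
      refine (natDegree_add_le _ _).trans ?_
      rw [natDegree_X_pow, natDegree_X]
      exact max_le le_rfl hpm.le
    exact h1.trans h3
  -- the fixed points of `s`
  have hfix : Nat.card {c : K | s c = c} ≤ p ^ m := by
    have h1 := card_le_natDegree ((X : K[X]) ^ p ^ m - X)
      (FiniteField.X_pow_card_sub_X_ne_zero K hpm) {c : K | s c = c} (by
      intro z hz
      have h2 : s z = z := hz
      rw [hs] at h2
      rw [eval_sub, eval_pow, eval_X, h2, sub_self])
    rwa [FiniteField.X_pow_card_sub_X_natDegree_eq K hpm] at h1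
  have hrange_sub : (T.range : Set K) ⊆ {c : K | s c = c} := by
    rintro _ ⟨z, rfl⟩
    show s (T z) = T z
    rw [hT, map_add, hss, add_comm]
  have hrange : Nat.card T.range ≤ p ^ m := by
    have h1 : Nat.card T.range ≤ Nat.card {c : K | s c = c} := by
      have e1 : Nat.card T.range = (T.range : Set K).ncard := Nat.card_coe_set_eq _
      have e2 : Nat.card {c : K | s c = c} = {c : K | s c = c}.ncard := Nat.card_coe_set_eq _
      rw [e1, e2]
      exact Set.ncard_le_ncard hrange_sub (Set.toFinite _)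
    exact h1.trans hfix
  have hprod : Nat.card T.ker * Nat.card T.range = p ^ m * p ^ m := by
    have h1 := AddSubgroup.card_eq_card_quotient_mul_card_addSubgroup T.ker
    have h2 : Nat.card (K ⧸ T.ker) = Nat.card T.range :=
      Nat.card_congr (QuotientAddGroup.quotientKerEquivRange T).toEquiv
    rw [h2, hcard] at h1
    rw [mul_comm, ← h1, ← pow_add, two_mul]
  obtain ⟨hk, hr⟩ := eq_of_le_of_mul_eq (Nat.pos_of_ne_zero (by positivity)) hker hrange hprod
  refine ⟨s, hss, hlam, ?_, ?_⟩
  · rw [← hk]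
    exact Nat.card_congr (Equiv.subtypeEquivRight (fun z => by
      rw [AddMonoidHom.mem_ker, hT]))
  · intro c hc
    have heq : (T.range : Set K) = {c : K | s c = c} := by
      apply Set.eq_of_subset_of_ncard_le hrange_sub _ (Set.toFinite _)
      have e1 : Nat.card T.range = (T.range : Set K).ncard := Nat.card_coe_set_eq _
      have e2 : Nat.card {c : K | s c = c} = {c : K | s c = c}.ncard := Nat.card_coe_set_eq _
      rw [← e1, ← e2, hr]
      exact hfix
    have hc' : c ∈ (T.range : Set K) := by rw [heq]; exact hc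
    obtain ⟨z, hz⟩ := hc'
    exact ⟨z, hz⟩

end Cfsg.Agent.Lib.Helper31.UniEF2
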