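import Mathlib
import Cfsg.Agent.Lib.Helper4.UniStmt

/-!
S4395 piece `EVENALG`: a nonzero `lam`-invariant antisymmetric biadditive map on a finite field
`F` without proper nonzero `lam`-stable additive subgroups forces `lam² = 1` or `|F|` a square.
-/

set_option autoImplicit false

namespace Cfsg.Agent.Lib.Helper31.UniEVENALG

open Cfsg.Agent.Lib.Helper4.UniStmt

universe u

theorem main : EVENALG.{u} := by
  intro F _ _ lam hlam hirr Z _ B hadd1 hadd2 hanti hinv hne
  have hB0l : ∀ y, B 0 y = 0 := by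
    intro y
    have h := hadd1 0 0 y
    rw [add_zero] at h
    exact left_eq_add.mp h
  have hB0r : ∀ x, B x 0 = 0 := by
    intro x
    have h := hadd2 x 0 0
    rw [add_zero] at h
    exact left_eq_add.mp h
  have hBnegl : ∀ x y, B (-x) y = - B x y := by
    intro x y
    have h := hadd1 x (-x) y
    rw [add_neg_cancel, hB0l] at h
    exact eq_neg_of_add_eq_zero_right h.symm
  have hBnegr : ∀ x y, B x (-y) = - B x y := by
    intro x y
    have h := hadd2 x y (-y)
    rw [add_neg_cancel, hB0r] at h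
    exact eq_neg_of_add_eq_zero_right h.symm
  have hBsubr : ∀ x y y', B x (y - y') = B x y - B x y' := by
    intro x y y'
    rw [sub_eq_add_neg, hadd2, hBnegr, ← sub_eq_add_neg]
  -- the elements having an adjoint
  let R : AddSubgroup F :=
    { carrier := {c | ∃ c', ∀ x y, B (c * x) y = B x (c' * y)}
      zero_mem' := ⟨0, fun x y => by rw [zero_mul, zero_mul, hB0l, hB0r]⟩
      add_mem' := by
        rintro c d ⟨c', hc⟩ ⟨d', hd⟩
        exact ⟨c' + d', fun x y => by rw [add_mul, add_mul, hadd1, hadd2, hc, hd]⟩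
      neg_mem' := by
        rintro c ⟨c', hc⟩
        exact ⟨-c', fun x y => by rw [neg_mul, neg_mul, hBnegl, hBnegr, hc]⟩ }
  have hRtop : R = ⊤ := by
    have hstab : ∀ c ∈ R, lam * c ∈ R := by
      rintro c ⟨c', hc⟩
      refine ⟨lam⁻¹ * c', fun x y => ?_⟩
      have h1 : B (lam * c * x) y = B (lam * (c * x)) (lam * (lam⁻¹ * y)) := by
        rw [mul_assoc, mul_inv_cancel_left₀ hlam]
      have h2 : c' * (lam⁻¹ * y) = lam⁻¹ * c' * y := by ring
      rw [h1, hinv, hc, h2]
    rcases hirr R hstab with h | h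
    · exfalso
      have h1 : (1 : F) ∈ R := ⟨1, fun x y => by rw [one_mul, one_mul]⟩
      rw [h] at h1
      exact one_ne_zero ((AddSubgroup.mem_bot).mp h1)
    · exact h
  -- the radical
  let Rad : AddSubgroup F :=
    { carrier := {d | ∀ x y, B x (d * y) = 0}
      zero_mem' := fun x y => by rw [zero_mul, hB0r]
      add_mem' := by
        intro c d hc hd x y
        rw [add_mul, hadd2, hc, hd, add_zero]
      neg_mem' := by
        intro c hc x y
        rw [neg_mul, hBnegr, hc, neg_zero] }
  have hRadbot : Rad = ⊥ := by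
    have hstab : ∀ d ∈ Rad, lam * d ∈ Rad := by
      intro d hd x y
      have h1 : B x (lam * d * y) = B (lam * (lam⁻¹ * x)) (lam * (d * y)) := by
        rw [mul_assoc, mul_inv_cancel_left₀ hlam]
      rw [h1, hinv]
      exact hd _ _
    rcases hirr Rad hstab with h | h
    · exact h
    · exfalso
      obtain ⟨x, y, hxy⟩ := hne
      have h1 : (1 : F) ∈ Rad := by rw [h]; exact AddSubgroup.mem_top _
      have h2 := h1 x y
      rw [one_mul] at h2
      exact hxy h2
  -- uniqueness of adjoints
  have huniq : ∀ c c' c'' : F, (∀ x y, B (c * x) y = B x (c' * y)) →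
      (∀ x y, B (c * x) y = B x (c'' * y)) → c' = c'' := by
    intro c c' c'' h1 h2
    have h3 : c' - c'' ∈ Rad := by
      intro x y
      rw [sub_mul, hBsubr, ← h1, ← h2, sub_self]
    rw [hRadbot] at h3
    exact sub_eq_zero.mp ((AddSubgroup.mem_bot).mp h3)
  have hex : ∀ c : F, ∃ c', ∀ x y, B (c * x) y = B x (c' * y) := by
    intro c
    have : c ∈ R := by rw [hRtop]; exact AddSubgroup.mem_top _
    exact this
  choose τ hτ using hex
  have τ_zero : τ 0 = 0 :=
    huniq 0 _ _ (hτ 0) (fun x y => by rw [zero_mul, zero_mul, hB0l, hB0r])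
  have τ_one : τ 1 = 1 :=
    huniq 1 _ _ (hτ 1) (fun x y => by rw [one_mul, one_mul])
  have τ_add : ∀ c d, τ (c + d) = τ c + τ d := by
    intro c d
    exact huniq (c + d) _ _ (hτ (c + d))
      (fun x y => by rw [add_mul, add_mul, hadd1, hadd2, hτ c, hτ d])
  have τ_mul : ∀ c d, τ (c * d) = τ c * τ d := by
    intro c d
    refine huniq (c * d) _ _ (hτ (c * d)) (fun x y => ?_)
    have h2 : τ d * (τ c * y) = τ c * τ d * y := by ring
    rw [mul_assoc, hτ c, hτ d, h2]
  have τ_lam : τ lam = lam⁻¹ := by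
    refine huniq lam _ _ (hτ lam) (fun x y => ?_)
    have h1 : B (lam * x) y = B (lam * x) (lam * (lam⁻¹ * y)) := by
      rw [mul_inv_cancel_left₀ hlam]
    rw [h1, hinv]
  have τ_invol : ∀ c, τ (τ c) = c := by
    intro c
    refine huniq (τ c) _ _ (hτ (τ c)) (fun x y => ?_)
    rw [hanti y (τ c * x), ← hτ c, hanti x (c * y), neg_neg]
  let τr : F →+* F :=
    { toFun := τ
      map_one' := τ_one
      map_mul' := τ_mul
      map_zero' := τ_zero
      map_add' := τ_add }
  have τr_apply : ∀ c, τr c = τ c := fun c => rfl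
  by_cases hid : ∀ c, τ c = c
  · left
    have h1 : lam = lam⁻¹ := by rw [← τ_lam, hid]
    calc lam * lam = lam * lam⁻¹ := by rw [← h1]
      _ = 1 := mul_inv_cancel₀ hlam
  · right
    push Not at hid
    obtain ⟨θ, hθ⟩ := hid
    have hθ' : θ - τ θ ≠ 0 := fun h => hθ (sub_eq_zero.mp h).symm
    let f : {x : F // τ x = x} × {x : F // τ x = x} → F := fun ab => ab.1.1 + ab.2.1 * θ
    have hf : Function.Bijective f := by
      constructor
      · rintro ⟨⟨a, ha⟩, ⟨b, hb⟩⟩ ⟨⟨a', ha'⟩, ⟨b', hb'⟩⟩ h
        have h0 : a + b * θ = a' + b' * θ := h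
        have h1 : τ (a + b * θ) = τ (a' + b' * θ) := by rw [h0]
        rw [τ_add, τ_mul, τ_add, τ_mul, ha, hb, ha', hb'] at h1
        have h2 : (b - b') * (θ - τ θ) = 0 := by linear_combination h0 - h1
        have h3 : b = b' := sub_eq_zero.mp ((mul_eq_zero.mp h2).resolve_right hθ')
        have h4 : a = a' := by
          rw [h3] at h0
          exact add_right_cancel h0
        subst h3
        subst h4
        rfl
      · intro x
        have hb : τ ((x - τ x) / (θ - τ θ)) = (x - τ x) / (θ - τ θ) := by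
          have h1 : τ ((x - τ x) / (θ - τ θ)) = τr (x - τ x) / τr (θ - τ θ) :=
            map_div₀ τr _ _
          have h2 : τr (x - τ x) = -(x - τ x) := by
            rw [map_sub, τr_apply, τr_apply, τ_invol]; ring
          have h3 : τr (θ - τ θ) = -(θ - τ θ) := by
            rw [map_sub, τr_apply, τr_apply, τ_invol]; ring
          rw [h1, h2, h3, neg_div_neg_eq]
        have ha : τ (x - (x - τ x) / (θ - τ θ) * θ) = x - (x - τ x) / (θ - τ θ) * θ := by
          have h1 : τ (x - (x - τ x) / (θ - τ θ) * θ) =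
              τ x - τ ((x - τ x) / (θ - τ θ)) * τ θ := by
            rw [← τr_apply, map_sub, map_mul, τr_apply, τr_apply, τr_apply]
          rw [h1, hb]
          have h2 : (x - τ x) / (θ - τ θ) * (θ - τ θ) = x - τ x := div_mul_cancel₀ _ hθ'
          linear_combination h2
        refine ⟨(⟨x - (x - τ x) / (θ - τ θ) * θ, ha⟩, ⟨(x - τ x) / (θ - τ θ), hb⟩), ?_⟩
        show x - (x - τ x) / (θ - τ θ) * θ + (x - τ x) / (θ - τ θ) * θ = x
        ring
    refine ⟨Nat.card {x : F // τ x = x}, ?_⟩
    rw [← Nat.card_prod]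
    exact (Nat.card_congr (Equiv.ofBijective f hf)).symm

end Cfsg.Agent.Lib.Helper31.UniEVENALG
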