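import Mathlib
import Cfsg.Prelude.Def_LocalStructure
import Cfsg.Prelude.Def_Local

/-!
# S2860 (large `Q ≤ E ≤ N(U)`, `O^p(E) C_E(U) / C_E(U)` quasisimple): piece statements

Every piece is a `Prop` here; it is proved in its own file as
`theorem main : Cfsg.Agent.Lib.Helper31.ECStmt.<Name>.{u}` (see the board call).

Setting of the transfer pieces: `E, C ≤ G` with `C ∩ E` normal in `E`; `X = E / (C ∩ E)`;
`im E C A` is the image in `X` of a subgroup `A ≤ E` of `G`; `Kbar p E C` is the image of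
`O^p(E)` (written exactly as in the statement of S2860).
-/

set_option autoImplicit false

namespace Cfsg.Agent.Lib.Helper31.ECStmt

universe u

open Cfsg

/-- the image in `E / (C ∩ E)` of the subgroup `A` of `G` (in use `A ≤ E`) -/
def im {G : Type u} [Group G] (E C : Subgroup G) [(C.subgroupOf E).Normal] (A : Subgroup G) :
    Subgroup (↥E ⧸ C.subgroupOf E) :=
  (A.subgroupOf E).map (QuotientGroup.mk' (C.subgroupOf E))

/-- `K̄ = O^p(E) (C ∩ E) / (C ∩ E)`, written exactly as in the statement of S2860 -/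
def Kbar {G : Type u} [Group G] (p : ℕ) (E C : Subgroup G) [(C.subgroupOf E).Normal] :
    Subgroup (↥E ⧸ C.subgroupOf E) :=
  (Cfsg.pResidual p ↥E ⊔ C.subgroupOf E).map (QuotientGroup.mk' (C.subgroupOf E))

/-! ## abstract pieces -/

/-- [QSA] `O_p(X) = 1`, `K ⊴ X` quasisimple with `X / K` a `p`-group: every normal subgroup of
`X` containing a nontrivial `p`-element contains `K`. -/
def QSA : Prop := ∀ (X : Type u) [Group X] [Finite X] (p : ℕ) [Fact p.Prime] (K : Subgroup X),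
  Cfsg.pCore p X = ⊥ → K.Normal → Cfsg.IsQuasisimple ↥K → (∀ x : X, ∃ n : ℕ, x ^ p ^ n ∈ K) →
  ∀ N : Subgroup X, N.Normal → (∃ y ∈ N, y ≠ 1 ∧ ∃ n : ℕ, y ^ p ^ n = 1) → K ≤ N

/-- [QSB] same setting: `[K, Y] = K` for every nontrivial `p`-subgroup `Y` of `X`. -/
def QSB : Prop := QSA.{u} →
  ∀ (X : Type u) [Group X] [Finite X] (p : ℕ) [Fact p.Prime] (K : Subgroup X),
  Cfsg.pCore p X = ⊥ → K.Normal → Cfsg.IsQuasisimple ↥K → (∀ x : X, ∃ n : ℕ, x ^ p ^ n ∈ K) →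
  ∀ Y : Subgroup X, IsPGroup p ↥Y → Y ≠ ⊥ → ⁅K, Y⁆ = K

/-- [ABPERF] a `p`-element of `M = O^p(L)` lies in `[M, M]` (`M / [M, M]` is an abelian group
generated by `p'`-elements, hence a `p'`-group). -/
def ABPERF : Prop := ∀ (G : Type u) [Group G] [Finite G] (p : ℕ) [Fact p.Prime] (L : Subgroup G)
  (x : G), x ∈ (Cfsg.pResidual p ↥L).map L.subtype → (∃ n : ℕ, x ^ p ^ n = 1) →
  x ∈ ⁅(Cfsg.pResidual p ↥L).map L.subtype, (Cfsg.pResidual p ↥L).map L.subtype⁆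

/-- [YGEN] `X` perfect with `O^p(X) = X`, `N ⊴ X`, `X = N D` and `[X, D] ≤ R` for a `p`-subgroup
`R`: then `N = X`. -/
def YGEN : Prop := ∀ (X : Type u) [Group X] [Finite X] (p : ℕ) [Fact p.Prime] (N D R : Subgroup X),
  Group.IsPerfect X → Cfsg.pResidual p X = ⊤ → N.Normal → N ⊔ D = ⊤ →
  (∀ x : X, ∀ d ∈ D, x * d * x⁻¹ * d⁻¹ ∈ R) → IsPGroup p ↥R → N = ⊤

/-- [QS5] `X` perfect, `R ≤ D` normal, `D / R` central in `X / R`, `X / D` quasisimple:
then `X / R` is quasisimple. -/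
def QS5 : Prop := ∀ (X : Type u) [Group X] [Finite X] (R D : Subgroup X) [R.Normal] [D.Normal],
  Group.IsPerfect X → R ≤ D → (∀ x : X, ∀ d ∈ D, x * d * x⁻¹ * d⁻¹ ∈ R) →
  Cfsg.IsQuasisimple (X ⧸ D) → Cfsg.IsQuasisimple (X ⧸ R)

/-! ## transfer pieces (`G ⊇ E → E / (C ∩ E)`) -/

/-- [IMLE] comparison of images: `im A ≤ im B ↔ A ≤ B (E ∩ C)`. -/
def IMLE : Prop := ∀ (G : Type u) [Group G] (E C : Subgroup G) [(C.subgroupOf E).Normal]
  (A B : Subgroup G), A ≤ E → B ≤ E → (im E C A ≤ im E C B ↔ A ≤ B ⊔ (E ⊓ C))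

/-- [IMCOMM] the image of a commutator subgroup. -/
def IMCOMM : Prop := ∀ (G : Type u) [Group G] (E C : Subgroup G) [(C.subgroupOf E).Normal]
  (A B : Subgroup G), A ≤ E → B ≤ E → im E C ⁅A, B⁆ = ⁅im E C A, im E C B⁆

/-- [IMBASIC] images of `E`-invariant subgroups are normal, images of `p`-groups are `p`-groups,
and `im A = 1 ↔ A ≤ C`. -/
def IMBASIC : Prop := ∀ (G : Type u) [Group G] [Finite G] (p : ℕ) [Fact p.Prime]
  (E C : Subgroup G) [(C.subgroupOf E).Normal] (A : Subgroup G), A ≤ E →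
  ((E ≤ Subgroup.normalizer (A : Set G)) → (im E C A).Normal) ∧
  (IsPGroup p ↥A → IsPGroup p ↥(im E C A)) ∧
  (im E C A = ⊥ ↔ A ≤ C)

/-- [IMK] `K̄` is the image of `O^p(E)` (as a subgroup of `G`), it is normal, and the quotient by
it is a `p`-group. -/
def IMK : Prop := ∀ (G : Type u) [Group G] [Finite G] (p : ℕ) [Fact p.Prime]
  (E C : Subgroup G) [(C.subgroupOf E).Normal],
  Kbar p E C = im E C ((Cfsg.pResidual p ↥E).map E.subtype) ∧ (Kbar p E C).Normal ∧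
  ∀ x : ↥E ⧸ C.subgroupOf E, ∃ n : ℕ, x ^ p ^ n ∈ Kbar p E C

/-- [QISO] if `A ≤ E` has image `K̄` then `A / (C ∩ A) ≅ K̄`. -/
def QISO : Prop := ∀ (G : Type u) [Group G] (p : ℕ) (E C : Subgroup G)
  [(C.subgroupOf E).Normal] (A : Subgroup G) [(C.subgroupOf A).Normal], A ≤ E →
  im E C A = Kbar p E C → Nonempty (↥A ⧸ C.subgroupOf A ≃* ↥(Kbar p E C))

end Cfsg.Agent.Lib.Helper31.ECStmt
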