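import Mathlib
import Cfsg.Prelude.Def_LocalStructure
import Cfsg.Agent.Lib.Helper47.Syl

set_option autoImplicit false

/-!
# The L-Lemma: fusion control in a group that is minimal over a `p`-subgroup

Ambient formulation: all groups are subgroups of one finite group `G`.

* `Dat p X F`: `F` is a proper non-normal subgroup of `X` which contains every proper subgroup
  of `X` over some `p`-subgroup `U ≤ F` (so `X` is `U`-minimal with maximal subgroup `F`).
* `Pair X F A`: there are `g ∈ X` and `L ≤ X` with `A ≤ L`, `A ≤ gFg⁻¹`, `L ≰ gFg⁻¹`, and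
  `gFg⁻¹` controls the `L`-conjugates of `A` that fall into it.
* `main`: in the situation `Dat p X F`, every `p`-subgroup `A ≤ X` with `A ≰ O_p(X)` has a `Pair`.

The proof is a double induction (on `|X|`, then downward on `|A|`) with a zipper step
`A ↦ A·wAw⁻¹`.
-/

namespace Cfsg.Agent.Lib.Helper31.LLemma

open Cfsg Cfsg.Agent.Lib.Helper47.Syl

variable {G : Type*} [Group G]

/-- the conjugate `g H g⁻¹` -/
abbrev cj (g : G) (H : Subgroup G) : Subgroup G := H.map (MulAut.conj g).toMonoidHom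

theorem mem_cj {H : Subgroup G} {g x : G} : x ∈ cj g H ↔ g⁻¹ * x * g ∈ H := mem_map_conj

theorem cj_mono {H K : Subgroup G} (g : G) (h : H ≤ K) : cj g H ≤ cj g K := Subgroup.map_mono h

theorem cj_cj (H : Subgroup G) (g h : G) : cj g (cj h H) = cj (g * h) H := map_conj_map_conj H g h

theorem cj_one (H : Subgroup G) : cj 1 H = H := map_conj_one H

theorem cj_inv_cj (H : Subgroup G) (g : G) : cj g⁻¹ (cj g H) = H := map_conj_inv_map_conj H g

theorem cj_cj_inv (H : Subgroup G) (g : G) : cj g (cj g⁻¹ H) = H := by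
  rw [cj_cj, mul_inv_cancel, cj_one]

theorem le_cj_iff {H K : Subgroup G} {g : G} : H ≤ cj g K ↔ cj g⁻¹ H ≤ K := by
  constructor
  · intro h
    have := cj_mono g⁻¹ h
    rwa [cj_inv_cj] at this
  · intro h
    have := cj_mono g h
    rwa [cj_cj_inv] at this

theorem cj_le_iff {H K : Subgroup G} {g : G} : cj g H ≤ K ↔ H ≤ cj g⁻¹ K := by
  rw [le_cj_iff, inv_inv]

theorem cj_eq_of_mem {H : Subgroup G} {g : G} (hg : g ∈ H) : cj g H = H :=
  map_conj_eq_of_mem_normalizer (Subgroup.le_normalizer hg)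

theorem cj_le_of_mem {H K : Subgroup G} {g : G} (hg : g ∈ K) (h : H ≤ K) : cj g H ≤ K := by
  have := cj_mono g h
  rwa [cj_eq_of_mem hg] at this

theorem card_cj [Finite G] (H : Subgroup G) (g : G) : Nat.card (cj g H) = Nat.card H :=
  card_map_conj H g

theorem cj_sup (H K : Subgroup G) (g : G) : cj g (H ⊔ K) = cj g H ⊔ cj g K := Subgroup.map_sup H K _

theorem cj_normalizer (H : Subgroup G) (g : G) :
    cj g (Subgroup.normalizer (H : Set G)) = Subgroup.normalizer ((cj g H : Subgroup G) : Set G) :=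
  Subgroup.map_equiv_normalizer_eq H (MulAut.conj g)

theorem isPGroup_cj {p : ℕ} {H : Subgroup G} (h : IsPGroup p H) (g : G) : IsPGroup p (cj g H) :=
  h.map _

theorem cj_ne_of_ne [Finite G] {H X : Subgroup G} (g : G) (hHX : H ≤ X) (hne : H ≠ X) :
    cj g H ≠ X := by
  intro h
  apply hne
  exact Subgroup.eq_of_le_of_card_ge hHX (by rw [← h, card_cj])

theorem card_lt_of_lt [Finite G] {H K : Subgroup G} (h : H ≤ K) (hne : H ≠ K) :
    Nat.card H < Nat.card K := by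
  by_contra hc
  exact hne (Subgroup.eq_of_le_of_card_ge h (not_lt.mp hc))

/-- minimal subgroups with a property exist below any subgroup with that property -/
theorem exists_min [Finite G] (P : Subgroup G → Prop) {L : Subgroup G} (hL : P L) :
    ∃ Y : Subgroup G, Y ≤ L ∧ P Y ∧ ∀ Z : Subgroup G, Z < Y → ¬ P Z := by
  have hwf : WellFounded ((· < ·) : Subgroup G → Subgroup G → Prop) := wellFounded_lt
  obtain ⟨Y, ⟨hYL, hY⟩, hmin⟩ := hwf.has_min {Y : Subgroup G | Y ≤ L ∧ P Y} ⟨L, le_rfl, hL⟩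
  exact ⟨Y, hYL, hY, fun Z hZ hPZ => hmin Z ⟨hZ.le.trans hYL, hPZ⟩ hZ⟩

/-- `X` is minimal over a `p`-subgroup, with (non-normal) maximal subgroup `F` -/
def Dat (p : ℕ) (X F : Subgroup G) : Prop :=
  F ≤ X ∧ ¬ X ≤ Subgroup.normalizer (F : Set G) ∧
    ∃ U : Subgroup G, IsPGroup p U ∧ U ≤ F ∧
      ∀ Y : Subgroup G, Y ≤ X → Y ≠ X → U ≤ Y → Y ≤ F

/-- fusion control pair -/
def Pair (X F A : Subgroup G) : Prop :=
  ∃ g ∈ X, ∃ L : Subgroup G, L ≤ X ∧ A ≤ L ∧ A ≤ cj g F ∧ ¬ L ≤ cj g F ∧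
    ∀ l ∈ L, cj l A ≤ cj g F → l ∈ cj g F

theorem Dat.ne {p : ℕ} {X F : Subgroup G} (h : Dat p X F) : F ≠ X := by
  intro hFX
  exact h.2.1 (hFX ▸ Subgroup.le_normalizer)

theorem Dat.not_le {p : ℕ} {X F : Subgroup G} (h : Dat p X F) : ¬ X ≤ F :=
  fun hle => h.ne (le_antisymm h.1 hle)

/-- an element of `X` that conjugates `F` into itself lies in `F` -/
theorem Dat.mem_of_cj_le [Finite G] {p : ℕ} {X F : Subgroup G} (h : Dat p X F) {x : G}
    (hx : x ∈ X) (hle : cj x F ≤ F) : x ∈ F := by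
  obtain ⟨hFX, hnn, U, _, hUF, hU⟩ := h
  have h1 : x ∈ Subgroup.normalizer (F : Set G) := mem_normalizer_of_map_conj_le hle
  have h2 : X ⊓ Subgroup.normalizer (F : Set G) ≤ F := by
    apply hU _ inf_le_left
    · intro heq
      exact hnn (heq ▸ inf_le_right)
    · exact hUF.trans (le_inf hFX Subgroup.le_normalizer)
  exact h2 ⟨hx, h1⟩

theorem Dat.conj [Finite G] {p : ℕ} {X F : Subgroup G} (h : Dat p X F) {g : G} (hg : g ∈ X) :
    Dat p X (cj g F) := by
  obtain ⟨hFX, hnn, U, hUp, hUF, hU⟩ := h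
  refine ⟨cj_le_of_mem hg hFX, ?_, cj g U, isPGroup_cj hUp g, cj_mono g hUF, ?_⟩
  · intro hX
    apply hnn
    rw [← cj_normalizer, le_cj_iff, cj_eq_of_mem (X.inv_mem hg)] at hX
    exact hX
  · intro Y hYX hYne hUY
    rw [le_cj_iff]
    apply hU
    · exact cj_le_of_mem (X.inv_mem hg) hYX
    · exact cj_ne_of_ne g⁻¹ hYX hYne
    · exact cj_le_iff.mp hUY

/-- a Sylow subgroup of `X` inside `F` over which `F` is the unique maximal subgroup -/
theorem Dat.exists_syl [Finite G] {p : ℕ} [Fact p.Prime] {X F : Subgroup G} (h : Dat p X F) :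
    ∃ S : Subgroup G, IsSyl p S X ∧ S ≤ F ∧
      ∀ Y : Subgroup G, Y ≤ X → Y ≠ X → S ≤ Y → Y ≤ F := by
  obtain ⟨hFX, hnn, U, hUp, hUF, hU⟩ := id h
  obtain ⟨S, hS, hUS⟩ := exists_isSyl_ge hUp (hUF.trans hFX)
  have hSne : S ≠ X := by
    intro hSX
    -- then `X` is a `p`-group, and `F < X` has a larger normalizer
    have hXp : IsPGroup p X := hSX ▸ hS.2.1
    have hlt : F < X := lt_of_le_of_ne hFX h.ne
    obtain ⟨x, hxX, hxF, hxN⟩ := exists_mem_normalizer_not_mem hXp hlt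
    exact hxF (h.mem_of_cj_le hxX (map_conj_eq_of_mem_normalizer hxN).le)
  exact ⟨S, hS, hU S hS.1 hSne hUS, fun Y hYX hYne hSY => hU Y hYX hYne (hUS.trans hSY)⟩

theorem Dat.pCoreOf_le [Finite G] {p : ℕ} [Fact p.Prime] {X F : Subgroup G} (h : Dat p X F) :
    pCoreOf p X ≤ F := by
  obtain ⟨S, hS, hSF, _⟩ := h.exists_syl
  exact hS.pCoreOf_le.trans hSF

/-- a minimal subgroup over `A` not inside `E`, in which `E` controls the conjugates of `A`,
is minimal over `A` in the sense of `Dat` -/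
theorem dat_of_min [Finite G] {p : ℕ} {X₂ E A : Subgroup G}
    (hAp : IsPGroup p A) (hAX : A ≤ X₂) (hAE : A ≤ E) (hn : ¬ X₂ ≤ E)
    (hmin : ∀ Z : Subgroup G, Z < X₂ → A ≤ Z → Z ≤ E)
    (hval : ∀ l ∈ X₂, cj l A ≤ E → l ∈ E) : Dat p X₂ (X₂ ⊓ E) := by
  refine ⟨inf_le_left, ?_, A, hAp, le_inf hAX hAE,
    fun Y hYX hYne hAY => le_inf hYX (hmin Y (lt_of_le_of_ne hYX hYne) hAY)⟩
  intro hX
  obtain ⟨l, hl, hlE⟩ := SetLike.not_le_iff_exists.mp hn
  apply hlE
  apply hval l hl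
  intro y hy
  rw [mem_cj] at hy
  have h1 : l⁻¹ * y * l ∈ X₂ ⊓ E := ⟨hAX hy, hAE hy⟩
  have h2 := conj_mem_of_mem_normalizer (hX hl) h1
  have h3 : l * (l⁻¹ * y * l) * l⁻¹ = y := by group
  rw [h3] at h2
  exact h2.2

theorem Pair.up {X X₂ F B : Subgroup G} {g : G} (hX₂ : X₂ ≤ X) (hg : g ∈ X)
    (hBX₂ : B ≤ X₂) (h : Pair X₂ (X₂ ⊓ cj g F) B) : Pair X F B := by
  obtain ⟨h', hh', L, hLX₂, hBL, hBh, hLn, hval⟩ := h
  have key1 : cj h' (X₂ ⊓ cj g F) ≤ cj (h' * g) F := by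
    rw [← cj_cj]
    exact cj_mono h' inf_le_right
  have key2 : ∀ K : Subgroup G, K ≤ X₂ → K ≤ cj (h' * g) F → K ≤ cj h' (X₂ ⊓ cj g F) := by
    intro K hK hle y hy
    rw [mem_cj]
    refine ⟨X₂.mul_mem (X₂.mul_mem (X₂.inv_mem hh') (hK hy)) hh', ?_⟩
    have h1 := hle hy
    rw [← cj_cj, mem_cj] at h1
    exact h1
  refine ⟨h' * g, X.mul_mem (hX₂ hh') hg, L, hLX₂.trans hX₂, hBL, hBh.trans key1,
    fun hle => hLn (key2 L hLX₂ hle), ?_⟩
  intro l hlL hl
  exact key1 (hval l hlL (key2 _ (cj_le_of_mem (hLX₂ hlL) hBX₂) hl))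

theorem Pair.of_conj {X F A : Subgroup G} {w : G} (hw : w ∈ X)
    (h : Pair X F (cj w A)) : Pair X F A := by
  obtain ⟨g, hg, L, hLX, hAL, hAg, hLn, hval⟩ := h
  refine ⟨w⁻¹ * g, X.mul_mem (X.inv_mem hw) hg, cj w⁻¹ L, cj_le_of_mem (X.inv_mem hw) hLX,
    ?_, ?_, ?_, ?_⟩
  · rw [le_cj_iff, inv_inv]; exact hAL
  · rw [← cj_cj, le_cj_iff, inv_inv]; exact hAg
  · rw [← cj_cj]
    intro hle
    apply hLn
    have := cj_mono w hle
    rwa [cj_cj_inv, cj_cj_inv] at this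
  · intro l hl hlA
    rw [mem_cj, inv_inv] at hl
    have h1 : cj (w * l * w⁻¹) (cj w A) ≤ cj g F := by
      rw [cj_cj]
      have h2 : w * l * w⁻¹ * w = w * l := by group
      rw [h2, ← cj_cj]
      have := cj_mono w hlA
      rwa [← cj_cj, cj_cj_inv] at this
    have h3 := hval _ hl h1
    rw [mem_cj] at h3 ⊢
    have h4 : (w⁻¹ * g)⁻¹ * l * (w⁻¹ * g) = g⁻¹ * (w * l * w⁻¹) * g := by group
    rw [h4]
    exact h3

/-- The zipper step: from a conjugate `wAw⁻¹ ≠ A` such that `A` and `wAw⁻¹` normalize each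
other, either a pair for `A` is obtained, or `X` is minimal over `A·wAw⁻¹`. -/
theorem zipper [Finite G] {p : ℕ} [Fact p.Prime] {X F A : Subgroup G}
    (hAX : A ≤ X) (hA : IsPGroup p A) (hAc : ¬ A ≤ pCoreOf p X)
    (outer : ∀ X' : Subgroup G, Nat.card X' < Nat.card X → ∀ F' : Subgroup G, Dat p X' F' →
      ∀ A' : Subgroup G, A' ≤ X' → IsPGroup p A' → ¬ A' ≤ pCoreOf p X' → Pair X' F' A')
    (inner : ∀ A' : Subgroup G, A' ≤ X → IsPGroup p A' → ¬ A' ≤ pCoreOf p X →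
      Nat.card A < Nat.card A' → Pair X F A')
    {w : G} (hw : w ∈ X) (hne : cj w A ≠ A)
    (h2 : A ≤ Subgroup.normalizer ((cj w A : Subgroup G) : Set G)) :
    Pair X F A ∨ ∃ g ∈ X, ∀ Y : Subgroup G, Y ≤ X → Y ≠ X → A ⊔ cj w A ≤ Y → Y ≤ cj g F := by
  have hwA : cj w A ≤ X := cj_le_of_mem hw hAX
  have hA''X : A ⊔ cj w A ≤ X := sup_le hAX hwA
  have hA''p : IsPGroup p (A ⊔ cj w A : Subgroup G) :=
    IsPGroup.to_sup_of_normal_right' hA (isPGroup_cj hA w) h2
  have hcard : Nat.card A < Nat.card (A ⊔ cj w A : Subgroup G) := by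
    apply card_lt_of_lt le_sup_left
    intro heq
    apply hne
    have hle : cj w A ≤ A := by
      have : cj w A ≤ A ⊔ cj w A := le_sup_right
      rwa [← heq] at this
    exact Subgroup.eq_of_le_of_card_ge hle (card_cj A w).ge
  have hA''c : ¬ A ⊔ cj w A ≤ pCoreOf p X := fun h => hAc (le_sup_left.trans h)
  obtain ⟨g, hgX, L, hLX, hAL, hAg, hLn, hval⟩ := inner _ hA''X hA''p hA''c hcard
  obtain ⟨X₂, hX₂L, ⟨hAX₂, hX₂n⟩, hmin⟩ :=
    exists_min (fun Y : Subgroup G => A ⊔ cj w A ≤ Y ∧ ¬ Y ≤ cj g F) ⟨hAL, hLn⟩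
  have hmin' : ∀ Z : Subgroup G, Z < X₂ → A ⊔ cj w A ≤ Z → Z ≤ cj g F := by
    intro Z hZ hAZ
    by_contra hZn
    exact hmin Z hZ ⟨hAZ, hZn⟩
  have hX₂X : X₂ ≤ X := hX₂L.trans hLX
  by_cases hX₂ : X₂ = X
  · right
    refine ⟨g, hgX, fun Y hYX hYne hAY => hmin' Y ?_ hAY⟩
    rw [hX₂]
    exact lt_of_le_of_ne hYX hYne
  · left
    have hcardX : Nat.card X₂ < Nat.card X := card_lt_of_lt hX₂X hX₂
    have hval₂ : ∀ l ∈ X₂, cj l (A ⊔ cj w A) ≤ cj g F → l ∈ cj g F :=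
      fun l hl => hval l (hX₂L hl)
    have hDat : Dat p X₂ (X₂ ⊓ cj g F) := dat_of_min hA''p hAX₂ hAg hX₂n hmin' hval₂
    have hAX₂' : A ≤ X₂ := le_sup_left.trans hAX₂
    have hwAX₂ : cj w A ≤ X₂ := le_sup_right.trans hAX₂
    by_cases hB : A ≤ pCoreOf p X₂
    · have hB' : ¬ cj w A ≤ pCoreOf p X₂ := by
        intro hB'
        have hle : A ⊔ cj w A ≤ pCoreOf p X₂ := sup_le hB hB'
        obtain ⟨l, hl, hlE⟩ := SetLike.not_le_iff_exists.mp hX₂n
        apply hlE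
        apply hval₂ l hl
        have h3 : cj l (A ⊔ cj w A) ≤ cj l (pCoreOf p X₂) := cj_mono l hle
        have h4 : cj l (pCoreOf p X₂) = pCoreOf p X₂ :=
          map_conj_eq_of_mem_normalizer (le_normalizer_pCoreOf p X₂ hl)
        rw [h4] at h3
        exact h3.trans (hDat.pCoreOf_le.trans inf_le_right)
      have hP := outer X₂ hcardX _ hDat (cj w A) hwAX₂ (isPGroup_cj hA w) hB'
      exact Pair.of_conj hw (Pair.up hX₂X hgX hwAX₂ hP)
    · have hP := outer X₂ hcardX _ hDat A hAX₂' hA hB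
      exact Pair.up hX₂X hgX hAX₂' hP

/-- normalizer growth inside a `p`-group `P ∌ N(A)`: a zipper element -/
theorem exists_zip [Finite G] {p : ℕ} [Fact p.Prime] {A P : Subgroup G}
    (hP : IsPGroup p P) (hAP : A ≤ P) (hPN : ¬ P ≤ Subgroup.normalizer (A : Set G)) :
    ∃ u ∈ P, cj u A ≠ A ∧ cj u A ≤ P ⊓ Subgroup.normalizer (A : Set G) ∧
      A ≤ Subgroup.normalizer ((cj u A : Subgroup G) : Set G) := by
  have hlt : P ⊓ Subgroup.normalizer (A : Set G) < P :=
    lt_of_le_of_ne inf_le_left (fun h => hPN (h ▸ inf_le_right))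
  obtain ⟨u, huP, huQ, huN⟩ := exists_mem_normalizer_not_mem hP hlt
  have hAQ : A ≤ P ⊓ Subgroup.normalizer (A : Set G) := le_inf hAP Subgroup.le_normalizer
  have hQ : cj u (P ⊓ Subgroup.normalizer (A : Set G)) = P ⊓ Subgroup.normalizer (A : Set G) :=
    map_conj_eq_of_mem_normalizer huN
  refine ⟨u, huP, ?_, ?_, ?_⟩
  · intro heq
    exact huQ ⟨huP, Subgroup.mem_normalizer_iff_map_conj_eq.mpr heq⟩
  · have := cj_mono u hAQ
    rwa [hQ] at this
  · have h1 : P ⊓ Subgroup.normalizer (A : Set G) ≤ cj u (Subgroup.normalizer (A : Set G)) := by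
      have := cj_mono u (inf_le_right : P ⊓ Subgroup.normalizer (A : Set G) ≤ _)
      rwa [hQ] at this
    rw [← cj_normalizer]
    exact hAQ.trans h1

/-- **Main theorem** (fusion control in minimal groups). -/
theorem main [Finite G] (p : ℕ) [Fact p.Prime] :
    ∀ n : ℕ, ∀ X : Subgroup G, Nat.card X = n → ∀ F : Subgroup G, Dat p X F →
      ∀ A : Subgroup G, A ≤ X → IsPGroup p A → ¬ A ≤ pCoreOf p X → Pair X F A := by
  intro n
  induction n using Nat.strong_induction_on with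
  | _ n IH =>
  intro X hXn F hF
  have outer : ∀ X' : Subgroup G, Nat.card X' < Nat.card X → ∀ F' : Subgroup G, Dat p X' F' →
      ∀ A' : Subgroup G, A' ≤ X' → IsPGroup p A' → ¬ A' ≤ pCoreOf p X' → Pair X' F' A' :=
    fun X' hX' F' hF' A' hA'X hA'p hA'c => IH _ (hXn ▸ hX') X' rfl F' hF' A' hA'X hA'p hA'c
  -- inner induction, downward on `|A|`
  have key : ∀ k : ℕ, ∀ A : Subgroup G, Nat.card X - Nat.card A = k → A ≤ X → IsPGroup p A →
      ¬ A ≤ pCoreOf p X → Pair X F A := by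
    intro k
    induction k using Nat.strong_induction_on with
    | _ k IHk =>
    intro A hAk hAX hA hAc
    have inner : ∀ A' : Subgroup G, A' ≤ X → IsPGroup p A' → ¬ A' ≤ pCoreOf p X →
        Nat.card A < Nat.card A' → Pair X F A' := by
      intro A' hA'X hA'p hA'c hlt
      have hle : Nat.card A' ≤ Nat.card X := Subgroup.card_le_of_le hA'X
      exact IHk (Nat.card X - Nat.card A') (by omega) A' rfl hA'X hA'p hA'c
    -- `N = N_G(A)` does not contain `X`
    have hN : ¬ X ≤ Subgroup.normalizer (A : Set G) := fun h => hAc (le_pCoreOf hAX h hA)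
    have hXN : X ⊓ Subgroup.normalizer (A : Set G) ≠ X := fun h => hN (h ▸ inf_le_right)
    have hAXN : A ≤ X ⊓ Subgroup.normalizer (A : Set G) := le_inf hAX Subgroup.le_normalizer
    by_cases hC : ∃ P : Subgroup G, IsPGroup p P ∧ A ≤ P ∧ P ≤ X ∧
        ¬ P ≤ Subgroup.normalizer (A : Set G)
    · -- Case II: zipper
      obtain ⟨P, hPp, hAP, hPX, hPN⟩ := hC
      obtain ⟨u, huP, hune, huA, huN⟩ := exists_zip hPp hAP hPN
      rcases zipper hAX hA hAc outer inner (hPX huP) hune huN with hdone | ⟨g', hg'X, hstar⟩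
      · exact hdone
      have hDat' : Dat p X (cj g' F) := hF.conj hg'X
      have huAXN : A ⊔ cj u A ≤ X ⊓ Subgroup.normalizer (A : Set G) :=
        sup_le hAXN (le_inf ((huA.trans inf_le_left).trans hPX) (huA.trans inf_le_right))
      have hNF' : X ⊓ Subgroup.normalizer (A : Set G) ≤ cj g' F :=
        hstar _ inf_le_left hXN huAXN
      have hAF' : A ≤ cj g' F := hAXN.trans hNF'
      by_cases hall : ∀ Y : Subgroup G, Y ≤ X → Y ≠ X → A ≤ Y → Y ≤ cj g' F
      · -- `A` itself lies in a unique maximal subgroup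
        refine ⟨g', hg'X, X, le_rfl, hAX, hAF', hDat'.not_le, ?_⟩
        intro l hl hlA
        have h1 : A ≤ cj l⁻¹ (cj g' F) := cj_le_iff.mp hlA
        have h2 : cj l⁻¹ (cj g' F) ≤ cj g' F :=
          hall _ (cj_le_of_mem (X.inv_mem hl) hDat'.1) (cj_ne_of_ne l⁻¹ hDat'.1 hDat'.ne) h1
        have h3 := hDat'.mem_of_cj_le (X.inv_mem hl) h2
        have h4 := (cj g' F).inv_mem h3
        rwa [inv_inv] at h4
      · push Not at hall
        obtain ⟨Y, hYX, hYne, hAY, hYF'⟩ := hall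
        -- any zipper element inside `Y` finishes
        have fin : ∀ w : G, w ∈ X → cj w A ≠ A → cj w A ≤ Subgroup.normalizer (A : Set G) →
            A ≤ Subgroup.normalizer ((cj w A : Subgroup G) : Set G) → cj w A ≤ Y →
            Pair X F A := by
          intro w hwX hwne hwA hwN hwY
          rcases zipper hAX hA hAc outer inner hwX hwne hwN with hdone | ⟨g'', hg''X, h2star⟩
          · exact hdone
          exfalso
          have hDat'' : Dat p X (cj g'' F) := hF.conj hg''X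
          have hwAXN : A ⊔ cj w A ≤ X ⊓ Subgroup.normalizer (A : Set G) :=
            sup_le hAXN (le_inf (cj_le_of_mem hwX hAX) hwA)
          have h3 : X ⊓ Subgroup.normalizer (A : Set G) ≤ cj g'' F :=
            h2star _ inf_le_left hXN hwAXN
          have h4 : cj g'' F ≤ cj g' F :=
            hstar _ hDat''.1 hDat''.ne (huAXN.trans h3)
          have h5 : Y ≤ cj g'' F := h2star Y hYX hYne (sup_le hAY hwY)
          exact hYF' (h5.trans h4)
        by_cases hC2 : ∃ P₂ : Subgroup G, IsPGroup p P₂ ∧ A ≤ P₂ ∧ P₂ ≤ Y ∧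
            ¬ P₂ ≤ Subgroup.normalizer (A : Set G)
        · obtain ⟨P₂, hP₂p, hAP₂, hP₂Y, hP₂N⟩ := hC2
          obtain ⟨u₂, hu₂P, hu₂ne, hu₂A, hu₂N⟩ := exists_zip hP₂p hAP₂ hP₂N
          exact fin u₂ (hYX (hP₂Y hu₂P)) hu₂ne (hu₂A.trans inf_le_right) hu₂N
            ((hu₂A.trans inf_le_left).trans hP₂Y)
        · push Not at hC2
          by_cases hvalY : ∀ l ∈ Y, cj l A ≤ cj g' F → l ∈ cj g' F
          · exact ⟨g', hg'X, Y, hYX, hAY, hAF', hYF', hvalY⟩
          · push Not at hvalY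
            obtain ⟨l, hlY, hlA, hlF'⟩ := hvalY
            obtain ⟨S, hS, hAS⟩ := exists_isSyl_ge hA (le_inf hAY hAF')
            have hSY : S ≤ Y := hS.1.trans inf_le_left
            have hSN : S ≤ Subgroup.normalizer (A : Set G) := hC2 S hS.2.1 hAS hSY
            have hlB : cj l A ≤ Y ⊓ cj g' F := le_inf (cj_le_of_mem hlY hAY) hlA
            obtain ⟨f, hf, hfS⟩ := hS.exists_conj_ge (isPGroup_cj hA l) hlB
            have hwS : cj (f⁻¹ * l) A ≤ S := by
              rw [← cj_cj]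
              exact cj_le_iff.mpr (by rw [inv_inv]; exact hfS)
            have hwY : f⁻¹ * l ∈ Y := Y.mul_mem (Y.inv_mem hf.1) hlY
            have hwX : f⁻¹ * l ∈ X := hYX hwY
            apply fin (f⁻¹ * l) hwX
            · intro heq
              apply hlF'
              have h1 : f⁻¹ * l ∈ Subgroup.normalizer (A : Set G) :=
                Subgroup.mem_normalizer_iff_map_conj_eq.mpr heq
              have h2 : f⁻¹ * l ∈ cj g' F := hNF' ⟨hwX, h1⟩
              have h3 := (cj g' F).mul_mem hf.2 h2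
              rwa [mul_inv_cancel_left] at h3
            · exact hwS.trans hSN
            · -- `A ≤ S ≤ N(wAw⁻¹)`
              have h1 : A ≤ cj (f⁻¹ * l)⁻¹ S := cj_le_iff.mp hwS
              have h2 : cj (f⁻¹ * l)⁻¹ S ≤ Subgroup.normalizer (A : Set G) :=
                hC2 _ (isPGroup_cj hS.2.1 _) h1 (cj_le_of_mem (Y.inv_mem hwY) hSY)
              have h3 : S ≤ cj (f⁻¹ * l) (Subgroup.normalizer (A : Set G)) := by
                rw [le_cj_iff]; exact h2
              rw [cj_normalizer] at h3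
              exact hAS.trans h3
            · exact hwS.trans hSY
    · -- Case I: every `p`-subgroup of `X` over `A` normalizes `A`
      push Not at hC
      obtain ⟨S₀, hS₀, hS₀F, hS₀max⟩ := hF.exists_syl
      obtain ⟨S₁, hS₁, hAS₁⟩ := exists_isSyl_ge hA hAX
      obtain ⟨g, hgX, hS₁eq⟩ := hS₀.exists_conj hS₁
      have hDat' : Dat p X (cj g F) := hF.conj hgX
      have hS₁F : S₁ ≤ cj g F := by rw [hS₁eq]; exact cj_mono g hS₀F
      have hS₁max : ∀ Y : Subgroup G, Y ≤ X → Y ≠ X → S₁ ≤ Y → Y ≤ cj g F := by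
        intro Y hYX hYne hSY
        rw [le_cj_iff]
        apply hS₀max _ (cj_le_of_mem (X.inv_mem hgX) hYX) (cj_ne_of_ne g⁻¹ hYX hYne)
        rw [hS₁eq] at hSY
        exact cj_le_iff.mp hSY
      have hS₁N : S₁ ≤ Subgroup.normalizer (A : Set G) := hC S₁ hS₁.2.1 hAS₁ hS₁.1
      have hNF' : X ⊓ Subgroup.normalizer (A : Set G) ≤ cj g F :=
        hS₁max _ inf_le_left hXN (le_inf hS₁.1 hS₁N)
      refine ⟨g, hgX, X, le_rfl, hAX, hAS₁.trans hS₁F, hDat'.not_le, ?_⟩
      intro l hl hlA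
      have hS₁' : IsSyl p S₁ (cj g F) := hS₁.of_le hS₁F hDat'.1
      obtain ⟨f, hf, hfS⟩ := hS₁'.exists_conj_ge (isPGroup_cj hA l) hlA
      have hwS : cj (f⁻¹ * l) A ≤ S₁ := by
        rw [← cj_cj]
        exact cj_le_iff.mpr (by rw [inv_inv]; exact hfS)
      have hwX : f⁻¹ * l ∈ X := X.mul_mem (X.inv_mem (hDat'.1 hf)) hl
      have h1 : A ≤ cj (f⁻¹ * l)⁻¹ S₁ := cj_le_iff.mp hwS
      have h2 : cj (f⁻¹ * l)⁻¹ S₁ ≤ X := cj_le_of_mem (X.inv_mem hwX) hS₁.1
      have h3 : cj (f⁻¹ * l)⁻¹ S₁ ≤ cj g F :=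
        (le_inf h2 (hC _ (isPGroup_cj hS₁.2.1 _) h1 h2)).trans hNF'
      have h4 : S₁ ≤ cj (f⁻¹ * l) (cj g F) := by
        rw [le_cj_iff]; exact h3
      have h5 : cj (f⁻¹ * l) (cj g F) ≤ cj g F :=
        hS₁max _ (cj_le_of_mem hwX hDat'.1) (cj_ne_of_ne _ hDat'.1 hDat'.ne) h4
      have h6 := hDat'.mem_of_cj_le hwX h5
      have h7 := (cj g F).mul_mem hf h6
      rwa [mul_inv_cancel_left] at h7
  intro A hAX hA hAc
  exact key _ A rfl hAX hA hAc

end Cfsg.Agent.Lib.Helper31.LLemma
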