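import Mathlib
import Cfsg.Prelude.Def_LocalStructure
import Cfsg.Agent.Lib.Helper31.LLemma
import Cfsg.Agent.Lib.Helper46.PCore
import Cfsg.Agent.Lib.Helper47.Cent
import Cfsg.Agent.Lib.Helper47.FrakH
import Cfsg.Agent.Lib.Helper53.PGroupBasics
import Cfsg.Agent.S0199

set_option autoImplicit false

/-!
# The asymmetric L-Lemma, abstractly

Ambient formulation (all groups are subgroups of a finite group `G`): `Y ≤ O ≤ H`, `R = O_p(H)`,
`L ≤ H` minimal with `Y ≤ L`, `Y ≰ O_p(L)`.  The hypotheses are collected in `Ctx`; the symmetric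
data around a generating pair `L = ⟨Y, kYk⁻¹⟩` in `WS`.
-/

namespace Cfsg.Agent.Lib.Helper31.AsymL

open Cfsg Cfsg.Agent.Lib.Helper47.Syl Cfsg.Agent.Lib.Helper31.LLemma
open Cfsg.Agent.Lib.Helper47.PRes Cfsg.Agent.Lib.Helper47.FrakH
open scoped commutatorElement

variable {G : Type*} [Group G]

/-! ### element tools -/

theorem conj_eq_of_comm {a b : G} (h : a * b = b * a) : a * b * a⁻¹ = b := by
  rw [h]; group

theorem conj_eq_of_comm' {a b : G} (h : a * b = b * a) : a⁻¹ * b * a = b := by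
  have : a⁻¹ * b * a = a⁻¹ * (b * a) := by group
  rw [this, ← h]; group

theorem comm_of_comm_eq_one {g r : G} (h : g * r * g⁻¹ * r⁻¹ = 1) : g * r = r * g := by
  calc g * r = (g * r * g⁻¹ * r⁻¹) * r * g := by group
    _ = r * g := by rw [h, one_mul]

theorem comm_eq_one_of_comm {g r : G} (h : g * r = r * g) : g * r * g⁻¹ * r⁻¹ = 1 := by
  rw [h]; group

theorem mem_normalizer_of_conj_mem [Finite G] {T : Subgroup G} {g : G}
    (h : ∀ x ∈ T, g * x * g⁻¹ ∈ T) : g ∈ Subgroup.normalizer (T : Set G) := by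
  apply mem_normalizer_of_map_conj_le
  rintro _ ⟨x, hx, rfl⟩
  simpa [MulAut.conj_apply] using h x hx

theorem mem_normalizer_sup_of [Finite G] {X Z : Subgroup G} {g : G}
    (hX : ∀ x ∈ X, g * x * g⁻¹ ∈ X ⊔ Z) (hZ : ∀ z ∈ Z, g * z * g⁻¹ ∈ X ⊔ Z) :
    g ∈ Subgroup.normalizer ((X ⊔ Z : Subgroup G) : Set G) := by
  apply mem_normalizer_of_map_conj_le
  rw [Subgroup.map_sup]
  apply sup_le
  · rintro _ ⟨x, hx, rfl⟩
    simpa [MulAut.conj_apply] using hX x hx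
  · rintro _ ⟨x, hx, rfl⟩
    simpa [MulAut.conj_apply] using hZ x hx

/-- the coprime action step: if `c = [g, r]` commutes with `g`, then `gⁿ r g⁻ⁿ = cⁿ r` -/
theorem conj_pow_eq {g r : G} (hc : g * (g * r * g⁻¹ * r⁻¹) = (g * r * g⁻¹ * r⁻¹) * g) (n : ℕ) :
    g ^ n * r * (g ^ n)⁻¹ = (g * r * g⁻¹ * r⁻¹) ^ n * r := by
  induction n with
  | zero => simp
  | succ n ih =>
    have e : g ^ (n + 1) * r * (g ^ (n + 1))⁻¹ = g * (g ^ n * r * (g ^ n)⁻¹) * g⁻¹ := by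
      rw [pow_succ']; group
    rw [e, ih]
    generalize hcd : g * r * g⁻¹ * r⁻¹ = c at hc
    have hcomm : Commute g (c ^ n) := (show Commute g c from hc).pow_right n
    have e2 : g * r * g⁻¹ = c * r := by rw [← hcd]; group
    calc g * (c ^ n * r) * g⁻¹ = (g * c ^ n) * r * g⁻¹ := by simp only [mul_assoc]
      _ = (c ^ n * g) * r * g⁻¹ := by rw [hcomm.eq]
      _ = c ^ n * (g * r * g⁻¹) := by simp only [mul_assoc]
      _ = c ^ n * (c * r) := by rw [e2]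
      _ = c ^ (n + 1) * r := by rw [pow_succ, mul_assoc]

theorem comm_eq_one_of_coprime {p : ℕ} {g r : G} {N : Subgroup G} (hN : IsPGroup p N)
    (hcN : g * r * g⁻¹ * r⁻¹ ∈ N)
    (hc : g * (g * r * g⁻¹ * r⁻¹) = (g * r * g⁻¹ * r⁻¹) * g)
    (hg : (orderOf g).Coprime p) : g * r * g⁻¹ * r⁻¹ = 1 := by
  have h1 := conj_pow_eq hc (orderOf g)
  rw [pow_orderOf_eq_one] at h1
  have h2 : (g * r * g⁻¹ * r⁻¹) ^ orderOf g = 1 := by
    have h3 : (g * r * g⁻¹ * r⁻¹) ^ orderOf g * r = r := by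
      rw [← h1]; simp
    exact mul_eq_right.mp h3
  have h3 : orderOf (g * r * g⁻¹ * r⁻¹) ∣ orderOf g := orderOf_dvd_of_pow_eq_one h2
  exact Cfsg.Agent.Lib.Helper46.PCore.eq_one_of_mem_of_coprime hN hcN
    (Nat.Coprime.coprime_dvd_left h3 hg)

/-! ### centralizers modulo a subgroup -/

/-- the elements normalizing `A` and centralizing the set `X` modulo `A` -/
def cen (X : Set G) (A : Subgroup G) : Subgroup G where
  carrier := {g | g ∈ Subgroup.normalizer (A : Set G) ∧ ∀ x ∈ X, g * x * g⁻¹ * x⁻¹ ∈ A}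
  one_mem' := ⟨Subgroup.one_mem _, fun x _ => by simp⟩
  mul_mem' := by
    rintro g h ⟨hg, hg'⟩ ⟨hh, hh'⟩
    refine ⟨Subgroup.mul_mem _ hg hh, fun x hx => ?_⟩
    have e : g * h * x * (g * h)⁻¹ * x⁻¹ = g * (h * x * h⁻¹ * x⁻¹) * g⁻¹ * (g * x * g⁻¹ * x⁻¹) := by
      group
    rw [e]
    exact A.mul_mem (conj_mem_of_mem_normalizer hg (hh' x hx)) (hg' x hx)
  inv_mem' := by
    rintro g ⟨hg, hg'⟩
    refine ⟨Subgroup.inv_mem _ hg, fun x hx => ?_⟩
    have e : g⁻¹ * x * g⁻¹⁻¹ * x⁻¹ = g⁻¹ * (g * x * g⁻¹ * x⁻¹)⁻¹ * g := by group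
    rw [e]
    exact conj_mem_of_mem_normalizer' hg (A.inv_mem (hg' x hx))

theorem mem_cen {X : Set G} {A : Subgroup G} {g : G} :
    g ∈ cen X A ↔ g ∈ Subgroup.normalizer (A : Set G) ∧ ∀ x ∈ X, g * x * g⁻¹ * x⁻¹ ∈ A :=
  Iff.rfl

theorem cen_conj_mem {X : Set G} {A : Subgroup G} {n g : G} (hg : g ∈ cen X A)
    (hn : n ∈ Subgroup.normalizer (A : Set G)) (hX : ∀ x ∈ X, n⁻¹ * x * n ∈ X) :
    n * g * n⁻¹ ∈ cen X A := by
  refine ⟨Subgroup.mul_mem _ (Subgroup.mul_mem _ hn hg.1) (Subgroup.inv_mem _ hn), fun x hx => ?_⟩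
  have e : n * g * n⁻¹ * x * (n * g * n⁻¹)⁻¹ * x⁻¹ =
      n * (g * (n⁻¹ * x * n) * g⁻¹ * (n⁻¹ * x * n)⁻¹) * n⁻¹ := by group
  rw [e]
  exact conj_mem_of_mem_normalizer hn (hg.2 _ (hX x hx))

/-- the reversed commutator also lies in `A` -/
theorem cen_comm' {X : Set G} {A : Subgroup G} {g x : G} (hg : g ∈ cen X A) (hx : x ∈ X) :
    x * g * x⁻¹ * g⁻¹ ∈ A := by
  have e : x * g * x⁻¹ * g⁻¹ = (g * x * g⁻¹ * x⁻¹)⁻¹ := by group
  rw [e]
  exact A.inv_mem (hg.2 x hx)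

/-- the stabilizer in `H` of the chain `R ≥ A ≥ B ≥ 1` (acting trivially on all factors) -/
def stab3 (H R A B : Subgroup G) : Subgroup G :=
  H ⊓ cen (R : Set G) A ⊓ cen (A : Set G) B ⊓ Subgroup.centralizer (B : Set G)

theorem isPGroup_stab3 [Finite G] {p : ℕ} [Fact p.Prime] {H R A B : Subgroup G}
    (hchar : H ⊓ Subgroup.centralizer (R : Set G) ≤ R) (hR : IsPGroup p R) (hA : IsPGroup p A)
    (hB : IsPGroup p B) : IsPGroup p (stab3 H R A B) := by
  apply Cfsg.Agent.Lib.Helper46.PCore.isPGroup_of_forall_coprime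
  rintro g ⟨⟨⟨hgH, hgRA⟩, hgAB⟩, hgB⟩ hcop
  have h1 : ∀ a ∈ A, g * a = a * g := by
    intro a ha
    have hb := hgAB.2 a ha
    apply comm_of_comm_eq_one
    exact comm_eq_one_of_coprime hB hb ((Subgroup.mem_centralizer_iff.mp hgB _ hb).symm) hcop
  have h2 : ∀ r ∈ R, r * g = g * r := by
    intro r hr
    have ha := hgRA.2 r hr
    exact (comm_of_comm_eq_one (comm_eq_one_of_coprime hA ha (h1 _ ha) hcop)).symm
  have h3 : g ∈ R := hchar ⟨hgH, Subgroup.mem_centralizer_iff.mpr h2⟩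
  exact Cfsg.Agent.Lib.Helper46.PCore.eq_one_of_mem_of_coprime hR h3 hcop

theorem stab3_conj_mem {H R A B : Subgroup G} {n t : G} (ht : t ∈ stab3 H R A B) (hnH : n ∈ H)
    (hnR : n ∈ Subgroup.normalizer (R : Set G)) (hnA : n ∈ Subgroup.normalizer (A : Set G))
    (hnB : n ∈ Subgroup.normalizer (B : Set G)) : n * t * n⁻¹ ∈ stab3 H R A B := by
  obtain ⟨⟨⟨h1, h2⟩, h3⟩, h4⟩ := ht
  refine ⟨⟨⟨H.mul_mem (H.mul_mem hnH h1) (H.inv_mem hnH),
    cen_conj_mem h2 hnA (fun x hx => conj_mem_of_mem_normalizer' hnR hx)⟩,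
    cen_conj_mem h3 hnB (fun x hx => conj_mem_of_mem_normalizer' hnA hx)⟩, ?_⟩
  have h4' : t ∈ Subgroup.centralizer (B : Set G) := h4
  show n * t * n⁻¹ ∈ Subgroup.centralizer (B : Set G)
  rw [Subgroup.mem_centralizer_iff] at h4' ⊢
  intro b hb
  have := h4' (n⁻¹ * b * n) (conj_mem_of_mem_normalizer' hnB hb)
  calc b * (n * t * n⁻¹) = n * ((n⁻¹ * b * n) * t) * n⁻¹ := by group
    _ = n * (t * (n⁻¹ * b * n)) * n⁻¹ := by rw [this]
    _ = n * t * n⁻¹ * b := by group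

/-- a `p`-group acting on `W/I` has a nontrivial fixed point -/
theorem exists_fix [Finite G] {p : ℕ} [Fact p.Prime] {P W I : Subgroup G} (hP : IsPGroup p P)
    (hWP : W ≤ P) (hPW : P ≤ Subgroup.normalizer (W : Set G))
    (hPI : P ≤ Subgroup.normalizer (I : Set G)) (hWI : ¬ W ≤ I) :
    ∃ w ∈ W, w ∉ I ∧ ∀ g ∈ P, w * g * w⁻¹ * g⁻¹ ∈ I := by
  have hIn : (I.subgroupOf P).Normal := Subgroup.normal_subgroupOf_of_le_normalizer hPI
  have hWn : (W.subgroupOf P).Normal := Subgroup.normal_subgroupOf_of_le_normalizer hPW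
  have hQ : IsPGroup p (↥P ⧸ I.subgroupOf P) := hP.to_quotient _
  have : ((W.subgroupOf P).map (QuotientGroup.mk' (I.subgroupOf P))).Normal :=
    Subgroup.Normal.map hWn _ (QuotientGroup.mk'_surjective _)
  have hne : (W.subgroupOf P).map (QuotientGroup.mk' (I.subgroupOf P)) ≠ ⊥ := by
    intro h
    apply hWI
    intro w hw
    have h1 : (QuotientGroup.mk' (I.subgroupOf P)) ⟨w, hWP hw⟩ ∈
        (W.subgroupOf P).map (QuotientGroup.mk' (I.subgroupOf P)) :=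
      Subgroup.mem_map_of_mem _ (by rw [Subgroup.mem_subgroupOf]; exact hw)
    rw [h, Subgroup.mem_bot] at h1
    have h2 := (QuotientGroup.eq_one_iff _).mp h1
    exact Subgroup.mem_subgroupOf.mp h2
  obtain ⟨z, hz, hz1, hzc⟩ :=
    Cfsg.Agent.Lib.Helper53.PGroupBasics.exists_center_mem_normal hQ _ hne
  obtain ⟨w, hw, rfl⟩ := hz
  refine ⟨w, Subgroup.mem_subgroupOf.mp hw, ?_, ?_⟩
  · intro hwI
    apply hz1
    exact (QuotientGroup.eq_one_iff _).mpr (Subgroup.mem_subgroupOf.mpr hwI)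
  · intro g hg
    rw [Subgroup.mem_center_iff] at hzc
    have h1 := hzc ((QuotientGroup.mk' (I.subgroupOf P)) ⟨g, hg⟩)
    have h2 : (QuotientGroup.mk' (I.subgroupOf P)) (w * ⟨g, hg⟩ * w⁻¹ * (⟨g, hg⟩ : ↥P)⁻¹) = 1 := by
      rw [map_mul, map_mul, map_mul, map_inv, map_inv, ← h1]
      group
    have h3 := (QuotientGroup.eq_one_iff _).mp h2
    exact Subgroup.mem_subgroupOf.mp h3

/-- `O_p(K) ∩ L ≤ O_p(L)` for `L ≤ K` -/
theorem pCoreOf_inf_le {p : ℕ} {L K : Subgroup G} (hLK : L ≤ K) :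
    pCoreOf p K ⊓ L ≤ pCoreOf p L := by
  apply le_pCoreOf inf_le_right
  · intro l hl
    exact Cfsg.Agent.Lib.Helper47.Cent.normalizer_inf_le _ _
      ⟨le_normalizer_pCoreOf p K (hLK hl), Subgroup.le_normalizer hl⟩
  · exact (pCoreOf_isPGroup p K).to_le inf_le_left

/-! ### the symmetric structure around a generating pair -/

/-- `W = (A ∩ R)(B ∩ R)` -/
def Wof (R A B : Subgroup G) : Subgroup G := A ⊓ R ⊔ B ⊓ R

/-- `I = A ∩ B ∩ R` -/
def Iof (R A B : Subgroup G) : Subgroup G := A ⊓ B ⊓ R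

theorem Wof_comm (R A B : Subgroup G) : Wof R A B = Wof R B A := sup_comm _ _

theorem Iof_comm (R A B : Subgroup G) : Iof R A B = Iof R B A := by
  unfold Iof; rw [inf_comm A B]

/-- `L = ⟨A, B⟩` with `B = kAk⁻¹`, `k ∈ L`, `A` abelian; `R` is a `p`-group normalized by `L`
and normalizing `A` -/
structure WS (p : ℕ) (R L A B : Subgroup G) (k : G) : Prop where
  Rp : IsPGroup p R
  LR : L ≤ Subgroup.normalizer (R : Set G)
  gen : A ⊔ B = L
  kL : k ∈ L
  BA : B = cj k A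
  Acomm : ∀ a ∈ A, ∀ b ∈ A, a * b = b * a
  RA : R ≤ Subgroup.normalizer (A : Set G)

namespace WS

variable {p : ℕ} {R L A B : Subgroup G} {k : G}

theorem AL (h : WS p R L A B k) : A ≤ L := h.gen ▸ le_sup_left

theorem BL (h : WS p R L A B k) : B ≤ L := h.gen ▸ le_sup_right

theorem Bcomm (h : WS p R L A B k) : ∀ a ∈ B, ∀ b ∈ B, a * b = b * a := by
  intro a ha b hb
  have ha' : k⁻¹ * a * k ∈ A := by rw [h.BA] at ha; exact mem_cj.mp ha
  have hb' : k⁻¹ * b * k ∈ A := by rw [h.BA] at hb; exact mem_cj.mp hb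
  have := h.Acomm _ ha' _ hb'
  calc a * b = k * ((k⁻¹ * a * k) * (k⁻¹ * b * k)) * k⁻¹ := by group
    _ = k * ((k⁻¹ * b * k) * (k⁻¹ * a * k)) * k⁻¹ := by rw [this]
    _ = b * a := by group

theorem RB (h : WS p R L A B k) : R ≤ Subgroup.normalizer (B : Set G) := by
  intro r hr
  rw [h.BA, Cfsg.Agent.Lib.Helper47.Cent.mem_normalizer_map_conj]
  exact h.RA (conj_mem_of_mem_normalizer' (h.LR h.kL) hr)

theorem symm (h : WS p R L A B k) : WS p R L B A k⁻¹ where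
  Rp := h.Rp
  LR := h.LR
  gen := by rw [sup_comm]; exact h.gen
  kL := L.inv_mem h.kL
  BA := by rw [h.BA, cj_inv_cj]
  Acomm := h.Bcomm
  RA := h.RB

theorem quad (h : WS p R L A B k) {r a : G} (hr : r ∈ R) (ha : a ∈ A) :
    r * a * r⁻¹ * a⁻¹ ∈ A ⊓ R := by
  refine ⟨A.mul_mem (conj_mem_of_mem_normalizer (h.RA hr) ha) (A.inv_mem ha), ?_⟩
  have h1 := conj_mem_of_mem_normalizer (h.LR (h.AL ha)) (R.inv_mem hr)
  have e : r * a * r⁻¹ * a⁻¹ = r * (a * r⁻¹ * a⁻¹) := by group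
  rw [e]
  exact R.mul_mem hr h1

theorem quad' (h : WS p R L A B k) {r a : G} (hr : r ∈ R) (ha : a ∈ A) :
    a * r * a⁻¹ * r⁻¹ ∈ A ⊓ R := by
  have e : a * r * a⁻¹ * r⁻¹ = (r * a * r⁻¹ * a⁻¹)⁻¹ := by group
  rw [e]
  exact Subgroup.inv_mem _ (h.quad hr ha)

theorem W_le_R (_h : WS p R L A B k) : Wof R A B ≤ R := sup_le inf_le_right inf_le_right

theorem W_le_L (h : WS p R L A B k) : Wof R A B ≤ L :=
  sup_le (inf_le_left.trans h.AL) (inf_le_left.trans h.BL)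

theorem A_norm_W [Finite G] (h : WS p R L A B k) :
    A ≤ Subgroup.normalizer (Wof R A B : Set G) := by
  intro y hy
  apply mem_normalizer_sup_of
  · intro x hx
    have : y * x * y⁻¹ = x := conj_eq_of_comm (h.Acomm y hy x hx.1)
    rw [this]; exact Subgroup.mem_sup_left hx
  · intro z hz
    have e : y * z * y⁻¹ = (y * z * y⁻¹ * z⁻¹) * z := by group
    rw [e]
    exact Subgroup.mul_mem _ (Subgroup.mem_sup_left (h.quad' hz.2 hy)) (Subgroup.mem_sup_right hz)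

theorem L_norm_W [Finite G] (h : WS p R L A B k) :
    L ≤ Subgroup.normalizer (Wof R A B : Set G) := by
  rw [← h.gen]
  apply sup_le h.A_norm_W
  have := h.symm.A_norm_W
  rwa [Wof_comm] at this

theorem W3 [Finite G] (h : WS p R L A B k) : L ≤ cen (R : Set G) (Wof R A B) := by
  rw [← h.gen]
  apply sup_le
  · intro a ha
    exact ⟨h.A_norm_W ha, fun r hr => Subgroup.mem_sup_left (h.quad' hr ha)⟩
  · intro b hb
    exact ⟨h.L_norm_W (h.BL hb), fun r hr => Subgroup.mem_sup_right (h.symm.quad' hr hb)⟩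

theorem I_le_W (_h : WS p R L A B k) : Iof R A B ≤ Wof R A B :=
  fun _ hx => Subgroup.mem_sup_left ⟨hx.1.1, hx.2⟩

theorem A_cent_I (h : WS p R L A B k) : A ≤ Subgroup.centralizer (Iof R A B : Set G) := by
  intro a ha
  rw [Subgroup.mem_centralizer_iff]
  intro i hi
  exact h.Acomm i hi.1.1 a ha

theorem L_cent_I (h : WS p R L A B k) : L ≤ Subgroup.centralizer (Iof R A B : Set G) := by
  rw [← h.gen]
  apply sup_le h.A_cent_I
  have := h.symm.A_cent_I
  rwa [Iof_comm] at this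

theorem L_norm_I (h : WS p R L A B k) : L ≤ Subgroup.normalizer (Iof R A B : Set G) :=
  h.L_cent_I.trans (Subgroup.centralizer_le_normalizer _)

/-- an element of `W` centralizing `A` modulo `I` lies in `A ∩ R` -/
theorem claim2 (h : WS p R L A B k) {w : G} (hw : w ∈ Wof R A B)
    (hfix : ∀ y ∈ A, w * y * w⁻¹ * y⁻¹ ∈ Iof R A B) : w ∈ A ⊓ R := by
  have hnorm : A ⊓ R ≤ Subgroup.normalizer ((B ⊓ R : Subgroup G) : Set G) := fun a ha =>
    Cfsg.Agent.Lib.Helper47.Cent.normalizer_inf_le _ _ ⟨h.RB ha.2, Subgroup.le_normalizer ha.2⟩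
  obtain ⟨a, ha, b, hb, rfl⟩ := exists_mul_of_mem_sup_left hnorm hw
  have hbI : ∀ y ∈ A, b * y * b⁻¹ * y⁻¹ ∈ Iof R A B := by
    intro y hy
    have hq := h.quad hb.2 hy
    have e : a * b * y * (a * b)⁻¹ * y⁻¹ = b * y * b⁻¹ * y⁻¹ := by
      have h1 : y * a⁻¹ * y⁻¹ = a⁻¹ := conj_eq_of_comm (h.Acomm y hy a⁻¹ (A.inv_mem ha.1))
      have h2 : a * (b * y * b⁻¹ * y⁻¹) * a⁻¹ = b * y * b⁻¹ * y⁻¹ :=
        conj_eq_of_comm (h.Acomm a ha.1 _ hq.1)
      calc a * b * y * (a * b)⁻¹ * y⁻¹ = a * (b * y * b⁻¹ * y⁻¹) * (y * a⁻¹ * y⁻¹) := by group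
        _ = a * (b * y * b⁻¹ * y⁻¹) * a⁻¹ := by rw [h1]
        _ = _ := h2
    rw [← e]; exact hfix y hy
  have hLc : L ≤ cen ({b} : Set G) (Iof R A B) := by
    rw [← h.gen]
    apply sup_le
    · intro y hy
      refine ⟨h.L_norm_I (h.AL hy), ?_⟩
      intro x hx
      rw [Set.mem_singleton_iff.mp hx]
      have e : y * b * y⁻¹ * b⁻¹ = (b * y * b⁻¹ * y⁻¹)⁻¹ := by group
      rw [e]; exact Subgroup.inv_mem _ (hbI y hy)
    · intro y hy
      refine ⟨h.L_norm_I (h.BL hy), ?_⟩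
      intro x hx
      rw [Set.mem_singleton_iff.mp hx, comm_eq_one_of_comm (h.Bcomm y hy b hb.1)]
      exact Subgroup.one_mem _
  have h1 := (hLc (L.inv_mem h.kL)).2 b rfl
  rw [inv_inv] at h1
  have h2 : k⁻¹ * b * k ∈ A := by
    have := hb.1
    rw [h.BA] at this
    exact mem_cj.mp this
  have hbA : b ∈ A := by
    have e : b = (k⁻¹ * b * k * b⁻¹)⁻¹ * (k⁻¹ * b * k) := by group
    rw [e]; exact A.mul_mem (A.inv_mem h1.1.1) h2
  exact ⟨A.mul_mem ha.1 hbA, R.mul_mem ha.2 hb.2⟩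

theorem claim2' [Finite G] (h : WS p R L A B k) {x w : G} (hx : x ∈ L) (hw : w ∈ Wof R A B)
    (hfix : ∀ y ∈ cj x A, w * y * w⁻¹ * y⁻¹ ∈ Iof R A B) : w ∈ cj x (A ⊓ R) := by
  rw [mem_cj]
  apply h.claim2 (conj_mem_of_mem_normalizer' (h.L_norm_W hx) hw)
  intro y hy
  have h1 := hfix (x * y * x⁻¹) (conj_mem_map_conj hy)
  have h2 := conj_mem_of_mem_normalizer' (h.L_norm_I hx) h1
  have e : x⁻¹ * w * x * y * (x⁻¹ * w * x)⁻¹ * y⁻¹ =
      x⁻¹ * (w * (x * y * x⁻¹) * w⁻¹ * (x * y * x⁻¹)⁻¹) * x := by group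
  rw [e]; exact h2

theorem central (h : WS p R L A B k) {w : G} (hw : w ∈ A ⊓ R) (hk : k * w = w * k) :
    w ∈ Iof R A B := by
  have hB : w ∈ B := by
    rw [h.BA, mem_cj, conj_eq_of_comm' hk]
    exact hw.1
  exact ⟨⟨hw.1, hB⟩, hw.2⟩

/-- `C_R(A) = (A ∩ R) C_R(L)` -/
theorem decomp [Finite G] (h : WS p R L A B k) {c : G} (hcR : c ∈ R)
    (hcA : c ∈ Subgroup.centralizer (A : Set G)) :
    ∃ a ∈ A ⊓ R, ∃ z ∈ R, z ∈ Subgroup.centralizer (L : Set G) ∧ c = a * z := by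
  have hw := (h.W3 h.kL).2 c hcR
  have hnorm : B ⊓ R ≤ Subgroup.normalizer ((A ⊓ R : Subgroup G) : Set G) := fun b hb =>
    Cfsg.Agent.Lib.Helper47.Cent.normalizer_inf_le _ _ ⟨h.RA hb.2, Subgroup.le_normalizer hb.2⟩
  rw [Wof_comm] at hw
  obtain ⟨b, hb, a, ha, hba⟩ := exists_mul_of_mem_sup_left hnorm hw
  refine ⟨a⁻¹, Subgroup.inv_mem _ ha, a * c, R.mul_mem ha.2 hcR, ?_, by group⟩
  rw [← h.gen]
  apply Cfsg.Agent.Lib.Helper47.Cent.centralizer_inf_le_centralizer_sup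
  constructor
  · exact Subgroup.mul_mem _
      (Subgroup.mem_centralizer_iff.mpr (fun y hy => h.Acomm y hy a ha.1)) hcA
  · have e : a * c = b⁻¹ * (k * c * k⁻¹) := by
      have : k * c * k⁻¹ = b * a * c := by rw [← hba]; group
      rw [this]; group
    rw [e]
    apply Subgroup.mul_mem
    · exact Subgroup.inv_mem _
        (Subgroup.mem_centralizer_iff.mpr (fun y hy => h.Bcomm y hy b hb.1))
    · rw [h.BA, Cfsg.Agent.Lib.Helper47.Cent.mem_centralizer_map_conj]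
      have : k⁻¹ * (k * c * k⁻¹) * k = c := by group
      rw [this]; exact hcA

end WS

/-! ### the context -/

theorem pCoreOf_cj [Finite G] {p : ℕ} (K : Subgroup G) (g : G) :
    pCoreOf p (cj g K) = cj g (pCoreOf p K) :=
  Cfsg.Agent.Lib.Helper46.PCore.pCoreOf_map_conj K g

theorem cj_eq_of_normalizer {T : Subgroup G} {g : G}
    (hg : g ∈ Subgroup.normalizer (T : Set G)) : cj g T = T :=
  map_conj_eq_of_mem_normalizer hg

/-- the hypotheses of the asymmetric L-Lemma, with `R = O_p(H)` -/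
structure Ctx (p : ℕ) (Y O H L R : Subgroup G) : Prop where
  YO : Y ≤ O
  OH : O ≤ H
  LH : L ≤ H
  YL : Y ≤ L
  Ycomm : ∀ a ∈ Y, ∀ b ∈ Y, a * b = b * a
  Op : IsPGroup p O
  OcY : O ≤ Subgroup.centralizer (Y : Set G)
  Rp : IsPGroup p R
  RH : R ≤ H
  HR : H ≤ Subgroup.normalizer (R : Set G)
  Rmax : ∀ N : Subgroup G, N ≤ H → H ≤ Subgroup.normalizer (N : Set G) → IsPGroup p N → N ≤ R
  RnY : R ≤ Subgroup.normalizer (Y : Set G)
  hchar : H ⊓ Subgroup.centralizer (R : Set G) ≤ R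
  hfrak : ∀ P : Subgroup G, O ≤ P → P < H → Y ≤ pCoreOf p P
  hwc : ∀ T : Subgroup G, IsPGroup p T → O ≤ T → T ≤ Subgroup.normalizer (O : Set G)
  hwc2 : ∀ (T : Subgroup G) (g : G), IsPGroup p T → O ≤ T → cj g O ≤ T → cj g O = O
  hnor : Subgroup.normalizer (O : Set G) ≤ Subgroup.normalizer (Y : Set G)
  hasym : ∀ g : G, Y ≤ Subgroup.normalizer ((cj g Y : Subgroup G) : Set G) →
    cj g Y ≤ Subgroup.normalizer (Y : Set G) → cj g Y ≤ Subgroup.centralizer (Y : Set G)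
  hmin : ∀ L' : Subgroup G, L' ≤ L → Y ≤ L' → ¬ Y ≤ pCoreOf p L' → L' = L
  YnL : ¬ Y ≤ pCoreOf p L

namespace Ctx

variable {p : ℕ} {Y O H L R : Subgroup G}

theorem Yp (c : Ctx p Y O H L R) : IsPGroup p Y := c.Op.to_le c.YO

/-- `H = ⟨L, O⟩` -/
theorem sup_eq (c : Ctx p Y O H L R) : L ⊔ O = H := by
  by_contra hne
  have hlt : L ⊔ O < H := lt_of_le_of_ne (sup_le c.LH c.OH) hne
  have h1 := c.hfrak _ le_sup_right hlt
  exact c.YnL ((le_inf h1 c.YL).trans (pCoreOf_inf_le le_sup_left))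

theorem dich [Finite G] (c : Ctx p Y O H L R) {x : G} (hx : x ∈ L) :
    Y ⊔ cj x Y = L ∨ IsPGroup p (Y ⊔ cj x Y : Subgroup G) := by
  by_cases hX : Y ⊔ cj x Y = L
  · exact Or.inl hX
  right
  have hXL : Y ⊔ cj x Y ≤ L := sup_le c.YL (cj_le_of_mem hx c.YL)
  have h1 : Y ≤ pCoreOf p (Y ⊔ cj x Y) := by
    by_contra hn
    exact hX (c.hmin _ hXL le_sup_left hn)
  have h2 : Y ≤ pCoreOf p (cj x⁻¹ (Y ⊔ cj x Y)) := by
    by_contra hn
    have h3 := c.hmin _ (cj_le_of_mem (L.inv_mem hx) hXL)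
      (by rw [cj_sup, cj_inv_cj]; exact le_sup_right) hn
    apply hX
    have h4 := congrArg (cj x) h3
    rw [cj_cj_inv, cj_eq_of_mem hx] at h4
    exact h4
  rw [pCoreOf_cj] at h2
  have h3 : cj x Y ≤ pCoreOf p (Y ⊔ cj x Y) := by
    rw [cj_le_iff]; exact h2
  exact (pCoreOf_isPGroup p _).to_le (sup_le h1 h3)

/-- Baer–Suzuki: `L` is generated by `Y` and one conjugate -/
theorem exists_gen [Finite G] [Fact p.Prime] (c : Ctx p Y O H L R) :
    ∃ k ∈ L, Y ⊔ cj k Y = L := by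
  by_contra hcon
  push Not at hcon
  have hall : ∀ x ∈ L, IsPGroup p (Y ⊔ cj x Y : Subgroup G) := fun x hx =>
    (c.dich hx).resolve_left (hcon x hx)
  apply c.YnL
  obtain ⟨N, hN, hNp, hYN⟩ := Cfsg.Agent.S0199.result (G := ↥L) (p := p) (Y.subgroupOf L)
    (c.Yp.comap_subtype) (by
      intro g
      have h1 := hall g g.2
      have h2 : Y.subgroupOf L ⊔ (Y.subgroupOf L).map (MulAut.conj g).toMonoidHom ≤
          (Y ⊔ cj (g : G) Y).subgroupOf L := by
        apply sup_le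
        · exact Subgroup.comap_mono le_sup_left
        · rintro _ ⟨y, hy, rfl⟩
          have hy' : (y : G) ∈ Y := Subgroup.mem_subgroupOf.mp hy
          rw [Subgroup.mem_subgroupOf]
          apply Subgroup.mem_sup_right
          simp only [MulEquiv.coe_toMonoidHom, MulAut.conj_apply, Subgroup.coe_mul,
            InvMemClass.coe_inv]
          exact conj_mem_map_conj hy'
      exact (h1.comap_subtype).to_le h2)
  have h3 : N ≤ pCore p ↥L := Cfsg.Agent.Lib.Helper47.Basic.le_pCore hN hNp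
  intro y hy
  exact (mem_pCoreOf_iff (c.YL hy)).mpr (h3 (hYN (Subgroup.mem_subgroupOf.mpr hy)))

theorem ws (c : Ctx p Y O H L R) {k : G} (hk : k ∈ L) (hgen : Y ⊔ cj k Y = L) :
    WS p R L Y (cj k Y) k where
  Rp := c.Rp
  LR := c.LH.trans c.HR
  gen := hgen
  kL := hk
  BA := rfl
  Acomm := c.Ycomm
  RA := c.RnY

theorem not_W_le_I [Finite G] [Fact p.Prime] (c : Ctx p Y O H L R) {k : G} (hk : k ∈ L)
    (hgen : Y ⊔ cj k Y = L) : ¬ Wof R Y (cj k Y) ≤ Iof R Y (cj k Y) := by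
  intro hWI
  have ws := c.ws hk hgen
  apply c.YnL
  have hLp : IsPGroup p L := by
    apply Cfsg.Agent.Lib.Helper46.PCore.isPGroup_of_forall_coprime
    intro g hg hcop
    have h2 : ∀ r ∈ R, r * g = g * r := by
      intro r hr
      have hc := (ws.W3 hg).2 r hr
      have hcomm := Subgroup.mem_centralizer_iff.mp (ws.L_cent_I hg) _ (hWI hc)
      exact (comm_of_comm_eq_one
        (comm_eq_one_of_coprime (c.Rp.to_le ws.W_le_R) hc hcomm.symm hcop)).symm
    have h3 : g ∈ R := c.hchar ⟨c.LH hg, Subgroup.mem_centralizer_iff.mpr h2⟩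
    exact Cfsg.Agent.Lib.Helper46.PCore.eq_one_of_mem_of_coprime c.Rp h3 hcop
  exact c.YL.trans (le_pCoreOf le_rfl Subgroup.le_normalizer hLp)

theorem H_cent_I [Finite G] (c : Ctx p Y O H L R) {k : G} (hk : k ∈ L)
    (hgen : Y ⊔ cj k Y = L) : H ≤ Subgroup.centralizer (Iof R Y (cj k Y) : Set G) := by
  rw [← c.sup_eq]
  exact sup_le (c.ws hk hgen).L_cent_I
    (c.OcY.trans (Subgroup.centralizer_le (fun x hx => hx.1.1)))

theorem R_norm_O (c : Ctx p Y O H L R) : R ≤ Subgroup.normalizer (O : Set G) := by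
  have hT : IsPGroup p (O ⊔ R : Subgroup G) :=
    c.Op.to_sup_of_normal_right' c.Rp (c.OH.trans c.HR)
  exact le_sup_right.trans (c.hwc _ hT le_sup_left)

theorem O_norm_Y (c : Ctx p Y O H L R) : O ≤ Subgroup.normalizer (Y : Set G) :=
  c.OcY.trans (Subgroup.centralizer_le_normalizer _)

theorem O_norm_C (c : Ctx p Y O H L R) :
    O ≤ Subgroup.normalizer ((R ⊓ Subgroup.centralizer (Y : Set G) : Subgroup G) : Set G) :=
  fun _ ho => Cfsg.Agent.Lib.Helper47.Cent.normalizer_inf_le _ _ ⟨c.HR (c.OH ho),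
    Cfsg.Agent.Lib.Helper47.Cent.normalizer_le_normalizer_centralizer Y (c.O_norm_Y ho)⟩

theorem O_norm_Y0 (c : Ctx p Y O H L R) :
    O ≤ Subgroup.normalizer ((Y ⊓ R : Subgroup G) : Set G) :=
  fun _ ho => Cfsg.Agent.Lib.Helper47.Cent.normalizer_inf_le _ _ ⟨c.O_norm_Y ho, c.HR (c.OH ho)⟩

/-- `[O, R] ≤ C_R(Y)` -/
theorem O_comm (c : Ctx p Y O H L R) {o r : G} (ho : o ∈ O) (hr : r ∈ R) :
    o * r * o⁻¹ * r⁻¹ ∈ R ⊓ Subgroup.centralizer (Y : Set G) := by
  refine ⟨R.mul_mem (conj_mem_of_mem_normalizer (c.HR (c.OH ho)) hr) (R.inv_mem hr), ?_⟩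
  apply c.OcY
  have h1 := conj_mem_of_mem_normalizer (c.R_norm_O hr) (O.inv_mem ho)
  have e : o * r * o⁻¹ * r⁻¹ = o * (r * o⁻¹ * r⁻¹) := by group
  rw [e]; exact O.mul_mem ho h1

theorem O_cen (c : Ctx p Y O H L R) :
    O ≤ cen (R : Set G) (R ⊓ Subgroup.centralizer (Y : Set G)) :=
  fun _ ho => ⟨c.O_norm_C ho, fun _ hr => c.O_comm ho hr⟩

theorem Y0_le_C (c : Ctx p Y O H L R) : Y ⊓ R ≤ R ⊓ Subgroup.centralizer (Y : Set G) :=
  fun a ha => ⟨ha.2, Subgroup.mem_centralizer_iff.mpr (fun y hy => c.Ycomm y hy a ha.1)⟩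

/-- the key step: an element of `L` generating a `p`-group with `Y` normalizes `Y` -/
theorem k1 [Finite G] [Fact p.Prime] (c : Ctx p Y O H L R) {x : G} (hx : x ∈ L)
    (hP : IsPGroup p (Y ⊔ cj x Y : Subgroup G)) : x ∈ Subgroup.normalizer (Y : Set G) := by
  obtain ⟨k, hk, hgen⟩ := c.exists_gen
  have ws := c.ws hk hgen
  have hLW := ws.L_norm_W
  have hxH : x ∈ H := c.LH hx
  have hPL : Y ⊔ cj x Y ≤ L := sup_le c.YL (cj_le_of_mem hx c.YL)
  have hWp : IsPGroup p (Wof R Y (cj k Y)) := c.Rp.to_le ws.W_le_R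
  have hP2 : IsPGroup p ((Y ⊔ cj x Y) ⊔ Wof R Y (cj k Y) : Subgroup G) :=
    hP.to_sup_of_normal_right' hWp (hPL.trans hLW)
  obtain ⟨w, hwW, hwI, hwfix⟩ := exists_fix hP2 le_sup_right
    (sup_le (hPL.trans hLW) Subgroup.le_normalizer)
    (sup_le (hPL.trans ws.L_norm_I) (ws.W_le_L.trans ws.L_norm_I)) (c.not_W_le_I hk hgen)
  have hwY : w ∈ Y ⊓ R :=
    ws.claim2 hwW (fun y hy => hwfix y (Subgroup.mem_sup_left (Subgroup.mem_sup_left hy)))
  have hwxY : w ∈ cj x (Y ⊓ R) :=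
    ws.claim2' hx hwW (fun y hy => hwfix y (Subgroup.mem_sup_left (Subgroup.mem_sup_right hy)))
  have hkw : ¬ k * w = w * k := fun h => hwI (ws.central hwY h)
  have hOPw : O ≤ H ⊓ Subgroup.centralizer ({w} : Set G) := by
    intro o ho
    refine ⟨c.OH ho, Subgroup.mem_centralizer_singleton_iff.mpr ?_⟩
    exact (Subgroup.mem_centralizer_iff.mp (c.OcY ho) w hwY.1).symm
  have hxOPw : cj x O ≤ H ⊓ Subgroup.centralizer ({w} : Set G) := by
    intro u hu
    have hu' : x⁻¹ * u * x ∈ O := mem_cj.mp hu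
    have hw' : x⁻¹ * w * x ∈ Y := (mem_cj.mp hwxY).1
    refine ⟨cj_le_of_mem hxH c.OH hu, Subgroup.mem_centralizer_singleton_iff.mpr ?_⟩
    have h1 := Subgroup.mem_centralizer_iff.mp (c.OcY hu') _ hw'
    calc u * w = x * ((x⁻¹ * u * x) * (x⁻¹ * w * x)) * x⁻¹ := by group
      _ = x * ((x⁻¹ * w * x) * (x⁻¹ * u * x)) * x⁻¹ := by rw [h1]
      _ = w * u := by group
  have hPwlt : H ⊓ Subgroup.centralizer ({w} : Set G) < H := by
    refine lt_of_le_of_ne inf_le_left (fun heq => hkw ?_)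
    have hkP : k ∈ H ⊓ Subgroup.centralizer ({w} : Set G) := by
      rw [heq]; exact c.LH hk
    exact Subgroup.mem_centralizer_singleton_iff.mp hkP.2
  have hY1 : Y ≤ pCoreOf p (H ⊓ Subgroup.centralizer ({w} : Set G)) := c.hfrak _ hOPw hPwlt
  have hY2 : cj x Y ≤ pCoreOf p (H ⊓ Subgroup.centralizer ({w} : Set G)) := by
    have h1 : O ≤ cj x⁻¹ (H ⊓ Subgroup.centralizer ({w} : Set G)) := by
      rw [le_cj_iff, inv_inv]; exact hxOPw
    have h2 : cj x⁻¹ (H ⊓ Subgroup.centralizer ({w} : Set G)) < H :=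
      lt_of_le_of_ne (cj_le_of_mem (H.inv_mem hxH) inf_le_left)
        (cj_ne_of_ne x⁻¹ inf_le_left hPwlt.ne)
    have h3 := c.hfrak _ h1 h2
    rw [pCoreOf_cj] at h3
    rw [cj_le_iff]; exact h3
  have hNp := pCoreOf_isPGroup p (H ⊓ Subgroup.centralizer ({w} : Set G))
  have hT1 : IsPGroup p
      (O ⊔ pCoreOf p (H ⊓ Subgroup.centralizer ({w} : Set G)) : Subgroup G) :=
    c.Op.to_sup_of_normal_right' hNp (hOPw.trans (le_normalizer_pCoreOf p _))
  have hB : cj x Y ≤ Subgroup.normalizer (Y : Set G) :=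
    (hY2.trans (le_sup_right.trans (c.hwc _ hT1 le_sup_left))).trans c.hnor
  have hT2 : IsPGroup p
      (cj x O ⊔ pCoreOf p (H ⊓ Subgroup.centralizer ({w} : Set G)) : Subgroup G) :=
    (isPGroup_cj c.Op x).to_sup_of_normal_right' hNp
      (hxOPw.trans (le_normalizer_pCoreOf p _))
  have hA : Y ≤ Subgroup.normalizer ((cj x Y : Subgroup G) : Set G) := by
    have h1 : O ≤ cj x⁻¹ (cj x O ⊔ pCoreOf p (H ⊓ Subgroup.centralizer ({w} : Set G))) := by
      rw [le_cj_iff, inv_inv]; exact le_sup_left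
    have h2 := (c.hwc _ (isPGroup_cj hT2 x⁻¹) h1).trans c.hnor
    rw [← cj_normalizer]
    have h3 : cj x O ⊔ pCoreOf p (H ⊓ Subgroup.centralizer ({w} : Set G)) ≤
        cj x (Subgroup.normalizer (Y : Set G)) := by
      rw [le_cj_iff]; exact h2
    exact (hY1.trans le_sup_right).trans h3
  have hcent : cj x Y ≤ Subgroup.centralizer (Y : Set G) := c.hasym x hA hB
  -- `x` normalizes `Y ∩ R`
  have hx0 : x ∈ Subgroup.normalizer ((Y ⊓ R : Subgroup G) : Set G) := by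
    apply mem_normalizer_of_conj_mem
    intro a ha
    apply ws.claim2 (conj_mem_of_mem_normalizer (hLW hx) (Subgroup.mem_sup_left ha))
    intro y hy
    have h1 : x * a * x⁻¹ ∈ cj x Y := conj_mem_map_conj ha.1
    have h2 := Subgroup.mem_centralizer_iff.mp (hcent h1) y hy
    rw [comm_eq_one_of_comm h2.symm]
    exact Subgroup.one_mem _
  -- `x` centralizes `C_R(Y)` modulo `Y ∩ R`
  have hcC : ∀ u ∈ R, u ∈ Subgroup.centralizer (Y : Set G) → x * u * x⁻¹ * u⁻¹ ∈ Y ⊓ R := by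
    intro u huR huY
    obtain ⟨a, ha, z, _, hzL, rfl⟩ := ws.decomp huR huY
    have hz : x * z = z * x := Subgroup.mem_centralizer_iff.mp hzL x hx
    have e : x * (a * z) * x⁻¹ * (a * z)⁻¹ = (x * a * x⁻¹) * a⁻¹ := by
      have h1 : x * z * x⁻¹ = z := conj_eq_of_comm hz
      calc x * (a * z) * x⁻¹ * (a * z)⁻¹ = (x * a * x⁻¹) * (x * z * x⁻¹) * z⁻¹ * a⁻¹ := by group
        _ = (x * a * x⁻¹) * z * z⁻¹ * a⁻¹ := by rw [h1]
        _ = _ := by group
    rw [e]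
    exact Subgroup.mul_mem _ (conj_mem_of_mem_normalizer hx0 ha) (Subgroup.inv_mem _ ha)
  have hxC : x ∈ Subgroup.normalizer
      ((R ⊓ Subgroup.centralizer (Y : Set G) : Subgroup G) : Set G) := by
    apply mem_normalizer_of_conj_mem
    intro u hu
    have e : x * u * x⁻¹ = (x * u * x⁻¹ * u⁻¹) * u := by group
    rw [e]
    exact Subgroup.mul_mem _ (c.Y0_le_C (hcC u hu.1 hu.2)) hu
  have hxcen : x ∈ cen ((R ⊓ Subgroup.centralizer (Y : Set G) : Subgroup G) : Set G) (Y ⊓ R) :=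
    ⟨hx0, fun u hu => hcC u hu.1 hu.2⟩
  -- the chain stabilizer
  have hTp : IsPGroup p (stab3 H R (R ⊓ Subgroup.centralizer (Y : Set G)) (Y ⊓ R)) :=
    isPGroup_stab3 c.hchar c.Rp (c.Rp.to_le inf_le_left) (c.Rp.to_le inf_le_right)
  have hOT : O ≤ Subgroup.normalizer
      ((stab3 H R (R ⊓ Subgroup.centralizer (Y : Set G)) (Y ⊓ R) : Subgroup G) : Set G) := by
    intro o ho
    apply mem_normalizer_of_conj_mem
    intro t ht
    exact stab3_conj_mem ht (c.OH ho) (c.HR (c.OH ho)) (c.O_norm_C ho) (c.O_norm_Y0 ho)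
  have hOcY0 : O ≤ Subgroup.centralizer ((Y ⊓ R : Subgroup G) : Set G) :=
    c.OcY.trans (Subgroup.centralizer_le inf_le_left)
  have hkey : ∀ o ∈ O, o⁻¹ * (x * o * x⁻¹) ∈
      stab3 H R (R ⊓ Subgroup.centralizer (Y : Set G)) (Y ⊓ R) := by
    intro o ho
    refine ⟨⟨⟨?_, ?_⟩, ?_⟩, ?_⟩
    · exact H.mul_mem (H.inv_mem (c.OH ho)) (H.mul_mem (H.mul_mem hxH (c.OH ho)) (H.inv_mem hxH))
    · exact Subgroup.mul_mem _ (Subgroup.inv_mem _ (c.O_cen ho))
        (cen_conj_mem (c.O_cen ho) hxC (fun r hr => conj_mem_of_mem_normalizer' (c.HR hxH) hr))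
    · have e : o⁻¹ * (x * o * x⁻¹) = (o⁻¹ * x * o⁻¹⁻¹) * x⁻¹ := by group
      rw [e]
      refine Subgroup.mul_mem _ (cen_conj_mem hxcen (Subgroup.inv_mem _ (c.O_norm_Y0 ho))
        (fun u hu => ?_)) (Subgroup.inv_mem _ hxcen)
      rw [inv_inv]
      exact conj_mem_of_mem_normalizer (c.O_norm_C ho) hu
    · apply Subgroup.mul_mem _ (Subgroup.inv_mem _ (hOcY0 ho))
      rw [Subgroup.mem_centralizer_iff]
      intro a ha
      have ha' := conj_mem_of_mem_normalizer' hx0 ha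
      have h1 := Subgroup.mem_centralizer_iff.mp (hOcY0 ho) _ ha'
      calc a * (x * o * x⁻¹) = x * ((x⁻¹ * a * x) * o) * x⁻¹ := by group
        _ = x * (o * (x⁻¹ * a * x)) * x⁻¹ := by rw [h1]
        _ = x * o * x⁻¹ * a := by group
  have hxO : cj x O ≤ O ⊔ stab3 H R (R ⊓ Subgroup.centralizer (Y : Set G)) (Y ⊓ R) := by
    intro u hu
    have hu' : x⁻¹ * u * x ∈ O := mem_cj.mp hu
    have e : u = (x⁻¹ * u * x) * ((x⁻¹ * u * x)⁻¹ * (x * (x⁻¹ * u * x) * x⁻¹)) := by group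
    rw [e]
    exact Subgroup.mul_mem _ (Subgroup.mem_sup_left hu') (Subgroup.mem_sup_right (hkey _ hu'))
  have hfin := c.hwc2 _ x (c.Op.to_sup_of_normal_right' hTp hOT) le_sup_left hxO
  exact c.hnor (Subgroup.mem_normalizer_iff_map_conj_eq.mpr hfin)

end Ctx

/-! ### the conclusions -/

namespace WS

variable {p : ℕ} {R L A B : Subgroup G} {k : G}

theorem A_norm_R0 [Finite G] (h : WS p R L A B k) :
    A ≤ Subgroup.normalizer ((R ⊓ Subgroup.centralizer (A : Set G) ⊔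
      R ⊓ Subgroup.centralizer (B : Set G) : Subgroup G) : Set G) := by
  intro y hy
  apply mem_normalizer_sup_of
  · intro u hu
    have : y * u * y⁻¹ = u := conj_eq_of_comm (Subgroup.mem_centralizer_iff.mp hu.2 y hy)
    rw [this]; exact Subgroup.mem_sup_left hu
  · intro u hu
    have e : y * u * y⁻¹ = (y * u * y⁻¹ * u⁻¹) * u := by group
    rw [e]
    have hq := h.quad' hu.1 hy
    exact Subgroup.mul_mem _ (Subgroup.mem_sup_left
      ⟨hq.2, Subgroup.mem_centralizer_iff.mpr (fun a ha => h.Acomm a ha _ hq.1)⟩)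
      (Subgroup.mem_sup_right hu)

theorem L_norm_R0 [Finite G] (h : WS p R L A B k) :
    L ≤ Subgroup.normalizer ((R ⊓ Subgroup.centralizer (A : Set G) ⊔
      R ⊓ Subgroup.centralizer (B : Set G) : Subgroup G) : Set G) := by
  rw [← h.gen]
  apply sup_le h.A_norm_R0
  have := h.symm.A_norm_R0
  rwa [sup_comm] at this

end WS

theorem map_subtype_lt_of_ne_top {L : Subgroup G} {K : Subgroup ↥L} (hK : K ≠ ⊤) :
    K.map L.subtype < L := by
  refine lt_of_le_of_ne (Subgroup.map_subtype_le K) (fun heq => hK ?_)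
  rw [eq_top_iff]
  intro x _
  have hx : (x : G) ∈ K.map L.subtype := by rw [heq]; exact x.2
  obtain ⟨y, hy, hyx⟩ := hx
  have : y = x := Subtype.ext hyx
  rw [← this]; exact hy

namespace Ctx

variable {p : ℕ} {Y O H L R : Subgroup G}

/-- every proper subgroup of `L` over `Y` normalizes `Y` -/
theorem le_normalizer_of_lt [Finite G] [Fact p.Prime] (c : Ctx p Y O H L R) {X : Subgroup G}
    (hYX : Y ≤ X) (hXL : X < L) : X ≤ L ⊓ Subgroup.normalizer (Y : Set G) := by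
  have h1 : Y ≤ pCoreOf p X := by
    by_contra hn
    exact hXL.ne (c.hmin X hXL.le hYX hn)
  intro x hx
  refine ⟨hXL.le hx, c.k1 (hXL.le hx) ?_⟩
  apply (pCoreOf_isPGroup p X).to_le
  apply sup_le h1
  have h2 := cj_mono x h1
  rwa [cj_eq_of_normalizer (le_normalizer_pCoreOf p X hx)] at h2

theorem inf_normalizer_lt (c : Ctx p Y O H L R) : L ⊓ Subgroup.normalizer (Y : Set G) < L := by
  refine lt_of_le_of_ne inf_le_left (fun heq => c.YnL ?_)
  exact le_pCoreOf c.YL (inf_eq_left.mp heq) c.Yp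

theorem cj_sup_eq [Finite G] [Fact p.Prime] (c : Ctx p Y O H L R) {h : G} (hh : h ∈ L)
    (hn : h ∉ Subgroup.normalizer (Y : Set G)) : cj h Y ⊔ O = H := by
  have h1 : Y ⊔ cj h Y = L := (c.dich hh).resolve_right (fun hp => hn (c.k1 hh hp))
  apply le_antisymm (sup_le ((cj_le_of_mem hh c.YL).trans c.LH) c.OH)
  rw [← c.sup_eq, ← h1]
  exact sup_le (sup_le (c.YO.trans le_sup_right) le_sup_left) le_sup_right

/-- `L` is `Y`-minimal -/
theorem minimalOver [Finite G] [Fact p.Prime] (c : Ctx p Y O H L R) :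
    IsMinimalOver (Y.subgroupOf L) := by
  have hM0 : (L ⊓ Subgroup.normalizer (Y : Set G)).subgroupOf L ≠ ⊤ := by
    intro htop
    apply c.inf_normalizer_lt.ne
    apply le_antisymm inf_le_left
    intro l hl
    have h1 : (⟨l, hl⟩ : ↥L) ∈ (L ⊓ Subgroup.normalizer (Y : Set G)).subgroupOf L := by
      rw [htop]; exact Subgroup.mem_top _
    exact ⟨hl, (Subgroup.mem_subgroupOf.mp h1).2⟩
  have hkey : ∀ K : Subgroup ↥L, K ≠ ⊤ → Y.subgroupOf L ≤ K →
      K ≤ (L ⊓ Subgroup.normalizer (Y : Set G)).subgroupOf L := by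
    intro K hK hYK
    have hYK' : Y ≤ K.map L.subtype := fun y hy =>
      ⟨⟨y, c.YL hy⟩, hYK (Subgroup.mem_subgroupOf.mpr hy), rfl⟩
    have h3 := c.le_normalizer_of_lt hYK' (map_subtype_lt_of_ne_top hK)
    intro x hx
    exact Subgroup.mem_subgroupOf.mpr (h3 ⟨x, hx, rfl⟩)
  have hYM0 : Y.subgroupOf L ≤ (L ⊓ Subgroup.normalizer (Y : Set G)).subgroupOf L := by
    intro y hy
    have hy' : (y : G) ∈ Y := Subgroup.mem_subgroupOf.mp hy
    exact Subgroup.mem_subgroupOf.mpr ⟨y.2, Subgroup.le_normalizer hy'⟩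
  constructor
  · have h1 : nclIn Y L = L := by
      by_contra hne
      have h2 : Y ≤ pCoreOf p (nclIn Y L) := by
        by_contra hn
        exact hne (c.hmin _ (nclIn_le Y L) (le_nclIn c.YL) hn)
      exact c.YnL (h2.trans
        (pCoreOf_le_pCoreOf_of_normal (nclIn_le Y L) (le_normalizer_nclIn Y L)))
    rw [eq_top_iff]
    intro x _
    have hx : (x : G) ∈ nclIn Y L := by rw [h1]; exact x.2
    obtain ⟨y, hy, hyx⟩ := hx
    have : y = x := Subtype.ext hyx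
    rw [← this]; exact hy
  · refine ⟨(L ⊓ Subgroup.normalizer (Y : Set G)).subgroupOf L, ⟨⟨hM0, ?_⟩, hYM0⟩, ?_⟩
    · intro K hK
      by_contra hKtop
      exact hK.not_ge (hkey K hKtop (hYM0.trans hK.le))
    · rintro M ⟨hM, hYM⟩
      have hle := hkey M hM.1 hYM
      by_contra hne
      exact hM0 (hM.2 _ (lt_of_le_of_ne hle hne))

/-- `L` has characteristic `p` -/
theorem charp [Finite G] [Fact p.Prime] (c : Ctx p Y O H L R) :
    L ⊓ Subgroup.centralizer (pCoreOf p L : Set G) ≤ pCoreOf p L := by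
  obtain ⟨k, hk, hgen⟩ := c.exists_gen
  have ws := c.ws hk hgen
  have hWL : Wof R Y (cj k Y) ≤ pCoreOf p L :=
    le_pCoreOf ws.W_le_L ws.L_norm_W (c.Rp.to_le ws.W_le_R)
  apply le_pCoreOf inf_le_left
  · intro l hl
    exact Cfsg.Agent.Lib.Helper47.Cent.normalizer_inf_le _ _ ⟨Subgroup.le_normalizer hl,
      Cfsg.Agent.Lib.Helper47.Cent.normalizer_le_normalizer_centralizer _
        (le_normalizer_pCoreOf p L hl)⟩
  · apply Cfsg.Agent.Lib.Helper46.PCore.isPGroup_of_forall_coprime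
    rintro d ⟨hdL, hdc⟩ hcop
    have h2 : ∀ r ∈ R, r * d = d * r := by
      intro r hr
      have hc := (ws.W3 hdL).2 r hr
      have hcomm := Subgroup.mem_centralizer_iff.mp hdc _ (hWL hc)
      exact (comm_of_comm_eq_one
        (comm_eq_one_of_coprime (c.Rp.to_le ws.W_le_R) hc hcomm.symm hcop)).symm
    have h3 : d ∈ R := c.hchar ⟨c.LH hdL, Subgroup.mem_centralizer_iff.mpr h2⟩
    exact Cfsg.Agent.Lib.Helper46.PCore.eq_one_of_mem_of_coprime c.Rp h3 hcop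

/-- `O^p(L)` acts nontrivially on every noncentral chief factor of `H` inside `O_p(H)` -/
theorem chief [Finite G] [Fact p.Prime] (c : Ctx p Y O H L R) {V W' : Subgroup G}
    (hVR : V ≤ R) (hHV : H ≤ Subgroup.normalizer (V : Set G))
    (hHW : H ≤ Subgroup.normalizer (W' : Set G)) (hWV : W' < V)
    (hchief : ∀ Z' : Subgroup G, H ≤ Subgroup.normalizer (Z' : Set G) → W' ≤ Z' → Z' ≤ V →
      Z' = W' ∨ Z' = V)
    (hnc : ¬ ⁅V, H⁆ ≤ W') : ¬ ⁅V, pResOf p L⁆ ≤ W' := by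
  intro hres
  have hresCn : pResOf p L ≤ H ⊓ cen (V : Set G) W' := by
    intro g hg
    have hgH : g ∈ H := c.LH (pResOf_le p L hg)
    refine ⟨hgH, hHW hgH, fun v hv => ?_⟩
    have h1 : ⁅v, g⁆ ∈ ⁅V, pResOf p L⁆ := Subgroup.commutator_mem_commutator hv hg
    have h2 := hres h1
    rw [commutatorElement_def] at h2
    have e : g * v * g⁻¹ * v⁻¹ = (v * g * v⁻¹ * g⁻¹)⁻¹ := by group
    rw [e]; exact W'.inv_mem h2
  have hLeq : pResOf p L ⊔ Y = L := by
    by_contra hne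
    have h2 : Y ≤ pCoreOf p (pResOf p L ⊔ Y) := by
      by_contra hn
      exact hne (c.hmin _ (sup_le (pResOf_le p L) c.YL) le_sup_right hn)
    exact c.YnL (h2.trans
      (pCoreOf_le_pCoreOf_of_pResOf_le le_sup_left (sup_le (pResOf_le p L) c.YL)))
  have hLle : L ≤ (H ⊓ cen (V : Set G) W') ⊔ O := by
    rw [← hLeq]
    exact sup_le (hresCn.trans le_sup_left) (c.YO.trans le_sup_right)
  have hCnO : (H ⊓ cen (V : Set G) W') ⊔ O = H := by
    by_contra hne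
    have hlt := lt_of_le_of_ne (sup_le inf_le_left c.OH) hne
    have h1 := c.hfrak _ le_sup_right hlt
    exact c.YnL ((le_inf h1 c.YL).trans (pCoreOf_inf_le hLle))
  have hVp : IsPGroup p V := c.Rp.to_le hVR
  have hOVp : IsPGroup p (O ⊔ V : Subgroup G) :=
    c.Op.to_sup_of_normal_right' hVp (c.OH.trans hHV)
  have hVH : V ≤ H := hVR.trans c.RH
  obtain ⟨v, hvV, hvW, hvfix⟩ := exists_fix hOVp le_sup_right
    (sup_le (c.OH.trans hHV) Subgroup.le_normalizer)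
    (sup_le (c.OH.trans hHW) (hVH.trans hHW)) (fun hle => hWV.not_ge hle)
  have hHv : H ≤ cen ({v} : Set G) W' := by
    rw [← hCnO]
    apply sup_le
    · intro g hg
      refine ⟨hHW hg.1, fun u hu => ?_⟩
      rw [Set.mem_singleton_iff.mp hu]
      exact hg.2.2 v hvV
    · intro o ho
      refine ⟨hHW (c.OH ho), fun u hu => ?_⟩
      rw [Set.mem_singleton_iff.mp hu]
      have e : o * v * o⁻¹ * v⁻¹ = (v * o * v⁻¹ * o⁻¹)⁻¹ := by group
      rw [e]; exact W'.inv_mem (hvfix o (Subgroup.mem_sup_left ho))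
  have hZn : H ≤ Subgroup.normalizer ((V ⊓ cen (H : Set G) W' : Subgroup G) : Set G) := by
    intro n hn
    apply mem_normalizer_of_conj_mem
    rintro u ⟨huV, hucen⟩
    exact ⟨conj_mem_of_mem_normalizer (hHV hn) huV, cen_conj_mem hucen (hHW hn)
      (fun h hh => H.mul_mem (H.mul_mem (H.inv_mem hn) hh) hn)⟩
  have hWZ : W' ≤ V ⊓ cen (H : Set G) W' := by
    intro u hu
    refine ⟨hWV.le hu, Subgroup.le_normalizer hu, fun h hh => ?_⟩
    have h1 := conj_mem_of_mem_normalizer (hHW hh) (W'.inv_mem hu)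
    have e : u * h * u⁻¹ * h⁻¹ = u * (h * u⁻¹ * h⁻¹) := by group
    rw [e]; exact W'.mul_mem hu h1
  have hvZ : v ∈ V ⊓ cen (H : Set G) W' := by
    refine ⟨hvV, hHW (hVH hvV), fun h hh => ?_⟩
    have h1 := (hHv hh).2 v rfl
    have e : v * h * v⁻¹ * h⁻¹ = (h * v * h⁻¹ * v⁻¹)⁻¹ := by group
    rw [e]; exact W'.inv_mem h1
  rcases hchief _ hZn hWZ inf_le_left with hZ | hZ
  · apply hvW
    rw [← hZ]; exact hvZ
  · apply hnc
    rw [Subgroup.commutator_le]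
    intro u hu h hh
    have huZ : u ∈ V ⊓ cen (H : Set G) W' := by rw [hZ]; exact hu
    rw [commutatorElement_def]
    exact huZ.2.2 h hh

/-- the normal closure of `O_p(L) ∩ Y` in `L` lies in `O_p(H)` -/
theorem ncl_le [Finite G] [Fact p.Prime] (c : Ctx p Y O H L R) :
    nclIn (pCoreOf p L ⊓ Y) L ≤ R := by
  refine nclIn_le_of ?_ (c.LH.trans c.HR)
  obtain ⟨k, hk, hgen⟩ := c.exists_gen
  have ws := c.ws hk hgen
  rintro y ⟨hyQ, hyY⟩
  have hQN : pCoreOf p L ≤ Subgroup.normalizer (Y : Set G) := by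
    intro l hl
    have hlL := pCoreOf_le p L hl
    apply c.k1 hlL
    have hp : IsPGroup p (Y ⊔ pCoreOf p L : Subgroup G) :=
      c.Yp.to_sup_of_normal_right' (pCoreOf_isPGroup p L)
        (c.YL.trans (le_normalizer_pCoreOf p L))
    apply hp.to_le
    apply sup_le le_sup_left
    intro u hu
    have hu' : l⁻¹ * u * l ∈ Y := mem_cj.mp hu
    have h1 := conj_mem_of_mem_normalizer (le_normalizer_pCoreOf p L (c.YL hu'))
      (Subgroup.inv_mem _ hl)
    have e : u = (l * ((l⁻¹ * u * l) * l⁻¹ * (l⁻¹ * u * l)⁻¹)) * (l⁻¹ * u * l) := by group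
    rw [e]
    exact Subgroup.mul_mem _ (Subgroup.mem_sup_right (Subgroup.mul_mem _ hl h1))
      (Subgroup.mem_sup_left hu')
  have hyk : ∀ b ∈ cj k Y, y * b * y⁻¹ ∈ cj k Y := by
    intro b hb
    have hn : k⁻¹ * y * k ∈ Subgroup.normalizer (Y : Set G) :=
      hQN (conj_mem_of_mem_normalizer' (le_normalizer_pCoreOf p L hk) hyQ)
    have hb' : k⁻¹ * b * k ∈ Y := mem_cj.mp hb
    have h1 := conj_mem_of_mem_normalizer hn hb'
    rw [mem_cj]
    have e : k⁻¹ * (y * b * y⁻¹) * k = k⁻¹ * y * k * (k⁻¹ * b * k) * (k⁻¹ * y * k)⁻¹ := by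
      group
    rw [e]; exact h1
  have hyL : y ∈ L := c.YL hyY
  have hyH : y ∈ H := c.LH hyL
  have hyI : ∀ b ∈ cj k Y ⊓ R, y * b * y⁻¹ * b⁻¹ ∈ Iof R Y (cj k Y) := by
    intro b hb
    refine ⟨⟨?_, ?_⟩, ?_⟩
    · have h1 := conj_mem_of_mem_normalizer (c.RnY hb.2) (Y.inv_mem hyY)
      have e : y * b * y⁻¹ * b⁻¹ = y * (b * y⁻¹ * b⁻¹) := by group
      rw [e]; exact Y.mul_mem hyY h1
    · exact Subgroup.mul_mem _ (hyk b hb.1) (Subgroup.inv_mem _ hb.1)
    · exact R.mul_mem (conj_mem_of_mem_normalizer (c.HR hyH) hb.2) (R.inv_mem hb.2)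
  have hOR0 : O ≤ Subgroup.normalizer ((R ⊓ Subgroup.centralizer (Y : Set G) ⊔
      R ⊓ Subgroup.centralizer ((cj k Y : Subgroup G) : Set G) : Subgroup G) : Set G) := by
    intro o ho
    apply mem_normalizer_sup_of
    · intro u hu
      exact Subgroup.mem_sup_left (conj_mem_of_mem_normalizer (c.O_norm_C ho) hu)
    · intro u hu
      have e : o * u * o⁻¹ = (o * u * o⁻¹ * u⁻¹) * u := by group
      rw [e]
      exact Subgroup.mul_mem _ (Subgroup.mem_sup_left (c.O_comm ho hu.1))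
        (Subgroup.mem_sup_right hu)
  have hHR0 : H ≤ Subgroup.normalizer ((R ⊓ Subgroup.centralizer (Y : Set G) ⊔
      R ⊓ Subgroup.centralizer ((cj k Y : Subgroup G) : Set G) : Subgroup G) : Set G) := by
    rw [← c.sup_eq]; exact sup_le ws.L_norm_R0 hOR0
  have hHI := c.H_cent_I hk hgen
  have hHIn : H ≤ Subgroup.normalizer (Iof R Y (cj k Y) : Set G) :=
    hHI.trans (Subgroup.centralizer_le_normalizer _)
  have hR0R : R ⊓ Subgroup.centralizer (Y : Set G) ⊔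
      R ⊓ Subgroup.centralizer ((cj k Y : Subgroup G) : Set G) ≤ R := sup_le inf_le_left inf_le_left
  have hR0cen : R ⊓ Subgroup.centralizer (Y : Set G) ⊔
      R ⊓ Subgroup.centralizer ((cj k Y : Subgroup G) : Set G) ≤
      cen ({y} : Set G) (Iof R Y (cj k Y)) := by
    apply sup_le
    · intro u hu
      refine ⟨hHIn (c.RH hu.1), fun t ht => ?_⟩
      rw [Set.mem_singleton_iff.mp ht,
        comm_eq_one_of_comm (Subgroup.mem_centralizer_iff.mp hu.2 y hyY).symm]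
      exact Subgroup.one_mem _
    · intro u hu
      refine ⟨hHIn (c.RH hu.1), fun t ht => ?_⟩
      rw [Set.mem_singleton_iff.mp ht]
      obtain ⟨b, hb, z, _, hzL, rfl⟩ := ws.symm.decomp hu.1 hu.2
      have hz : y * z = z * y := Subgroup.mem_centralizer_iff.mp hzL y hyL
      have e : b * z * y * (b * z)⁻¹ * y⁻¹ = (y * b * y⁻¹ * b⁻¹)⁻¹ := by
        have h1 : z * y * z⁻¹ = y := conj_eq_of_comm hz.symm
        calc b * z * y * (b * z)⁻¹ * y⁻¹ = b * (z * y * z⁻¹) * b⁻¹ * y⁻¹ := by group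
          _ = b * y * b⁻¹ * y⁻¹ := by rw [h1]
          _ = _ := by group
      rw [e]
      exact Subgroup.inv_mem _ (hyI b hb)
  have hy3 : y ∈ stab3 H R (R ⊓ Subgroup.centralizer (Y : Set G) ⊔
      R ⊓ Subgroup.centralizer ((cj k Y : Subgroup G) : Set G)) (Iof R Y (cj k Y)) := by
    refine ⟨⟨⟨hyH, hHR0 hyH, fun r hr => ?_⟩, hHIn hyH, fun u hu => ?_⟩, hHI hyH⟩
    · exact Subgroup.mem_sup_left (c.Y0_le_C (ws.quad' hr hyY))
    · have h1 := cen_comm' (hR0cen hu) (Set.mem_singleton y)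
      exact h1
  have hsle : stab3 H R (R ⊓ Subgroup.centralizer (Y : Set G) ⊔
      R ⊓ Subgroup.centralizer ((cj k Y : Subgroup G) : Set G)) (Iof R Y (cj k Y)) ≤ R := by
    apply c.Rmax
    · exact fun t ht => ht.1.1.1
    · intro n hn
      apply mem_normalizer_of_conj_mem
      intro t ht
      exact stab3_conj_mem ht hn (c.HR hn) (hHR0 hn) (hHIn hn)
    · exact isPGroup_stab3 c.hchar c.Rp (c.Rp.to_le hR0R)
        (c.Rp.to_le (fun t ht => ht.2))
  exact hsle hy3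

end Ctx

end Cfsg.Agent.Lib.Helper31.AsymL
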