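import Mathlib
import Cfsg.Agent.Lib.Helper30.CTIStmt

set_option autoImplicit false

/-! S4064 piece DEG (helper30 call): `|G ⧸ H| = |M| + 1` (`H = NM M`), by orbit-stabilizer for the
action of `H` on the cosets other than `H`: transitive (Z2c), stabilizer of `↑u` is `D_u`. -/

namespace Cfsg.Agent.Lib.Helper31.CTIDEG

open Cfsg.Agent.Lib.Helper30.CTIStmt

universe u

theorem mem_map_conj {G : Type u} [Group G] (H : Subgroup G) (w g : G) :
    g ∈ H.map (MulAut.conj w).toMonoidHom ↔ w⁻¹ * g * w ∈ H := by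
  rw [Subgroup.mem_map]
  constructor
  · rintro ⟨k, hk, rfl⟩
    have e : w⁻¹ * (MulAut.conj w).toMonoidHom k * w = k := by
      show w⁻¹ * (w * k * w⁻¹) * w = k
      group
    rw [e]; exact hk
  · intro h
    refine ⟨w⁻¹ * g * w, h, ?_⟩
    show w * (w⁻¹ * g * w) * w⁻¹ = g
    group

/-- the stabilizer of `↑w` in `H`, mapped to `G`, is `D_w = H ⊓ w H w⁻¹`. -/
theorem stab_map {G : Type u} [Group G] (H : Subgroup G) (w : G) :
    (MulAction.stabilizer H ((w : G) : G ⧸ H)).map H.subtype = DU H w := by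
  ext g
  rw [Subgroup.mem_inf, mem_map_conj, Subgroup.mem_map]
  constructor
  · rintro ⟨⟨h, hh⟩, hs, rfl⟩
    refine ⟨hh, ?_⟩
    rw [MulAction.mem_stabilizer_iff] at hs
    have h1 : ((h * w : G) : G ⧸ H) = (w : G ⧸ H) := hs
    rw [QuotientGroup.eq] at h1
    have h2 := H.inv_mem h1
    have e : ((h * w)⁻¹ * w)⁻¹ = w⁻¹ * h * w := by group
    rw [e] at h2
    exact h2
  · rintro ⟨hg, hk⟩
    refine ⟨⟨g, hg⟩, ?_, rfl⟩
    rw [MulAction.mem_stabilizer_iff]
    show ((g * w : G) : G ⧸ H) = (w : G ⧸ H)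
    rw [QuotientGroup.eq]
    have e : (g * w)⁻¹ * w = (w⁻¹ * g * w)⁻¹ := by group
    rw [e]; exact H.inv_mem hk

theorem main : DEG.{u} := by
  intro G _ _ M zd hZ2
  classical
  have hHtop : NM M ≠ ⊤ := zd.se.1
  obtain ⟨g, hg⟩ : ∃ g : G, g ∉ NM M := by
    by_contra hcon
    push Not at hcon
    exact hHtop (eq_top_iff.mpr fun g _ => hcon g)
  have hx1 : ((g : G) : G ⧸ NM M) ≠ ((1 : G) : G ⧸ NM M) := by
    intro h
    rw [QuotientGroup.eq] at h
    apply hg
    have h2 := (NM M).inv_mem h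
    simpa using h2
  obtain ⟨w, hw2, hwx⟩ := zd.swap ((1 : G) : G ⧸ NM M) (g : G ⧸ NM M) (Ne.symm hx1)
  have hwx' : ((w : G) : G ⧸ NM M) = (g : G ⧸ NM M) := by
    rw [← hwx]
    show ((w : G) : G ⧸ NM M) = ((w * 1 : G) : G ⧸ NM M)
    rw [mul_one]
  have hw1 : ((w : G) : G ⧸ NM M) ≠ ((1 : G) : G ⧸ NM M) := hwx' ▸ hx1
  have hwH : w ∉ NM M := by
    intro h
    apply hw1
    rw [QuotientGroup.eq]
    simpa using (NM M).inv_mem h
  -- the orbit of `↑w` under `H` is the complement of `↑1`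
  have horb : ∀ y : G ⧸ NM M, y ∈ MulAction.orbit (NM M) ((w : G) : G ⧸ NM M) ↔
      y ≠ ((1 : G) : G ⧸ NM M) := by
    intro y
    rw [MulAction.mem_orbit_iff]
    constructor
    · rintro ⟨⟨h, hh⟩, rfl⟩ hy
      have h1 : ((h * w : G) : G ⧸ NM M) = ((1 : G) : G ⧸ NM M) := hy
      rw [QuotientGroup.eq] at h1
      apply hwH
      have h2 := (NM M).mul_mem ((NM M).inv_mem h1) ((NM M).inv_mem hh)
      have e : ((h * w)⁻¹ * 1)⁻¹ * h⁻¹ = h * w * h⁻¹ := by group
      rw [e] at h2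
      have h3 := (NM M).mul_mem ((NM M).mul_mem ((NM M).inv_mem hh) h2) hh
      have e2 : h⁻¹ * (h * w * h⁻¹) * h = w := by group
      rwa [e2] at h3
    · intro hy
      obtain ⟨h, hh, hxy⟩ := hZ2 (w : G ⧸ NM M) y hw1 hy
      exact ⟨⟨h, hh⟩, hxy⟩
  have hcard1 : Nat.card (MulAction.orbit (NM M) ((w : G) : G ⧸ NM M)) =
      Nat.card {y : G ⧸ NM M // y ≠ ((1 : G) : G ⧸ NM M)} :=
    Nat.card_congr (Equiv.subtypeEquivRight horb)
  have hcard2 : Nat.card (G ⧸ NM M) =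
      Nat.card {y : G ⧸ NM M // y ≠ ((1 : G) : G ⧸ NM M)} + 1 := by
    rw [← Finite.card_option]
    exact Nat.card_congr (Equiv.optionSubtypeNe ((1 : G) : G ⧸ NM M)).symm
  have hcard3 : Nat.card (MulAction.orbit (NM M) ((w : G) : G ⧸ NM M)) *
      Nat.card (MulAction.stabilizer (NM M) ((w : G) : G ⧸ NM M)) = Nat.card (NM M) := by
    rw [← Nat.card_prod]
    exact Nat.card_congr (MulAction.orbitProdStabilizerEquivGroup (NM M) _)
  have hcard4 : Nat.card (MulAction.stabilizer (NM M) ((w : G) : G ⧸ NM M)) =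
      Nat.card (DU (NM M) w) := by
    rw [← stab_map (NM M) w]
    exact (Subgroup.card_map_of_injective (NM M).subtype_injective).symm
  have hD := zd.dcard w hw2 hwH
  have hH := zd.hcard
  have h2 := zd.i2
  rw [hcard4, hD, hH] at hcard3
  have hfin : Nat.card (MulAction.orbit (NM M) ((w : G) : G ⧸ NM M)) = Nat.card M :=
    Nat.eq_of_mul_eq_mul_right (by omega) hcard3
  rw [hcard2, ← hcard1, hfin]

end Cfsg.Agent.Lib.Helper31.CTIDEG
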