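import Mathlib
import Cfsg.Agent.Lib.Helper31.ECStmt
import Cfsg.Agent.S2843
import Cfsg.Agent.S2838
import Cfsg.Agent.Lib.Helper47.WeakCl
import Cfsg.Agent.Lib.Helper47.Qs
import Cfsg.Agent.Lib.Helper47.SecCent
import Cfsg.Agent.Lib.Helper47.PRed
import Cfsg.Agent.Lib.Helper48.CharP
import Cfsg.Agent.Lib.Helper21.Quasi

/-!
# S2860: assembly of the pieces of `ECStmt`
-/

set_option autoImplicit false

namespace Cfsg.Agent.Lib.Helper31.ECAsm

universe u

open Cfsg Cfsg.Agent.Lib.Helper31.ECStmt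
open Cfsg.Agent.Lib.Helper47.Syl Cfsg.Agent.Lib.Helper47.PRes Cfsg.Agent.Lib.Helper47.WeakCl
  Cfsg.Agent.Lib.Helper47.FrakH
open scoped commutatorElement

/-- a nontrivial large `p`-subgroup is weakly closed -/
theorem weaklyClosed_of_large {G : Type u} [Group G] [Finite G] {p : ℕ} [Fact p.Prime]
    {Q : Subgroup G} (hQp : IsPGroup p ↥Q) (hQ1 : Q ≠ ⊥) (hQ : Cfsg.IsLarge Q) :
    Cfsg.IsWeaklyClosedSubgroup p Q := by
  refine ((Cfsg.Agent.S2838.result Q hQp hQ1).2).mpr ?_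
  intro R hR hQR
  have hR1 : R ⊓ R ≠ ⊥ := by
    rw [inf_idem]; intro h; apply hQ1; rw [eq_bot_iff, ← h]; exact hQR
  obtain ⟨z, hzR, -, hzp, hzZ⟩ :=
    Cfsg.Agent.Lib.Helper48.CharP.exists_central_orderOf hR Subgroup.le_normalizer hR1
  have hZ1 : R ⊓ Subgroup.centralizer (R : Set G) ≠ ⊥ := by
    intro h
    have hz : z ∈ R ⊓ Subgroup.centralizer (R : Set G) :=
      Subgroup.mem_inf.mpr ⟨hzR, by rw [Subgroup.mem_centralizer_iff]; exact hzZ⟩
    rw [h, Subgroup.mem_bot] at hz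
    rw [hz, orderOf_one] at hzp
    exact (Fact.out : p.Prime).ne_one hzp.symm
  have hZQ : R ⊓ Subgroup.centralizer (R : Set G) ≤ Subgroup.centralizer (Q : Set G) :=
    inf_le_right.trans (Subgroup.centralizer_le hQR)
  have hNZ := hQ.2 _ hZQ hZ1
  intro n hn
  exact hNZ (Cfsg.Agent.Lib.Helper48.CharP.mem_normalizer_inf hn
    (Cfsg.Agent.Lib.Helper48.CharP.mem_normalizer_centralizer hn))

/-- a perfect subgroup lies in every subgroup containing a `p`-power of each of its elements -/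
theorem perfect_le_of_pow_mem {X : Type u} [Group X] [Finite X] {p : ℕ} [Fact p.Prime]
    {K N : Subgroup X} (hK : ⁅K, K⁆ = K) (h : ∀ k ∈ K, ∃ n : ℕ, k ^ p ^ n ∈ N) : K ≤ N := by
  have hperf : Group.IsPerfect ↥K := Subgroup.isPerfect_iff.mpr hK
  have h1 : K ≤ pResOf p K := by
    have hperfTop : Group.IsPerfect ↥(⊤ : Subgroup ↥K) := inferInstance
    have h2 := Cfsg.Agent.Lib.Helper47.Qs.perfect_le_pResidual (p := p) hperfTop
    intro k hk
    exact ⟨⟨k, hk⟩, h2 (Subgroup.mem_top _), rfl⟩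
  exact h1.trans (pResOf_le_of_pow_mem h)

theorem assembly (hQSA : QSA.{u}) (hQSB : QSB.{u}) (hABPERF : ABPERF.{u}) (hYGEN : YGEN.{u})
    (hQS5 : QS5.{u}) (hIMLE : IMLE.{u}) (hIMCOMM : IMCOMM.{u}) (hIMBASIC : IMBASIC.{u})
    (hIMK : IMK.{u}) (hQISO : QISO.{u})
    {G : Type u} [Group G] [Finite G] {p : ℕ} [Fact p.Prime] (Q : Subgroup G) (hQp : IsPGroup p ↥Q) (hQ1 : Q ≠ ⊥) (hQ : Cfsg.IsLarge Q) (U : Subgroup G) (hU : Cfsg.IsElementaryAbelian p U) (hU1 : U ≠ ⊥) (E : Subgroup G) (hQE : Q ≤ E) (hEU : E ≤ Subgroup.normalizer ((U : Subgroup G) : Set G)) (hQn : ¬ E ≤ Subgroup.normalizer ((Q : Subgroup G) : Set G)) [hn : ((Subgroup.centralizer ((U : Subgroup G) : Set G)).subgroupOf E).Normal] (hred : Cfsg.pCore p (↥E ⧸ (Subgroup.centralizer ((U : Subgroup G) : Set G)).subgroupOf E) = ⊥) (hqs : Cfsg.IsQuasisimple ↥(((Cfsg.pResidual p ↥E) ⊔ (Subgroup.centralizer ((U : Subgroup G) : Set G)).subgroupOf E).map (QuotientGroup.mk'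 ((Subgroup.centralizer ((U : Subgroup G) : Set G)).subgroupOf E)))) (Er : Subgroup G) (hEr : Er = ((Cfsg.pResidual p ↥(Cfsg.weakClosure Q E)).map ((Cfsg.weakClosure Q E)).subtype)) [hn2 : ((Subgroup.centralizer ((U : Subgroup G) : Set G)).subgroupOf Er).Normal] : ((Cfsg.pResidual p ↥E).map (E).subtype) ⊔ (E ⊓ Subgroup.centralizer ((U : Subgroup G) : Set G)) = Er ⊔ (E ⊓ Subgroup.centralizer ((U : Subgroup G) : Set G)) ∧ ⁅Er, Er⁆ = Er ∧ ((Cfsg.pResidual p ↥Er).map (Er).subtype) = Er ∧ Cfsg.IsQuasisimple (↥Er ⧸ (Subgroup.centralizer ((U : Subgroup G) : Set G)).subgroupOf Er) ∧ Cfsg.IsQuasisimple (↥Er ⧸ Cfsg.pCore p ↥Er) ∧ ∀ Y : Subgroup G, Y ≤ E → IsPGroup p ↥Y → ¬ Y ≤ Subgroup.centralizer ((U : Subgroup G) : Set G) → ⁅Er, Y⁆ = Er := by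
  classical
  set C := Subgroup.centralizer ((U : Subgroup G) : Set G) with hCdef
  set W := Cfsg.weakClosure Q E with hWdef
  have hEr' : Er = pResOf p W := hEr
  -- basic facts
  have hUp : IsPGroup p ↥U := by
    intro u
    refine ⟨1, ?_⟩
    apply Subtype.ext
    simpa using hU.2 u.1 u.2
  have hQC : ¬ Q ≤ C := by
    intro h
    have hUQ : U ≤ Subgroup.centralizer (Q : Set G) :=
      Cfsg.Agent.Lib.Helper47.PRed.le_centralizer_comm h
    exact hQn (hEU.trans (hQ.2 U hUQ hU1))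
  have hwc : Cfsg.IsWeaklyClosedSubgroup p Q := weaklyClosed_of_large hQp hQ1 hQ
  have hGen : Gen Q W := gen_weakClosure hQp hQ1 hwc hQE
  have hWE : W ≤ E := weakClosure_le Q E
  have hQW : Q ≤ W := le_weakClosure hQE
  have hEW : E ≤ Subgroup.normalizer ((W : Subgroup G) : Set G) :=
    Subgroup.le_normalizer.trans (normalizer_le_normalizer_weakClosure Q E)
  have hErW : Er ≤ W := by rw [hEr']; exact pResOf_le p W
  have hErE : Er ≤ E := hErW.trans hWE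
  have hEEr : E ≤ Subgroup.normalizer ((Er : Subgroup G) : Set G) := by
    rw [hEr']; exact hEW.trans (normalizer_le_normalizer_pResOf p W)
  have hcommQ : ⁅Er, Q⁆ = Er := by rw [hEr']; exact hGen.pRes_comm hQp hQ1 hwc
  have hWC : ⁅W, C⁆ ≤ pCoreOf p W :=
    (Cfsg.Agent.S2843.result Q hQp hQ1 hQ E hQE U hUp hU1 hEU).2.1
  have hEC : E ≤ Subgroup.normalizer ((C : Subgroup G) : Set G) := fun e he =>
    Cfsg.Agent.Lib.Helper48.CharP.mem_normalizer_centralizer (hEU he)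
  have hECn : E ≤ Subgroup.normalizer ((E ⊓ C : Subgroup G) : Set G) :=
    Cfsg.Agent.Lib.Helper47.PRed.le_normalizer_inf Subgroup.le_normalizer hEC
  have hpowEr : ∀ w ∈ W, ∃ k : ℕ, w ^ p ^ k ∈ Er := by
    intro w hw
    rw [hEr']
    exact exists_pow_mem_pResOf hw
  have hErpE : Er ≤ (Cfsg.pResidual p ↥E).map E.subtype := by
    rw [hEr']; exact pResOf_mono hWE
  have hpEE : (Cfsg.pResidual p ↥E).map E.subtype ≤ E := pResOf_le p E
  have hdd : ⁅Er, Er⁆ ≤ Er := commutator_le_left Subgroup.le_normalizer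
  -- the quotient level
  obtain ⟨hK_eq, hKn, hKpow⟩ := hIMK G p E C
  have hA := hQSA _ p (Kbar p E C) hred hKn hqs hKpow
  have hKperf : ⁅Kbar p E C, Kbar p E C⁆ = Kbar p E C := Subgroup.isPerfect_iff.mp hqs.1
  have hKW : Kbar p E C ≤ im E C W := by
    have hWn : (im E C W).Normal := (hIMBASIC G p E C W hWE).1 hEW
    obtain ⟨q, hq, hqC⟩ := SetLike.not_le_iff_exists.mp hQC
    refine hA (im E C W) hWn ⟨QuotientGroup.mk' (C.subgroupOf E) ⟨q, hQE hq⟩,
      ⟨⟨q, hQE hq⟩, Subgroup.mem_subgroupOf.mpr (hQW hq), rfl⟩, ?_, ?_⟩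
    · intro h1
      apply hqC
      have h2 := (QuotientGroup.eq_one_iff _).mp h1
      exact Subgroup.mem_subgroupOf.mp h2
    · obtain ⟨k, hk⟩ := hQp ⟨q, hq⟩
      refine ⟨k, ?_⟩
      have h3 : q ^ p ^ k = 1 := by
        have := congrArg Subtype.val hk
        simpa using this
      rw [← map_pow]
      have h4 : (⟨q, hQE hq⟩ : ↥E) ^ p ^ k = 1 := by
        apply Subtype.ext
        simpa using h3
      rw [h4, map_one]
  have hKEr : Kbar p E C ≤ im E C Er := by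
    apply perfect_le_of_pow_mem (p := p) hKperf
    intro k hk
    obtain ⟨⟨w, hwE⟩, hw, rfl⟩ := hKW hk
    have hw' : w ∈ W := Subgroup.mem_subgroupOf.mp hw
    obtain ⟨n, hn'⟩ := hpowEr w hw'
    refine ⟨n, ⟨(⟨w, hwE⟩ : ↥E) ^ p ^ n, ?_, by rw [map_pow]⟩⟩
    rw [SetLike.mem_coe, Subgroup.mem_subgroupOf]
    simpa using hn'
  have hErK : im E C Er ≤ Kbar p E C := by
    rw [hK_eq]
    exact (hIMLE G E C Er _ hErE hpEE).mpr (hErpE.trans le_sup_left)
  have hEq : im E C Er = Kbar p E C := le_antisymm hErK hKEr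
  -- part 1
  have part1 : (Cfsg.pResidual p ↥E).map E.subtype ⊔ (E ⊓ C) = Er ⊔ (E ⊓ C) := by
    apply le_antisymm
    · exact sup_le ((hIMLE G E C _ Er hpEE hErE).mp (hK_eq.ge.trans hKEr)) le_sup_right
    · exact sup_le (hErpE.trans le_sup_left) le_sup_right
  -- part 2
  have hG2 : Er ≤ ⁅Er, Er⁆ ⊔ (E ⊓ C) := by
    apply (hIMLE G E C Er ⁅Er, Er⁆ hErE (hdd.trans hErE)).mp
    rw [hIMCOMM G E C Er Er hErE hErE, hEq, hKperf]
  have hQEr : Q ≤ Subgroup.normalizer ((Er : Subgroup G) : Set G) := hQE.trans hEEr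
  have hQdd : Q ≤ Subgroup.normalizer ((⁅Er, Er⁆ : Subgroup G) : Set G) := fun q hq =>
    mem_normalizer_commutator (hQEr hq) (hQEr hq)
  have part2 : ⁅Er, Er⁆ = Er := by
    apply le_antisymm hdd
    have h1 : ⁅Er, Q⁆ ≤ ⁅Er, Er⁆ := by
      rw [Subgroup.commutator_le]
      intro x hx q hq
      obtain ⟨d, hd, c, hc, rfl⟩ :=
        exists_mul_of_mem_sup_left ((hdd.trans hErE).trans hECn) (hG2 hx)
      have hcEr : c ∈ Er := by
        have h2 := Er.mul_mem (Er.inv_mem (hdd hd)) hx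
        simpa using h2
      have e1 : ⁅d * c, q⁆ = d * ⁅c, q⁆ * d⁻¹ * ⁅d, q⁆ := by
        simp only [commutatorElement_def]; group
      have hcqEr : ⁅c, q⁆ ∈ Er := by
        have h2 := Er.mul_mem hcEr (conj_mem_of_mem_normalizer (hQEr hq) (Er.inv_mem hcEr))
        have h3 : c * (q * c⁻¹ * q⁻¹) = ⁅c, q⁆ := by rw [commutatorElement_def]; group
        rwa [h3] at h2
      have hcqP : ⁅c, q⁆ ∈ pCoreOf p W := by
        apply hWC
        rw [Subgroup.commutator_comm]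
        exact Subgroup.commutator_mem_commutator hc.2 (hQW hq)
      have hcqpow : ∃ n : ℕ, ⁅c, q⁆ ^ p ^ n = 1 := by
        obtain ⟨k, hk⟩ := pCoreOf_isPGroup p W ⟨⁅c, q⁆, hcqP⟩
        refine ⟨k, ?_⟩
        have := congrArg Subtype.val hk
        simpa using this
      have hcqdd : ⁅c, q⁆ ∈ ⁅Er, Er⁆ := by
        have h2 := hABPERF G p W ⁅c, q⁆ (by rw [hEr'] at hcqEr; exact hcqEr) hcqpow
        rw [hEr']
        exact h2
      have hdq : ⁅d, q⁆ ∈ ⁅Er, Er⁆ := by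
        have h2 := Subgroup.mul_mem _ hd
          (conj_mem_of_mem_normalizer (hQdd hq) (Subgroup.inv_mem _ hd))
        have h3 : d * (q * d⁻¹ * q⁻¹) = ⁅d, q⁆ := by rw [commutatorElement_def]; group
        rwa [h3] at h2
      rw [e1]
      exact Subgroup.mul_mem _ (Subgroup.mul_mem _ (Subgroup.mul_mem _ hd hcqdd)
        (Subgroup.inv_mem _ hd)) hdq
    rw [hcommQ] at h1
    exact h1
  -- part 3
  have part3 : (Cfsg.pResidual p ↥Er).map Er.subtype = Er := by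
    have h1 : pResOf p Er = Er := by rw [hEr']; exact pResOf_pResOf p W
    exact h1
  -- part 4
  have part4 : Cfsg.IsQuasisimple (↥Er ⧸ C.subgroupOf Er) := by
    obtain ⟨e⟩ := hQISO G p E C Er hErE hEq
    exact Cfsg.Agent.Lib.Helper21.Quasi.of_mulEquiv e.symm hqs
  -- part 5
  have hperfEr : Group.IsPerfect ↥Er := Subgroup.isPerfect_iff.mpr part2
  have hPC : pCoreOf p Er ≤ C := by
    have hle : pCoreOf p Er ≤ E := (pCoreOf_le p Er).trans hErE
    obtain ⟨b1, b2, b3⟩ := hIMBASIC G p E C (pCoreOf p Er) hle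
    have hNn : (im E C (pCoreOf p Er)).Normal :=
      b1 (hEEr.trans (Cfsg.Agent.Lib.Helper47.SecCent.normalizer_le_normalizer_pCoreOf p Er))
    have hNp : IsPGroup p ↥(im E C (pCoreOf p Er)) := b2 (pCoreOf_isPGroup p Er)
    have hbot : im E C (pCoreOf p Er) = ⊥ := by
      rw [eq_bot_iff, ← hred]
      exact Cfsg.Agent.Lib.Helper47.Basic.le_pCore hNn hNp
    exact b3.mp hbot
  have hRD : Cfsg.pCore p ↥Er ≤ C.subgroupOf Er := by
    intro x hx
    rw [pCore_eq_subgroupOf] at hx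
    exact Subgroup.mem_subgroupOf.mpr (hPC (Subgroup.mem_subgroupOf.mp hx))
  have hWPEr : pCoreOf p W ⊓ Er ≤ pCoreOf p Er := by
    apply le_pCoreOf inf_le_right
    · exact Cfsg.Agent.Lib.Helper47.PRed.le_normalizer_inf
        (hErW.trans (le_normalizer_pCoreOf p W)) Subgroup.le_normalizer
    · exact (pCoreOf_isPGroup p W).to_le inf_le_left
  have hcent : ∀ x : ↥Er, ∀ d ∈ C.subgroupOf Er, x * d * x⁻¹ * d⁻¹ ∈ Cfsg.pCore p ↥Er := by
    intro x d hd
    rw [pCore_eq_subgroupOf, Subgroup.mem_subgroupOf]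
    apply hWPEr
    refine ⟨?_, (x * d * x⁻¹ * d⁻¹).2⟩
    apply hWC
    have h1 : ((x * d * x⁻¹ * d⁻¹ : ↥Er) : G) = ⁅(x : G), (d : G)⁆ := by
      rw [commutatorElement_def]; simp
    rw [h1]
    exact Subgroup.commutator_mem_commutator (hErW x.2) (Subgroup.mem_subgroupOf.mp hd)
  have part5 : Cfsg.IsQuasisimple (↥Er ⧸ Cfsg.pCore p ↥Er) :=
    hQS5 ↥Er (Cfsg.pCore p ↥Er) (C.subgroupOf Er) hperfEr hRD hcent part4
  -- part 6
  have hres : Cfsg.pResidual p ↥Er = ⊤ := by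
    apply Subgroup.map_injective Er.subtype_injective
    rw [part3, ← MonoidHom.range_eq_map, Subgroup.range_subtype]
  refine ⟨part1, part2, part3, part4, part5, ?_⟩
  intro Y hYE hYp hYC
  have hYEr : Y ≤ Subgroup.normalizer ((Er : Subgroup G) : Set G) := hYE.trans hEEr
  have hle : ⁅Er, Y⁆ ≤ Er := commutator_le_left hYEr
  apply le_antisymm hle
  obtain ⟨-, b2, b3⟩ := hIMBASIC G p E C Y hYE
  have hYp' : IsPGroup p ↥(im E C Y) := b2 hYp
  have hY1' : im E C Y ≠ ⊥ := fun h => hYC (b3.mp h)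
  have hB := hQSB hQSA _ p (Kbar p E C) hred hKn hqs hKpow (im E C Y) hYp' hY1'
  have hG6 : Er ≤ ⁅Er, Y⁆ ⊔ (E ⊓ C) := by
    apply (hIMLE G E C Er ⁅Er, Y⁆ hErE (hle.trans hErE)).mp
    rw [hIMCOMM G E C Er Y hErE hYE, hEq, hB]
  have hNn : ((⁅Er, Y⁆ : Subgroup G).subgroupOf Er).Normal :=
    Subgroup.normal_subgroupOf_of_le_normalizer
      (Cfsg.Agent.Lib.Helper47.Qs.le_normalizer_commutator Er Y)
  have hsup : (⁅Er, Y⁆ : Subgroup G).subgroupOf Er ⊔ C.subgroupOf Er = ⊤ := by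
    rw [eq_top_iff]
    rintro ⟨x, hx⟩ -
    obtain ⟨a, ha, b, hb, rfl⟩ :=
      exists_mul_of_mem_sup_left ((hle.trans hErE).trans hECn) (hG6 hx)
    have hbEr : b ∈ Er := by
      have h2 := Er.mul_mem (Er.inv_mem (hle ha)) hx
      simpa using h2
    have h3 : (⟨a * b, hx⟩ : ↥Er) = ⟨a, hle ha⟩ * ⟨b, hbEr⟩ := rfl
    rw [h3]
    exact Subgroup.mul_mem_sup (Subgroup.mem_subgroupOf.mpr ha)
      (Subgroup.mem_subgroupOf.mpr hb.2)
  have hfin := hYGEN ↥Er p ((⁅Er, Y⁆ : Subgroup G).subgroupOf Er) (C.subgroupOf Er)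
    (Cfsg.pCore p ↥Er) hperfEr hres hNn hsup hcent
    (Cfsg.Agent.Lib.Helper47.Basic.pCore_isPGroup p ↥Er)
  exact Subgroup.subgroupOf_eq_top.mp hfin

end Cfsg.Agent.Lib.Helper31.ECAsm
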