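import Mathlib
import Cfsg.Agent.Lib.Helper31.ECStmt
import Cfsg.Agent.Lib.Helper47.PRes

/-!
# S2860 pieces IMK and QISO (second copies, written by the owner of the call)
-/

set_option autoImplicit false

namespace Cfsg.Agent.Lib.Helper31.ECIMK2

universe u

open Cfsg Cfsg.Agent.Lib.Helper31.ECStmt

theorem imk : IMK.{u} := by
  intro G _ _ p _ E C _
  have hmap : Kbar p E C = (Cfsg.pResidual p ↥E).map (QuotientGroup.mk' (C.subgroupOf E)) := by
    unfold Kbar
    rw [Subgroup.map_sup]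
    have h1 : (C.subgroupOf E).map (QuotientGroup.mk' (C.subgroupOf E)) = ⊥ := by
      rw [eq_bot_iff]
      rintro _ ⟨x, hx, rfl⟩
      rw [Subgroup.mem_bot]
      exact (QuotientGroup.eq_one_iff _).mpr hx
    rw [h1, sup_bot_eq]
  have hRn : (Cfsg.pResidual p ↥E).Normal := Cfsg.Agent.Lib.Helper47.PRes.pResidual_normal p ↥E
  refine ⟨?_, ?_, ?_⟩
  · rw [hmap]
    unfold im
    congr 1
    unfold Subgroup.subgroupOf
    rw [Subgroup.comap_map_eq_self_of_injective E.subtype_injective]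
  · rw [hmap]
    exact Subgroup.Normal.map hRn _ (QuotientGroup.mk'_surjective _)
  · intro x
    obtain ⟨e, rfl⟩ := QuotientGroup.mk'_surjective _ x
    obtain ⟨k, hk⟩ := Cfsg.Agent.Lib.Helper47.PRes.exists_pow_coprime (p := p) e
    refine ⟨k, ?_⟩
    rw [hmap, ← map_pow]
    exact ⟨e ^ p ^ k, Subgroup.subset_closure hk, rfl⟩

theorem qiso : QISO.{u} := by
  intro G _ p E C _ A _ hAE hEq
  let f : ↥A →* ↥E ⧸ C.subgroupOf E :=
    (QuotientGroup.mk' (C.subgroupOf E)).comp (Subgroup.inclusion hAE)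
  have hker : f.ker = C.subgroupOf A := by
    ext x
    rw [MonoidHom.mem_ker]
    show (QuotientGroup.mk' (C.subgroupOf E)) (Subgroup.inclusion hAE x) = 1 ↔ _
    rw [QuotientGroup.mk'_apply, QuotientGroup.eq_one_iff, Subgroup.mem_subgroupOf,
      Subgroup.mem_subgroupOf]
    rfl
  have hrange : f.range = Kbar p E C := by
    rw [← hEq]
    unfold im
    ext y
    constructor
    · rintro ⟨x, rfl⟩
      exact ⟨Subgroup.inclusion hAE x, Subgroup.mem_subgroupOf.mpr x.2, rfl⟩
    · rintro ⟨x, hx, rfl⟩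
      exact ⟨⟨x.1, Subgroup.mem_subgroupOf.mp hx⟩, rfl⟩
  have hN : f.ker.Normal := inferInstance
  exact ⟨((QuotientGroup.quotientMulEquivOfEq hker).symm.trans
    (QuotientGroup.quotientKerEquivRange f)).trans (MulEquiv.subgroupCongr hrange)⟩

end Cfsg.Agent.Lib.Helper31.ECIMK2
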