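import Mathlib
import Cfsg.Agent.Lib.Helper45.EOStmt

set_option autoImplicit false

/-! S2264/S2265 piece AB (helper45 call): the part of a reciprocal polynomial prime to `X ± 1`
divides `X^k - 1` for an explicit `k`; strong induction on the degree, splitting off the full power
of an irreducible factor `f` (type B: `f` reciprocal) or of `f * f.reverse` (type A). -/

namespace Cfsg.Agent.Lib.Helper31.EOAB

open Polynomial
open Cfsg.Agent.Lib.Helper45
open Cfsg.Agent.Lib.Helper45.EOStmt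

universe u

section rev

variable {K : Type u} [Field K]

theorem natDegree_reverse' {g : K[X]} (h0 : g.coeff 0 ≠ 0) :
    g.reverse.natDegree = g.natDegree := by
  rw [reverse_natDegree, Polynomial.natTrailingDegree_eq_zero.mpr (Or.inr h0), Nat.sub_zero]

theorem reverse_reverse' {g : K[X]} (h0 : g.coeff 0 ≠ 0) : g.reverse.reverse = g := by
  have h := natDegree_reverse' h0
  simp only [reverse] at h ⊢
  rw [h, reflect_reflect]

theorem coeff_zero_reverse_ne {g : K[X]} (hg : g ≠ 0) : g.reverse.coeff 0 ≠ 0 := by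
  rw [coeff_zero_reverse]; exact leadingCoeff_ne_zero.mpr hg

theorem coeff_zero_mul_ne {g h : K[X]} :
    (g * h).coeff 0 ≠ 0 ↔ g.coeff 0 ≠ 0 ∧ h.coeff 0 ≠ 0 := by
  rw [mul_coeff_zero]; exact mul_ne_zero_iff

theorem coeff_zero_ne_of_dvd {g h : K[X]} (hd : g ∣ h) (h0 : h.coeff 0 ≠ 0) :
    g.coeff 0 ≠ 0 := by
  obtain ⟨k, rfl⟩ := hd
  exact (coeff_zero_mul_ne.mp h0).1

theorem reverse_dvd {g h : K[X]} (hd : g ∣ h) : g.reverse ∣ h.reverse := by
  obtain ⟨k, rfl⟩ := hd
  rw [reverse_mul_of_domain]; exact dvd_mul_right _ _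

theorem reverse_pow' (g : K[X]) (n : ℕ) : (g ^ n).reverse = g.reverse ^ n := by
  induction n with
  | zero => rw [pow_zero, pow_zero, ← C_1, reverse_C]
  | succ n ih => rw [pow_succ, pow_succ, reverse_mul_of_domain, ih]

theorem isUnit_of_natDegree_eq_zero {g : K[X]} (h0 : g.coeff 0 ≠ 0) (hd : g.natDegree = 0) :
    IsUnit g := by
  rw [Polynomial.isUnit_iff]
  exact ⟨g.coeff 0, h0.isUnit, (eq_C_of_natDegree_eq_zero hd).symm⟩

/-- for reciprocal `ν`: `g^k ∣ ν → (reverse g)^k ∣ ν`. -/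
theorem rc_pow_dvd {ν g : K[X]} (hrc : RC ν) (k : ℕ) (hd : g ^ k ∣ ν) : g.reverse ^ k ∣ ν := by
  obtain ⟨c, hc, hrev⟩ := hrc
  have h1 : (g ^ k).reverse ∣ ν.reverse := reverse_dvd hd
  rw [reverse_pow', hrev] at h1
  have hu : IsUnit (C c : K[X]) := isUnit_C.mpr hc.isUnit
  exact (hu.dvd_mul_left).mp h1

theorem rc_pow {f : K[X]} (h : RC f) (e : ℕ) : RC (f ^ e) := by
  obtain ⟨c, hc, hrev⟩ := h
  exact ⟨c ^ e, pow_ne_zero _ hc, by rw [reverse_pow', hrev, mul_pow, C_pow]⟩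

/-- cancelling a reciprocal factor. -/
theorem rc_cancel {ν g ν' : K[X]} (hg0 : g ≠ 0) (hg : RC g) (hν : RC ν) (h : ν = g * ν') :
    RC ν' := by
  obtain ⟨cg, hcg, hgrev⟩ := hg
  obtain ⟨c, hc, hrev⟩ := hν
  have h1 : g * (C cg * ν'.reverse) = g * (C c * ν') := by
    have h2 : ν.reverse = C c * ν := hrev
    rw [h, reverse_mul_of_domain, hgrev] at h2
    linear_combination h2
  have h2 := mul_left_cancel₀ hg0 h1
  have h3 : (C (cg⁻¹) : K[X]) * C cg = 1 := by rw [← C_mul, inv_mul_cancel₀ hcg, C_1]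
  refine ⟨c / cg, div_ne_zero hc hcg, ?_⟩
  calc ν'.reverse = C (cg⁻¹) * (C cg * ν'.reverse) := by rw [← mul_assoc, h3, one_mul]
    _ = C (cg⁻¹) * (C c * ν') := by rw [h2]
    _ = C (c / cg) * ν' := by rw [← mul_assoc, ← C_mul, div_eq_mul_inv, mul_comm cg⁻¹ c]

/-- the reverse of an irreducible polynomial with nonzero constant term is irreducible. -/
theorem irreducible_reverse {f : K[X]} (hf : Irreducible f) (h0 : f.coeff 0 ≠ 0) :
    Irreducible f.reverse := by
  have hf0 : f ≠ 0 := hf.ne_zero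
  have hr0 : f.reverse.coeff 0 ≠ 0 := coeff_zero_reverse_ne hf0
  rw [irreducible_iff]
  constructor
  · intro hu
    have h1 : f.reverse.natDegree = 0 := natDegree_eq_zero_of_isUnit hu
    rw [natDegree_reverse' h0] at h1
    exact hf.not_isUnit (isUnit_of_natDegree_eq_zero h0 h1)
  · intro a b hab
    rw [hab] at hr0
    obtain ⟨ha0, hb0⟩ := coeff_zero_mul_ne.mp hr0
    have h2 : f = a.reverse * b.reverse := by
      rw [← reverse_mul_of_domain, ← hab, reverse_reverse' h0]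
    rcases hf.isUnit_or_isUnit h2 with h | h
    · left
      have h3 : a.natDegree = 0 := by
        rw [← natDegree_reverse' ha0]; exact natDegree_eq_zero_of_isUnit h
      exact isUnit_of_natDegree_eq_zero ha0 h3
    · right
      have h3 : b.natDegree = 0 := by
        rw [← natDegree_reverse' hb0]; exact natDegree_eq_zero_of_isUnit h
      exact isUnit_of_natDegree_eq_zero hb0 h3

theorem xpow_dvd {m n : ℕ} (h : m ∣ n) : (X ^ m - 1 : K[X]) ∣ X ^ n - 1 := by
  obtain ⟨k, rfl⟩ := h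
  have h1 := sub_dvd_pow_sub_pow ((X : K[X]) ^ m) 1 k
  rwa [one_pow, ← pow_mul] at h1

end rev

theorem sum_insert_le (b : ℕ) (D : Finset ℕ) : (insert b D).sum id ≤ D.sum id + b := by
  by_cases h : b ∈ D
  · rw [Finset.insert_eq_of_mem h]; omega
  · rw [Finset.sum_insert h]; simp only [id]; omega

/-- the bookkeeping step of the induction. -/
theorem finish {K : Type u} [Field K] (q p : ℕ) (ν g ν' : K[X]) (h e s : ℕ)
    (DA DB : Finset ℕ) (E d : ℕ) (DA' DB' : Finset ℕ)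
    (hν : ν = g * ν') (hcop : IsCoprime g ν')
    (hdeg : ν.natDegree = 2 * h * e + ν'.natDegree) (hh : 1 ≤ h) (he : 1 ≤ e)
    (hg : g ∣ X ^ (s * p ^ Nat.clog p e) - 1)
    (hd : 1 ≤ d)
    (hbud : 2 * (DA.sum id + DB.sum id) + 2 * d * (E - 1) ≤ ν'.natDegree)
    (hdv : ν' ∣ X ^ (Nat.lcm (SA q DA) (SB q DB) * p ^ Nat.clog p E) - 1)
    (hsum : DA'.sum id + DB'.sum id ≤ DA.sum id + DB.sum id + h)
    (hs : s ∣ Nat.lcm (SA q DA') (SB q DB'))
    (hlcm : Nat.lcm (SA q DA) (SB q DB) ∣ Nat.lcm (SA q DA') (SB q DB')) :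
    ∃ E' d' : ℕ, 1 ≤ d' ∧ 2 * (DA'.sum id + DB'.sum id) + 2 * d' * (E' - 1) ≤ ν.natDegree ∧
      ν ∣ X ^ (Nat.lcm (SA q DA') (SB q DB') * p ^ Nat.clog p E') - 1 := by
  by_cases hEe : E < e
  · refine ⟨e, h, hh, ?_, ?_⟩
    · have e1 : 2 * h * (e - 1) + 2 * h = 2 * h * e := by
        obtain ⟨e', rfl⟩ : ∃ e', e = e' + 1 := ⟨e - 1, by omega⟩
        simp only [Nat.add_sub_cancel]; ring
      have e2 : 2 * (DA.sum id + DB.sum id) ≤ ν'.natDegree := le_trans (Nat.le_add_right _ _) hbud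
      rw [hdeg]; omega
    · rw [hν]
      apply hcop.mul_dvd
      · exact hg.trans (xpow_dvd (mul_dvd_mul_right hs _))
      · exact hdv.trans (xpow_dvd (mul_dvd_mul hlcm
          (pow_dvd_pow p (Nat.clog_mono_right p hEe.le))))
  · push Not at hEe
    refine ⟨E, d, hd, ?_, ?_⟩
    · have e1 : 2 * h ≤ 2 * h * e := Nat.le_mul_of_pos_right _ he
      rw [hdeg]; omega
    · rw [hν]
      apply hcop.mul_dvd
      · exact hg.trans (xpow_dvd (mul_dvd_mul hs (pow_dvd_pow p (Nat.clog_mono_right p hEe))))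
      · exact hdv.trans (xpow_dvd (mul_dvd_mul_right hlcm _))

theorem main (hOF : OrdF.{u}) (hOS : OrdSR.{u}) (hPw : Pwr.{u}) : AB.{u} := by
  intro K _ _ p _ _
  have hp1 : 1 < p := (Fact.out : p.Prime).one_lt
  suffices H : ∀ n : ℕ, ∀ ν : K[X], ν.natDegree = n → ν ≠ 0 → RC ν → ν.coeff 0 ≠ 0 →
      IsCoprime ν (X - 1) → IsCoprime ν (X + 1) →
      ∃ (DA DB : Finset ℕ) (E d : ℕ), (∀ a ∈ DA, 1 ≤ a) ∧ (∀ b ∈ DB, 1 ≤ b) ∧ 1 ≤ d ∧
        2 * (DA.sum id + DB.sum id) + 2 * d * (E - 1) ≤ ν.natDegree ∧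
        (DA = ∅ → DB = ∅ → E = 0 ∧ IsUnit ν) ∧
        ν ∣ X ^ (Nat.lcm (SA (Fintype.card K) DA) (SB (Fintype.card K) DB) *
          p ^ Nat.clog p E) - 1 from
    fun ν => H _ ν rfl
  intro n
  induction n using Nat.strong_induction_on with
  | _ n ih =>
  intro ν hn hν0 hrc h0 hcm hcp
  by_cases hdeg : ν.natDegree = 0
  · have hu : IsUnit ν := isUnit_of_natDegree_eq_zero h0 hdeg
    exact ⟨∅, ∅, 0, 1, by simp, by simp, le_refl _, by simp, fun _ _ => ⟨rfl, hu⟩, hu.dvd⟩
  · have hnu : ¬ IsUnit ν := fun hu => hdeg (natDegree_eq_zero_of_isUnit hu)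
    obtain ⟨f, hf, hfν⟩ := WfDvdMonoid.exists_irreducible_factor hnu hν0
    have hf0 : f.coeff 0 ≠ 0 := coeff_zero_ne_of_dvd hfν h0
    have hfm : ¬ f ∣ X - 1 := fun h => hf.not_isUnit (hcm.isUnit_of_dvd' hfν h)
    have hfp : ¬ f ∣ X + 1 := fun h => hf.not_isUnit (hcp.isUnit_of_dvd' hfν h)
    obtain ⟨e, ν₁, hfν₁, hνe⟩ := WfDvdMonoid.max_power_factor hν0 hf
    have he : 1 ≤ e := by
      rcases Nat.eq_zero_or_pos e with h | h
      · exfalso; rw [h, pow_zero, one_mul] at hνe; exact hfν₁ (hνe ▸ hfν)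
      · exact h
    have hfd : 1 ≤ f.natDegree :=
      Nat.one_le_iff_ne_zero.mpr fun h => hf.not_isUnit (isUnit_of_natDegree_eq_zero hf0 h)
    have hclog : e ≤ p ^ Nat.clog p e := Nat.le_pow_clog hp1 e
    have tail : ∀ (g ν' : K[X]) (h : ℕ), ν = g * ν' → RC g → g.natDegree = 2 * h * e → 1 ≤ h →
        ν.natDegree = 2 * h * e + ν'.natDegree ∧
        ∃ (DA DB : Finset ℕ) (E d : ℕ), (∀ a ∈ DA, 1 ≤ a) ∧ (∀ b ∈ DB, 1 ≤ b) ∧ 1 ≤ d ∧
          2 * (DA.sum id + DB.sum id) + 2 * d * (E - 1) ≤ ν'.natDegree ∧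
          ν' ∣ X ^ (Nat.lcm (SA (Fintype.card K) DA) (SB (Fintype.card K) DB) *
            p ^ Nat.clog p E) - 1 := by
      intro g ν' h hνg hrcg hgd hh
      have hg0 : g ≠ 0 := fun h => hν0 (by rw [hνg, h, zero_mul])
      have hν'0 : ν' ≠ 0 := fun h => hν0 (by rw [hνg, h, mul_zero])
      have hdeg' : ν.natDegree = 2 * h * e + ν'.natDegree := by
        rw [hνg, natDegree_mul hg0 hν'0, hgd]
      have hlt : ν'.natDegree < n := by
        have e1 : 1 ≤ 2 * h * e := Nat.mul_pos (Nat.mul_pos (by norm_num) hh) he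
        omega
      have h0' : ν'.coeff 0 ≠ 0 := by
        have h0c := h0
        rw [hνg] at h0c; exact (coeff_zero_mul_ne.mp h0c).2
      have hcm' : IsCoprime ν' (X - 1) := by
        have hc := hcm
        rw [hνg] at hc; exact hc.of_mul_left_right
      have hcp' : IsCoprime ν' (X + 1) := by
        have hc := hcp
        rw [hνg] at hc; exact hc.of_mul_left_right
      obtain ⟨DA, DB, E, d, h1, h2, h3, h4, -, h6⟩ :=
        ih _ hlt ν' rfl hν'0 (rc_cancel hg0 hrcg hrc hνg) h0' hcm' hcp'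
      exact ⟨hdeg', DA, DB, E, d, h1, h2, h3, h4, h6⟩
    by_cases hRC : RC f
    · -- type B
      obtain ⟨b, hb1, hfb, hfdvd⟩ := hOS K f hf hRC hfm hfp
      have hrcg : RC (f ^ e) := rc_pow hRC e
      have hgd : (f ^ e).natDegree = 2 * b * e := by rw [natDegree_pow, hfb]; ring
      obtain ⟨hdeg', DA, DB, E, d, h1, h2, h3, h4, h6⟩ := tail (f ^ e) ν₁ b hνe hrcg hgd hb1
      have hcop : IsCoprime (f ^ e) ν₁ := (hf.coprime_iff_not_dvd.mpr hfν₁).pow_left
      have hg : f ^ e ∣ X ^ ((Fintype.card K ^ b + 1) * p ^ Nat.clog p e) - 1 :=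
        hPw K p f _ e _ hfdvd hclog
      obtain ⟨E', d', hd', hbud', hdv'⟩ := finish (Fintype.card K) p ν (f ^ e) ν₁ b e
        (Fintype.card K ^ b + 1) DA DB E d DA (insert b DB) hνe hcop hdeg' hb1 he hg h3 h4 h6
        (by have := sum_insert_le b DB; omega)
        (dvd_trans (Finset.dvd_lcm (f := fun b => Fintype.card K ^ b + 1)
          (Finset.mem_insert_self b DB)) (Nat.dvd_lcm_right _ _))
        (Nat.lcm_dvd (Nat.dvd_lcm_left _ _)
          ((Finset.lcm_mono (Finset.subset_insert b DB)).trans (Nat.dvd_lcm_right _ _)))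
      refine ⟨DA, insert b DB, E', d', h1, ?_, hd', hbud', ?_, hdv'⟩
      · intro x hx
        rcases Finset.mem_insert.mp hx with rfl | hx
        · exact hb1
        · exact h2 x hx
      · intro _ hins; exact absurd hins (Finset.insert_ne_empty _ _)
    · -- type A
      have hf'irr : Irreducible f.reverse := irreducible_reverse hf hf0
      have hf'0 : f.reverse.coeff 0 ≠ 0 := coeff_zero_reverse_ne hf.ne_zero
      have hf'deg : f.reverse.natDegree = f.natDegree := natDegree_reverse' hf0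
      have hf'rev : f.reverse.reverse = f := reverse_reverse' hf0
      have hnd : ¬ f ∣ f.reverse := by
        intro hd
        obtain ⟨u, hu⟩ := hd
        have huu : IsUnit u := by
          rcases hf'irr.isUnit_or_isUnit hu with h | h
          · exact absurd h hf.not_isUnit
          · exact h
        obtain ⟨c, hc, hcu⟩ := Polynomial.isUnit_iff.mp huu
        exact hRC ⟨c, hc.ne_zero, by rw [hu, ← hcu, mul_comm]⟩
      have hcopff' : IsCoprime (f ^ e) (f.reverse ^ e) := (hf.coprime_iff_not_dvd.mpr hnd).pow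
      have hf'e : f.reverse ^ e ∣ ν := rc_pow_dvd hrc e ⟨ν₁, hνe⟩
      have hf'e1 : f.reverse ^ e ∣ ν₁ := by
        rw [hνe] at hf'e
        exact hcopff'.symm.dvd_of_dvd_mul_left hf'e
      obtain ⟨ν₂, hν₂⟩ := hf'e1
      have hfν₂ : ¬ f ∣ ν₂ := fun h => hfν₁ (hν₂ ▸ (h.trans (dvd_mul_left _ _)))
      have hf'ν₂ : ¬ f.reverse ∣ ν₂ := by
        rintro ⟨k, hk⟩
        have h1 : f.reverse ^ (e + 1) ∣ ν := ⟨f ^ e * k, by rw [hνe, hν₂, hk, pow_succ]; ring⟩
        have h2 := rc_pow_dvd hrc (e + 1) h1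
        rw [hf'rev, hνe, pow_succ] at h2
        exact hfν₁ ((mul_dvd_mul_iff_left (pow_ne_zero e hf.ne_zero)).mp h2)
      have hνg : ν = (f ^ e * f.reverse ^ e) * ν₂ := by rw [hνe, hν₂]; ring
      have hrcg : RC (f ^ e * f.reverse ^ e) :=
        ⟨1, one_ne_zero, by
          rw [reverse_mul_of_domain, reverse_pow', reverse_pow', hf'rev, C_1, one_mul, mul_comm]⟩
      have hgd : (f ^ e * f.reverse ^ e).natDegree = 2 * f.natDegree * e := by
        rw [natDegree_mul (pow_ne_zero _ hf.ne_zero) (pow_ne_zero _ hf'irr.ne_zero),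
          natDegree_pow, natDegree_pow, hf'deg]; ring
      obtain ⟨hdeg', DA, DB, E, d, h1, h2, h3, h4, h6⟩ :=
        tail _ ν₂ f.natDegree hνg hrcg hgd hfd
      have hcop : IsCoprime (f ^ e * f.reverse ^ e) ν₂ :=
        IsCoprime.mul_left (hf.coprime_iff_not_dvd.mpr hfν₂).pow_left
          (hf'irr.coprime_iff_not_dvd.mpr hf'ν₂).pow_left
      have hg : f ^ e * f.reverse ^ e ∣
          X ^ ((Fintype.card K ^ f.natDegree - 1) * p ^ Nat.clog p e) - 1 := by
        apply hcopff'.mul_dvd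
        · exact hPw K p f _ e _ (hOF K f hf hf0) hclog
        · have h7 := hOF K f.reverse hf'irr hf'0
          rw [hf'deg] at h7
          exact hPw K p f.reverse _ e _ h7 hclog
      obtain ⟨E', d', hd', hbud', hdv'⟩ := finish (Fintype.card K) p ν _ ν₂ f.natDegree e
        (Fintype.card K ^ f.natDegree - 1) DA DB E d (insert f.natDegree DA) DB hνg hcop hdeg'
        hfd he hg h3 h4 h6
        (by have := sum_insert_le f.natDegree DA; omega)
        (dvd_trans (Finset.dvd_lcm (f := fun a => Fintype.card K ^ a - 1)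
          (Finset.mem_insert_self f.natDegree DA)) (Nat.dvd_lcm_left _ _))
        (Nat.lcm_dvd ((Finset.lcm_mono (Finset.subset_insert f.natDegree DA)).trans
          (Nat.dvd_lcm_left _ _)) (Nat.dvd_lcm_right _ _))
      refine ⟨insert f.natDegree DA, DB, E', d', ?_, h2, hd', hbud', ?_, hdv'⟩
      · intro x hx
        rcases Finset.mem_insert.mp hx with rfl | hx
        · exact hfd
        · exact h1 x hx
      · intro hins; exact absurd hins (Finset.insert_ne_empty _ _)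

end Cfsg.Agent.Lib.Helper31.EOAB
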