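import Mathlib
import Cfsg.Agent.Lib.Helper45.EOStmt

set_option autoImplicit false

/-! S2264/S2265 piece LCMB (helper45 call): `(q-1) * lcm_{b ∈ D} (q^b + 1) ≤ q^(Σ D + 1)`,
from the Fermat-product bound `Ferm`. -/

namespace Cfsg.Agent.Lib.Helper31.EOLCMB

open Cfsg.Agent.Lib.Helper45

/-- `1 + 2 + ⋯ + 2^(k-1) + 1 = 2^k`. -/
theorem sum_two_pow (k : ℕ) : ∑ t ∈ Finset.range k, 2 ^ t + 1 = 2 ^ k := by
  induction k with
  | zero => simp
  | succ k ih => rw [Finset.sum_range_succ, pow_succ]; omega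

theorem main (hF : EOStmt.Ferm) : EOStmt.LcmB := by
  intro q D hq hD
  classical
  have hq0 : 0 < q := by omega
  set v : ℕ → ℕ := fun b => padicValNat 2 b with hv
  set Ts : Finset ℕ := D.image v with hTs
  set P : ℕ := ∏ t ∈ Ts, (q ^ 2 ^ t + 1) with hP
  set R : ℕ → ℕ := fun b => (q ^ b + 1) / (q ^ 2 ^ v b + 1) with hR
  -- (1) local facts
  have h1 : ∀ b ∈ D, q ^ b + 1 = (q ^ 2 ^ v b + 1) * R b ∧ R b ≤ q ^ (b - 2 ^ v b) ∧
      2 ^ v b ≤ b := by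
    intro b hb
    have hb1 := hD b hb
    have hb0 : b ≠ 0 := by omega
    obtain ⟨m, hm⟩ : 2 ^ v b ∣ b := pow_padicValNat_dvd
    have hmodd : Odd m := by
      rw [← Nat.not_even_iff_odd]
      intro he
      obtain ⟨r, hr⟩ := even_iff_two_dvd.mp he
      have h2 : 2 ^ (v b + 1) ∣ b := ⟨r, by rw [pow_succ, mul_assoc, ← hr]; exact hm⟩
      exact pow_succ_padicValNat_not_dvd hb0 h2
    have hdvd : q ^ 2 ^ v b + 1 ∣ q ^ b + 1 := by
      have h3 := Odd.nat_add_dvd_pow_add_pow (q ^ 2 ^ v b) 1 hmodd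
      rw [one_pow, ← pow_mul, ← hm] at h3
      exact h3
    have hle : 2 ^ v b ≤ b := Nat.le_of_dvd (by omega) ⟨m, hm⟩
    refine ⟨(Nat.mul_div_cancel' hdvd).symm, ?_, hle⟩
    apply Nat.div_le_of_le_mul
    have e1 : q ^ b = q ^ 2 ^ v b * q ^ (b - 2 ^ v b) := by
      rw [← pow_add]; congr 1; omega
    have e2 : 1 ≤ q ^ (b - 2 ^ v b) := Nat.one_le_pow _ _ hq0
    nlinarith
  -- (2) divisibility
  have h2 : EOStmt.SB q D ∣ P * ∏ b ∈ D, R b := by
    apply Finset.lcm_dvd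
    intro b hb
    obtain ⟨e, -, -⟩ := h1 b hb
    exact (dvd_of_eq e).trans
      (mul_dvd_mul (Finset.dvd_prod_of_mem _ (Finset.mem_image_of_mem v hb))
        (Finset.dvd_prod_of_mem _ hb))
  -- positivity
  have hRpos : ∀ b ∈ D, 0 < R b := by
    intro b hb
    obtain ⟨e, -, -⟩ := h1 b hb
    rcases Nat.eq_zero_or_pos (R b) with h | h
    · rw [h, mul_zero] at e; omega
    · exact h
  have hPpos : 0 < P := Finset.prod_pos fun t _ => Nat.succ_pos _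
  have hprodpos : 0 < P * ∏ b ∈ D, R b := Nat.mul_pos hPpos (Finset.prod_pos hRpos)
  -- (3) bound on the product of the cofactors
  have h3 : ∏ b ∈ D, R b ≤ q ^ (∑ b ∈ D, (b - 2 ^ v b)) := by
    rw [← Finset.prod_pow_eq_pow_sum]
    exact Finset.prod_le_prod (fun _ _ => Nat.zero_le _) fun b hb => (h1 b hb).2.1
  -- (4) the Fermat-product bound
  have h4 : (q - 1) * P ≤ q ^ (∑ t ∈ Ts, 2 ^ t + 1) := by
    obtain ⟨k, hk⟩ : ∃ k, Ts ⊆ Finset.range k :=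
      ⟨Ts.sup id + 1, fun t ht =>
        Finset.mem_range.mpr (Nat.lt_succ_of_le (Finset.le_sup (f := id) ht))⟩
    have hF' := hF q k Ts hq
    rw [Finset.prod_ite] at hF'
    have e1 : (Finset.range k).filter (· ∈ Ts) = Ts := by
      ext t
      simp only [Finset.mem_filter, Finset.mem_range]
      exact ⟨fun h => h.2, fun h => ⟨Finset.mem_range.mp (hk h), h⟩⟩
    rw [e1, Finset.prod_pow_eq_pow_sum] at hF'
    have e2 := Finset.sum_filter_add_sum_filter_not (Finset.range k) (· ∈ Ts)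
      (fun t => (2 : ℕ) ^ t)
    rw [e1] at e2
    have e3 := sum_two_pow k
    set S' := ∑ t ∈ (Finset.range k).filter (fun t => ¬ t ∈ Ts), 2 ^ t with hS'
    have hlt : (q - 1) * P * q ^ S' < q ^ (∑ t ∈ Ts, 2 ^ t + 1) * q ^ S' := by
      rw [← pow_add, show ∑ t ∈ Ts, 2 ^ t + 1 + S' = 2 ^ k by omega]
      have hpos : 0 < q ^ 2 ^ k := by positivity
      calc (q - 1) * P * q ^ S' = (q - 1) * (P * q ^ S') := by ring
        _ ≤ q ^ 2 ^ k - 1 := hF'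
        _ < q ^ 2 ^ k := by omega
    exact le_of_lt (lt_of_mul_lt_mul_right hlt (Nat.zero_le _))
  -- (5) the sum over the image
  have h5 : ∑ t ∈ Ts, 2 ^ t ≤ ∑ b ∈ D, 2 ^ v b :=
    Finset.sum_image_le_of_nonneg fun _ _ => Nat.zero_le _
  have h6 : ∑ b ∈ D, 2 ^ v b + ∑ b ∈ D, (b - 2 ^ v b) = D.sum id := by
    rw [← Finset.sum_add_distrib]
    apply Finset.sum_congr rfl
    intro b hb
    have := (h1 b hb).2.2
    simp only [id]
    omega
  calc (q - 1) * EOStmt.SB q D ≤ (q - 1) * (P * ∏ b ∈ D, R b) :=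
        Nat.mul_le_mul_left _ (Nat.le_of_dvd hprodpos h2)
    _ = ((q - 1) * P) * ∏ b ∈ D, R b := by ring
    _ ≤ q ^ (∑ t ∈ Ts, 2 ^ t + 1) * q ^ (∑ b ∈ D, (b - 2 ^ v b)) := Nat.mul_le_mul h4 h3
    _ = q ^ (∑ t ∈ Ts, 2 ^ t + 1 + ∑ b ∈ D, (b - 2 ^ v b)) := (pow_add _ _ _).symm
    _ ≤ q ^ (D.sum id + 1) := Nat.pow_le_pow_right hq0 (by omega)

end Cfsg.Agent.Lib.Helper31.EOLCMB
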