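import Mathlib
import Cfsg.Agent.Lib.Helper45.EOStmt

set_option autoImplicit false

/-! S2264/S2265 piece ORDF (helper45 call): an irreducible `f` with nonzero constant term over a
finite field with `q` elements divides `X^(q^deg f - 1) - 1`.  Also exports the shared facts on
the finite field `AdjoinRoot f` used by piece ORDSR. -/

namespace Cfsg.Agent.Lib.Helper31.EOORDF

open Polynomial
open Cfsg.Agent.Lib.Helper45

universe u

/-- `AdjoinRoot f` is finite. -/
theorem finite_adjoinRoot {K : Type u} [Field K] [Fintype K] (f : K[X]) (hf0 : f ≠ 0) :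
    Finite (AdjoinRoot f) := by
  have : Module.Finite K (AdjoinRoot f) := (AdjoinRoot.powerBasis hf0).finite
  exact Module.finite_of_finite K

/-- the dimension of `AdjoinRoot f`. -/
theorem finrank_adjoinRoot {K : Type u} [Field K] (f : K[X]) (hf0 : f ≠ 0) :
    Module.finrank K (AdjoinRoot f) = f.natDegree := by
  rw [(AdjoinRoot.powerBasis hf0).finrank]; exact AdjoinRoot.powerBasis_dim hf0

/-- the cardinality of `AdjoinRoot f`. -/
theorem card_adjoinRoot {K : Type u} [Field K] [Fintype K] (f : K[X]) (hf0 : f ≠ 0) :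
    Nat.card (AdjoinRoot f) = Fintype.card K ^ f.natDegree := by
  have : Module.Finite K (AdjoinRoot f) := (AdjoinRoot.powerBasis hf0).finite
  have : Finite (AdjoinRoot f) := Module.finite_of_finite K
  have : Fintype (AdjoinRoot f) := Fintype.ofFinite _
  rw [Nat.card_eq_fintype_card, Module.card_eq_pow_finrank (K := K), finrank_adjoinRoot f hf0]

/-- the root is nonzero when the constant term is. -/
theorem root_ne_zero {K : Type u} [Field K] (f : K[X]) (hf : Irreducible f)
    (h0 : f.coeff 0 ≠ 0) : AdjoinRoot.root f ≠ 0 := by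
  intro h
  rw [← AdjoinRoot.mk_X, AdjoinRoot.mk_eq_zero] at h
  obtain ⟨g, hg⟩ := h
  have hX : Irreducible (X : K[X]) := irreducible_X
  have hu : IsUnit g := by
    rcases hX.isUnit_or_isUnit hg with h | h
    · exact absurd h hf.not_isUnit
    · exact h
  obtain ⟨c, hc, rfl⟩ : ∃ c : K, c ≠ 0 ∧ g = C c := by
    obtain ⟨c, hc, hcg⟩ := Polynomial.isUnit_iff.mp hu
    exact ⟨c, hc.ne_zero, hcg.symm⟩
  apply h0
  have h1 : (f * C c).coeff 0 = (X : K[X]).coeff 0 := by rw [hg]
  rw [coeff_mul_C, coeff_X_zero] at h1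
  exact (mul_eq_zero.mp h1).resolve_right hc

theorem main : EOStmt.OrdF.{u} := by
  intro K _ _ f hf h0
  have : Fact (Irreducible f) := ⟨hf⟩
  have hf0 : f ≠ 0 := hf.ne_zero
  have hfin : Finite (AdjoinRoot f) := finite_adjoinRoot f hf0
  have : Fintype (AdjoinRoot f) := Fintype.ofFinite _
  have hcard : Fintype.card (AdjoinRoot f) = Fintype.card K ^ f.natDegree := by
    rw [← Nat.card_eq_fintype_card]; exact card_adjoinRoot f hf0
  have ht := root_ne_zero f hf h0
  have h1 := FiniteField.pow_card_sub_one_eq_one (AdjoinRoot.root f) ht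
  rw [hcard] at h1
  rw [← AdjoinRoot.mk_eq_zero, map_sub, map_pow, map_one, AdjoinRoot.mk_X, h1, sub_self]

end Cfsg.Agent.Lib.Helper31.EOORDF
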