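import Mathlib
import Cfsg.Agent.Lib.Helper45.EOStmt
import Cfsg.Agent.Lib.Helper31.EOORDF

set_option autoImplicit false

/-! S2264/S2265 piece ORDSR (helper45 call): a reciprocal irreducible `f` prime to `X ± 1` over a
finite field with `q` elements has even degree `2b` and divides `X^(q^b + 1) - 1`.
Proof: in `L = AdjoinRoot f` the inverse of the root `t` is a root of `f`, giving a `K`-algebra
endomorphism `σ` with `σ t = t⁻¹`; `σ` is a power `Frob^j` of the Frobenius, `j < d`, and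
`Frob^(2j) = 1`, `j ≠ 0`, so `d = 2j`. -/

namespace Cfsg.Agent.Lib.Helper31.EOORDSR

open Polynomial
open Cfsg.Agent.Lib.Helper45

universe u

theorem main : EOStmt.OrdSR.{u} := by
  intro K _ _ f hf hrc hm hp
  have : Fact (Irreducible f) := ⟨hf⟩
  have hf0 : f ≠ 0 := hf.ne_zero
  obtain ⟨c, hc, hrev⟩ := hrc
  have h0 : f.coeff 0 ≠ 0 := by
    intro h
    have h1 : (f.reverse).coeff 0 = (C c * f).coeff 0 := by rw [hrev]
    rw [coeff_zero_reverse, coeff_C_mul, h, mul_zero] at h1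
    exact hf0 (leadingCoeff_eq_zero.mp h1)
  have ht0 : AdjoinRoot.root f ≠ 0 := EOORDF.root_ne_zero f hf h0
  have hfin : Finite (AdjoinRoot f) := EOORDF.finite_adjoinRoot f hf0
  have hd : Module.finrank K (AdjoinRoot f) = f.natDegree := EOORDF.finrank_adjoinRoot f hf0
  -- the inverse of the root is a root
  have hroot : f.eval₂ (Algebra.ofId K (AdjoinRoot f)) (AdjoinRoot.root f)⁻¹ = 0 := by
    let _ : Invertible (AdjoinRoot.root f) := invertibleOfNonzero ht0
    have h1 : eval₂ (algebraMap K (AdjoinRoot f)) (⅟(AdjoinRoot.root f)) (reverse f) = 0 := by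
      rw [eval₂_reverse_eq_zero_iff, AdjoinRoot.algebraMap_eq]; exact AdjoinRoot.eval₂_root f
    rw [hrev, eval₂_mul, eval₂_C, invOf_eq_inv] at h1
    have h2 : algebraMap K (AdjoinRoot f) c ≠ 0 := by
      rw [Ne, map_eq_zero]
      exact hc
    exact (mul_eq_zero.mp h1).resolve_left h2
  let σ : AdjoinRoot f →ₐ[K] AdjoinRoot f := AdjoinRoot.liftAlgHom f (Algebra.ofId K _) _ hroot
  have hσt : σ (AdjoinRoot.root f) = (AdjoinRoot.root f)⁻¹ := AdjoinRoot.liftAlgHom_root _ _ _ _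
  obtain ⟨⟨j, hj⟩, hjσ⟩ := (FiniteField.bijective_frobeniusAlgHom_pow K (AdjoinRoot f)).2 σ
  simp only at hjσ
  have hpow : ∀ (m : ℕ) (x : AdjoinRoot f),
      (FiniteField.frobeniusAlgHom K (AdjoinRoot f) ^ m) x = x ^ (Fintype.card K ^ m) := by
    intro m x
    rw [AlgHom.coe_pow, FiniteField.coe_frobeniusAlgHom, pow_iterate]
  have htj : (AdjoinRoot.root f) ^ (Fintype.card K ^ j) = (AdjoinRoot.root f)⁻¹ := by
    rw [← hpow, hjσ, hσt]
  have hσ2 : FiniteField.frobeniusAlgHom K (AdjoinRoot f) ^ (2 * j) = 1 := by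
    apply AdjoinRoot.algHom_ext
    rw [pow_mul', pow_two, hjσ, AlgHom.mul_apply, hσt, map_inv₀, hσt, inv_inv, AlgHom.one_apply]
  have hdvd : f.natDegree ∣ 2 * j := by
    rw [← hd, ← FiniteField.orderOf_frobeniusAlgHom K (AdjoinRoot f)]
    exact orderOf_dvd_of_pow_eq_one hσ2
  have hj0 : j ≠ 0 := by
    rintro rfl
    rw [pow_zero, pow_one] at htj
    have h1 : (AdjoinRoot.root f - 1) * (AdjoinRoot.root f + 1) = 0 := by
      have h2 : AdjoinRoot.root f * AdjoinRoot.root f = 1 := by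
        nth_rewrite 2 [htj]; exact mul_inv_cancel₀ ht0
      linear_combination h2
    rcases mul_eq_zero.mp h1 with h | h
    · apply hm; rw [← AdjoinRoot.mk_eq_zero, map_sub, AdjoinRoot.mk_X, map_one]; exact h
    · apply hp; rw [← AdjoinRoot.mk_eq_zero, map_add, AdjoinRoot.mk_X, map_one]; exact h
  rw [hd] at hj
  have hdj : f.natDegree = 2 * j := by
    obtain ⟨k, hk⟩ := hdvd
    have hk1 : k = 1 := by
      rcases k with _ | _ | k
      · omega
      · rfl
      · exfalso; nlinarith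
    rw [hk, hk1, mul_one]
  refine ⟨j, Nat.one_le_iff_ne_zero.mpr hj0, hdj, ?_⟩
  rw [← AdjoinRoot.mk_eq_zero, map_sub, map_pow, map_one, AdjoinRoot.mk_X, pow_succ, htj,
    inv_mul_cancel₀ ht0, sub_self]

end Cfsg.Agent.Lib.Helper31.EOORDSR
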