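import Mathlib
import Cfsg.Prelude.Def_Local
import Cfsg.Agent.Lib.Helper31.FStarAct
import Cfsg.Agent.Lib.Helper21.Bender1

/-!
# `F*` of subnormal subgroups and commutators with `p`-subgroups (continuation of `FStarAct`)
-/

set_option autoImplicit false

namespace Cfsg.Agent.Lib.Helper31.FStarAct2

open Subgroup
open scoped commutatorElement
open Cfsg.Agent.Lib.Helper31.FStarAct

universe u

section General

variable {G : Type*} [Group G]

/-- If `D = ⁅D, Y⁆` and `Y ≤ K` with `K` subnormal, then `D ≤ K`. -/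
theorem le_of_subnormal_of_comm_eq {D Y K : Subgroup G} (hD : D = ⁅D, Y⁆) (hK : K.IsSubnormal)
    (hYK : Y ≤ K) : D ≤ K := by
  induction hK with
  | top => exact le_top
  | step K₁ K₂ hle hsub hnorm ih =>
    have h2 : D ≤ K₂ := ih (hYK.trans hle)
    rw [hD, Subgroup.commutator_le]
    intro a ha b hb
    have ha2 : a ∈ K₂ := h2 ha
    have hb1 : b ∈ K₁ := hYK hb
    have h3 := hnorm.conj_mem ⟨b, hle hb1⟩ (Subgroup.mem_subgroupOf.mpr hb1) ⟨a, ha2⟩
    have h4 : a * b * a⁻¹ ∈ K₁ := Subgroup.mem_subgroupOf.mp h3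
    have : ⁅a, b⁆ = a * b * a⁻¹ * b⁻¹ := rfl
    rw [this]
    exact mul_mem h4 (inv_mem hb1)

/-- `⁅L, Y⁆` is subnormal when `L` is normal. -/
theorem commutator_isSubnormal {L : Subgroup G} (hL : L.Normal) (Y : Subgroup G) :
    (⁅L, Y⁆ : Subgroup G).IsSubnormal := by
  have hYL : Y ≤ normalizer (L : Set G) := by
    rw [Subgroup.normalizer_eq_top_iff.mpr hL]; exact le_top
  refine Subgroup.IsSubnormal.step _ L (commutator_le_left hYL) hL.isSubnormal ?_
  constructor
  intro n hn g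
  rw [Subgroup.mem_subgroupOf] at hn ⊢
  exact conj_mem_commutator g.2 hn

end General

section Fin

variable {G : Type u} [Group G] [Finite G]

/-- `F*(K)` maps into `F*(G)` for subnormal `K`. -/
theorem gfs_map_le {K : Subgroup G} (hK : K.IsSubnormal) :
    (Cfsg.generalizedFittingSubgroup ↥K).map K.subtype ≤ Cfsg.generalizedFittingSubgroup G := by
  unfold Cfsg.generalizedFittingSubgroup
  rw [Subgroup.map_sup]
  apply sup_le_sup
  · unfold Cfsg.layer
    rw [Subgroup.map_le_iff_le_comap]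
    apply sSup_le
    intro L hL
    rw [← Subgroup.map_le_iff_le_comap]
    exact le_sSup (Cfsg.Agent.Lib.Helper21.Comp.isComponent_map_subtype hK hL)
  · rw [Cfsg.Agent.Lib.Helper22.Layer2.fitting_map_subtype_of_subnormal hK]
    exact inf_le_left

omit [Finite G] in
/-- The image of `F*(K)` is subnormal in `G` for subnormal `K`. -/
theorem gfs_map_subnormal {K : Subgroup G} (hK : K.IsSubnormal) :
    ((Cfsg.generalizedFittingSubgroup ↥K).map K.subtype).IsSubnormal := by
  refine Subgroup.IsSubnormal.step _ K (Subgroup.map_subtype_le _) hK ?_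
  have : ((Cfsg.generalizedFittingSubgroup ↥K).map K.subtype).subgroupOf K
      = Cfsg.generalizedFittingSubgroup ↥K :=
    Subgroup.comap_map_eq_self_of_injective K.subtype_injective _
  rw [this]
  exact Cfsg.Agent.Lib.Helper29.Basic.generalizedFittingSubgroup_normal ↥K

omit [Finite G] in
/-- `K` normalizes the image of `F*(K)`. -/
theorem le_normalizer_gfs_map (K : Subgroup G) :
    K ≤ normalizer (((Cfsg.generalizedFittingSubgroup ↥K).map K.subtype : Subgroup G) : Set G) := by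
  have hn := Cfsg.Agent.Lib.Helper29.Basic.generalizedFittingSubgroup_normal ↥K
  apply Cfsg.Agent.Lib.Helper31.SigBasic.le_normalizer_of_conj_mem
  rintro k hk _ ⟨x, hx, rfl⟩
  exact ⟨⟨k, hk⟩ * x * ⟨k, hk⟩⁻¹, hn.conj_mem x hx ⟨k, hk⟩, rfl⟩

/-- A subnormal subgroup of `G` inside `F*(G)` and inside the subnormal subgroup `K` lies in the
image of `F*(K)`. -/
theorem le_gfs_map {S K : Subgroup G} (hS : S.IsSubnormal)
    (hSF : S ≤ Cfsg.generalizedFittingSubgroup G) (hK : K.IsSubnormal) (hSK : S ≤ K) :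
    S ≤ (Cfsg.generalizedFittingSubgroup ↥K).map K.subtype := by
  intro s hs
  obtain ⟨e, he, m, hm, rfl⟩ :=
    Cfsg.Agent.Lib.Helper22.Layer2.subnormal_le_genFitting_decomp hS hSF hs
  refine mul_mem ?_ ?_
  · have hle : sSup {K' : Subgroup G | Cfsg.IsComponent K' ∧ K' ≤ S}
        ≤ (Cfsg.layer ↥K).map K.subtype := by
      apply sSup_le
      intro K' hK'
      have h1 : Cfsg.IsComponent (K'.subgroupOf K) :=
        Cfsg.Agent.Lib.Helper21.Comp.isComponent_subgroupOf hK'.1 (hK'.2.trans hSK)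
      have h2 : K'.subgroupOf K ≤ Cfsg.layer ↥K := Cfsg.Agent.Lib.Helper22.Layer.le_layer h1
      have h3 := Subgroup.map_mono (f := K.subtype) h2
      rwa [Subgroup.map_subgroupOf_eq_of_le (hK'.2.trans hSK)] at h3
    exact Subgroup.map_mono Cfsg.Agent.Lib.Helper22.Layer.layer_le_genFitting (hle he)
  · have h1 : m ∈ (Cfsg.fittingSubgroup ↥K).map K.subtype := by
      rw [Cfsg.Agent.Lib.Helper22.Layer2.fitting_map_subtype_of_subnormal hK]
      exact ⟨hm.1, hSK hm.2⟩
    exact Subgroup.map_mono Cfsg.Agent.Lib.Helper22.Layer.fitting_le_genFitting h1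

variable {p : ℕ} [Fact p.Prime]

/-- `⁅F*(G), Y⁆ = ⁅F*(G), Y, Y⁆` for a `p`-subgroup `Y` when `O_p(G) = 1`. -/
theorem gfs_comm_comm (hO : Cfsg.pCore p G = ⊥) {Y : Subgroup G} (hY : IsPGroup p Y) :
    ⁅Cfsg.generalizedFittingSubgroup G, Y⁆ = ⁅⁅Cfsg.generalizedFittingSubgroup G, Y⁆, Y⁆ := by
  have hFn := Cfsg.Agent.Lib.Helper29.Basic.generalizedFittingSubgroup_normal G
  have hYF : Y ≤ normalizer ((Cfsg.generalizedFittingSubgroup G : Subgroup G) : Set G) := by
    rw [Subgroup.normalizer_eq_top_iff.mpr hFn]; exact le_top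
  exact comm_comm_native hO hY le_rfl hFn.isSubnormal hYF

/-- A `p`-subgroup centralizing `⁅F*(G), Y₀⁆`-wise trivially: if `⁅F*(G), Y₀⁆ = 1` then `Y₀ = 1`. -/
theorem eq_bot_of_commutator_gfs_eq_bot (hO : Cfsg.pCore p G = ⊥) {Y₀ : Subgroup G}
    (hY₀ : IsPGroup p Y₀) (h : ⁅Cfsg.generalizedFittingSubgroup G, Y₀⁆ = ⊥) : Y₀ = ⊥ := by
  have h3 : Y₀ ≤ centralizer ((Cfsg.generalizedFittingSubgroup G : Subgroup G) : Set G) := by
    rw [Subgroup.commutator_comm] at h
    exact Subgroup.commutator_eq_bot_iff_le_centralizer.mp h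
  exact eq_bot_of_isPGroup_of_le_fitting hO hY₀
    (h3.trans Cfsg.Agent.Lib.Helper21.Bender1.centralizer_gfs_le_fitting)

end Fin

end Cfsg.Agent.Lib.Helper31.FStarAct2
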