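import Mathlib
import Cfsg.Prelude.Def_Local
import Cfsg.Agent.Lib.Helper31.FStarAct2

/-!
# Averaging over a `p`-group, Frattini facts, and the largest `Q`-centralized normal subgroup of
`F*(H)` (continuation of `FStarAct2`)
-/

set_option autoImplicit false

namespace Cfsg.Agent.Lib.Helper31.FStarAct3

open Subgroup
open scoped commutatorElement
open Cfsg.Agent.Lib.Helper31.FStarAct Cfsg.Agent.Lib.Helper31.FStarAct2

universe u

section General

variable {G : Type*} [Group G]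

/-- Averaging argument: if `L = ⁅L, Q⁆` and `x ∈ C_L(Q)` then `x ^ |Q| ∈ ⁅L, L⁆`. -/
theorem pow_card_mem_commutator [Finite G] {L Q : Subgroup G}
    (hQL : Q ≤ normalizer (L : Set G)) (hLQ : ⁅L, Q⁆ = L) {x : G} (hxL : x ∈ L)
    (hxQ : x ∈ centralizer (Q : Set G)) : x ^ Nat.card Q ∈ ⁅L, L⁆ := by
  classical
  haveI : Fintype Q := Fintype.ofFinite Q
  let c : Q → (L ≃* L) := fun y => L.normalizerMonoidHom ⟨y, hQL y.2⟩
  let τ : L →* Abelianization L := ∏ y : Q, (Abelianization.of).comp (c y).toMonoidHom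
  have hτ : ∀ l : L, τ l = ∏ y : Q, Abelianization.of (c y l) := fun l => by
    simp [τ, MonoidHom.finset_prod_apply]
  have hc : ∀ (y : Q) (l : L), ((c y l : L) : G) = y * l * y⁻¹ := fun y l => rfl
  have hinv : ∀ (z : Q) (l : L), τ (c z l) = τ l := by
    intro z l
    rw [hτ, hτ]
    refine Fintype.prod_equiv (Equiv.mulRight z) _ _ ?_
    intro y
    congr 1
    apply Subtype.ext
    rw [hc, hc, hc]
    simp only [Equiv.coe_mulRight, Subgroup.coe_mul, mul_inv_rev]
    group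
  have hker : ⁅L, Q⁆ ≤ (τ.ker).map L.subtype := by
    rw [Subgroup.commutator_le]
    intro l hl z hz
    refine ⟨⟨l, hl⟩ * c ⟨z, hz⟩ (⟨l, hl⟩⁻¹), ?_, ?_⟩
    · change _ ∈ τ.ker
      rw [MonoidHom.mem_ker, map_mul, hinv, ← map_mul, mul_inv_cancel, map_one]
    · simp only [Subgroup.coe_subtype, Subgroup.coe_mul, hc, commutatorElement_def,
        Subgroup.coe_inv]
      group
  rw [hLQ] at hker
  obtain ⟨x', hx', hxx⟩ := hker hxL
  have hx'' : x' = ⟨x, hxL⟩ := Subtype.ext hxx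
  rw [hx''] at hx'
  have h1 : τ ⟨x, hxL⟩ = 1 := MonoidHom.mem_ker.mp hx'
  have h2 : ∀ y : Q, c y ⟨x, hxL⟩ = ⟨x, hxL⟩ := by
    intro y
    apply Subtype.ext
    rw [hc]
    have : (y : G) * x = x * y := (Subgroup.mem_centralizer_iff.mp hxQ) y y.2
    change (y : G) * x * ((y⁻¹ : Q) : G) = x
    rw [this, Subgroup.coe_inv, mul_inv_cancel_right]
  rw [hτ] at h1
  simp only [h2, Finset.prod_const, Finset.card_univ] at h1
  rw [← map_pow, ← Nat.card_eq_fintype_card] at h1
  have h3 : (⟨x, hxL⟩ : L) ^ Nat.card Q ∈ _root_.commutator L := by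
    rw [← Abelianization.ker_of]
    exact MonoidHom.mem_ker.mpr h1
  rw [← Subgroup.map_subtype_commutator]
  exact ⟨_, h3, rfl⟩

/-- `Z(X) ∩ X' ≤ Φ(X)`. -/
theorem center_inf_commutator_le_frattini (X : Type*) [Group X] :
    center X ⊓ _root_.commutator X ≤ frattini X := by
  unfold frattini Order.radical
  refine le_iInf₂ fun M hM => ?_
  by_cases hZ : center X ≤ M
  · exact inf_le_left.trans hZ
  · have h1 : M ⊔ center X = ⊤ := by
      by_contra hne
      have h2 : M ⊔ center X = M := by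
        by_contra hne2
        exact hne (hM.2 _ (lt_of_le_of_ne le_sup_left (Ne.symm hne2)))
      exact hZ (h2 ▸ le_sup_right)
    exact inf_le_right.trans
      ((Cfsg.Agent.Lib.Helper21.Quasi.commutator_le_of_sup_center_eq_top M h1).trans
        (Cfsg.Agent.Lib.Helper22.Layer.commutator_self_le M))

/-- If `x ^ a` and `x ^ b` lie in `K` with `a`, `b` coprime, then `x ∈ K`. -/
theorem mem_of_pow_mem_of_coprime {K : Subgroup G} {x : G} {a b : ℕ} (hab : a.Coprime b)
    (ha : x ^ a ∈ K) (hb : x ^ b ∈ K) : x ∈ K := by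
  have h1 : (a : ℤ) * Nat.gcdA a b + (b : ℤ) * Nat.gcdB a b = 1 := by
    have := Nat.gcd_eq_gcd_ab a b
    rw [hab] at this
    exact_mod_cast this.symm
  have h2 : x = (x ^ a) ^ (Nat.gcdA a b) * (x ^ b) ^ (Nat.gcdB a b) := by
    rw [← zpow_natCast x a, ← zpow_natCast x b, ← zpow_mul, ← zpow_mul, ← zpow_add, h1, zpow_one]
  rw [h2]
  exact mul_mem (K.zpow_mem ha _) (K.zpow_mem hb _)

/-- If `e ∈ ⁅L, L⁆`, `m ∈ L` and `m ^ n = 1`, then `(e * m) ^ n ∈ ⁅L, L⁆`. -/
theorem mul_pow_mem_commutator {L : Subgroup G} {e m : G} (he : e ∈ ⁅L, L⁆) (hm : m ∈ L) (n : ℕ)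
    (hmn : m ^ n = 1) : (e * m) ^ n ∈ ⁅L, L⁆ := by
  have key : ∀ k : ℕ, ∃ c ∈ ⁅L, L⁆, (e * m) ^ k = c * m ^ k := by
    intro k
    induction k with
    | zero => exact ⟨1, one_mem _, by simp⟩
    | succ k ih =>
      obtain ⟨c, hc, hk⟩ := ih
      refine ⟨c * (m ^ k * e * (m ^ k)⁻¹), mul_mem hc (conj_mem_commutator (L.pow_mem hm k) he), ?_⟩
      rw [pow_succ, hk, pow_succ]
      group
  obtain ⟨c, hc, hk⟩ := key n
  rw [hk, hmn, mul_one]
  exact hc

/-- An element normalizing the subgroup `S` normalizes its centralizer (conjugation form). -/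
theorem conj_mem_centralizer {S : Subgroup G} {x : G} (hx : x ∈ normalizer (S : Set G)) {c : G}
    (hc : c ∈ centralizer (S : Set G)) : x * c * x⁻¹ ∈ centralizer (S : Set G) := by
  rw [Subgroup.mem_centralizer_iff]
  intro h hh
  have h1 : x⁻¹ * h * x ∈ S :=
    Cfsg.Agent.Lib.Helper31.SigBasic.inv_conj_mem_of_mem_normalizer hx hh
  have h2 : (x⁻¹ * h * x) * c = c * (x⁻¹ * h * x) := (Subgroup.mem_centralizer_iff.mp hc) _ h1
  calc h * (x * c * x⁻¹) = x * ((x⁻¹ * h * x) * c) * x⁻¹ := by group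
    _ = x * (c * (x⁻¹ * h * x)) * x⁻¹ := by rw [h2]
    _ = x * c * x⁻¹ * h := by group

end General

end Cfsg.Agent.Lib.Helper31.FStarAct3
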