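import Mathlib
import Cfsg.Agent.Lib.Helper57.FTStmt

/-!
S3999 / CYC15 (call by helper57): a group of order 15 has an element of order 15.
-/

set_option autoImplicit false

namespace Cfsg.Agent.Lib.Helper31.FTCYC15

universe u

open Cfsg.Agent.Lib.Helper57.FTStmt

theorem main : Cyc15.{u} := by
  intro H _ hcard
  have : Finite H := Nat.finite_of_card_ne_zero (by rw [hcard]; norm_num)
  have : Fact (Nat.Prime 3) := ⟨by norm_num⟩
  have : Fact (Nat.Prime 5) := ⟨by norm_num⟩
  -- Sylow 5 is normal
  have h5 : ∀ P : Sylow 5 H, (P : Subgroup H).Normal := by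
    intro P
    have hP : Nat.card (P : Subgroup H) = 5 := by
      rw [Sylow.card_eq_multiplicity, hcard]
      have : (15 : ℕ).factorization 5 = 1 := by
        have : (15 : ℕ) = 3 * 5 := by norm_num
        rw [this, Nat.factorization_mul (by norm_num) (by norm_num)]
        simp [Nat.Prime.factorization (by norm_num : Nat.Prime 3),
          Nat.Prime.factorization (by norm_num : Nat.Prime 5)]
      rw [this, pow_one]
    have hidx : (P : Subgroup H).index = 3 := by
      have := (P : Subgroup H).card_mul_index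
      rw [hP, hcard] at this
      omega
    have h1 : Nat.card (Sylow 5 H) ≡ 1 [MOD 5] := card_sylow_modEq_one 5 H
    have h2 : Nat.card (Sylow 5 H) ∣ 3 := by
      rw [← hidx]; exact Sylow.card_dvd_index P
    have h3 : Nat.card (Sylow 5 H) = 1 := by
      have hle : Nat.card (Sylow 5 H) ≤ 3 := Nat.le_of_dvd (by norm_num) h2
      have hpos : 0 < Nat.card (Sylow 5 H) := Nat.pos_of_dvd_of_pos h2 (by norm_num)
      unfold Nat.ModEq at h1
      interval_cases h : Nat.card (Sylow 5 H) <;> simp_all
    have : Subsingleton (Sylow 5 H) := (Nat.card_eq_one_iff_unique.mp h3).1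
    exact Sylow.normal_of_subsingleton P
  have h3 : ∀ P : Sylow 3 H, (P : Subgroup H).Normal := by
    intro P
    have hP : Nat.card (P : Subgroup H) = 3 := by
      rw [Sylow.card_eq_multiplicity, hcard]
      have : (15 : ℕ).factorization 3 = 1 := by
        have : (15 : ℕ) = 3 * 5 := by norm_num
        rw [this, Nat.factorization_mul (by norm_num) (by norm_num)]
        simp [Nat.Prime.factorization (by norm_num : Nat.Prime 3),
          Nat.Prime.factorization (by norm_num : Nat.Prime 5)]
      rw [this, pow_one]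
    have hidx : (P : Subgroup H).index = 5 := by
      have := (P : Subgroup H).card_mul_index
      rw [hP, hcard] at this
      omega
    have h1 : Nat.card (Sylow 3 H) ≡ 1 [MOD 3] := card_sylow_modEq_one 3 H
    have h2 : Nat.card (Sylow 3 H) ∣ 5 := by
      rw [← hidx]; exact Sylow.card_dvd_index P
    have h3 : Nat.card (Sylow 3 H) = 1 := by
      have hle : Nat.card (Sylow 3 H) ≤ 5 := Nat.le_of_dvd (by norm_num) h2
      have hpos : 0 < Nat.card (Sylow 3 H) := Nat.pos_of_dvd_of_pos h2 (by norm_num)
      unfold Nat.ModEq at h1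
      interval_cases h : Nat.card (Sylow 3 H) <;> simp_all
    have : Subsingleton (Sylow 3 H) := (Nat.card_eq_one_iff_unique.mp h3).1
    exact Sylow.normal_of_subsingleton P
  obtain ⟨a, ha⟩ := exists_prime_orderOf_dvd_card' (G := H) 3 (by rw [hcard]; norm_num)
  obtain ⟨b, hb⟩ := exists_prime_orderOf_dvd_card' (G := H) 5 (by rw [hcard]; norm_num)
  -- a lies in the Sylow 3, b in the Sylow 5
  obtain ⟨P3, hP3⟩ := IsPGroup.exists_le_sylow (p := 3) (P := Subgroup.zpowers a)
    (IsPGroup.of_card (n := 1) (by rw [Nat.card_zpowers, ha, pow_one]))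
  obtain ⟨P5, hP5⟩ := IsPGroup.exists_le_sylow (p := 5) (P := Subgroup.zpowers b)
    (IsPGroup.of_card (n := 1) (by rw [Nat.card_zpowers, hb, pow_one]))
  have hn3 := h3 P3
  have hn5 := h5 P5
  have hdisj : Disjoint (P3 : Subgroup H) (P5 : Subgroup H) := by
    have hc : (Nat.card (P3 : Subgroup H)).Coprime (Nat.card (P5 : Subgroup H)) := by
      obtain ⟨n3, hn3'⟩ := IsPGroup.iff_card.mp P3.isPGroup'
      obtain ⟨n5, hn5'⟩ := IsPGroup.iff_card.mp P5.isPGroup'
      rw [hn3', hn5']
      exact Nat.Coprime.pow _ _ (by norm_num)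
    rw [disjoint_iff]
    exact Subgroup.inf_eq_bot_of_coprime hc
  have hcomm : Commute a b :=
    Subgroup.commute_of_normal_of_disjoint _ _ hn3 hn5 hdisj a b
      (hP3 (Subgroup.mem_zpowers a)) (hP5 (Subgroup.mem_zpowers b))
  refine ⟨a * b, ?_⟩
  rw [hcomm.orderOf_mul_eq_mul_orderOf_of_coprime (by rw [ha, hb]; norm_num), ha, hb]

end Cfsg.Agent.Lib.Helper31.FTCYC15
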