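import Mathlib
import Cfsg.Agent.Lib.Helper40.HPStmt
import Cfsg.Agent.Lib.Helper44.TPStmt
import Cfsg.Agent.Lib.Helper44.NegPairs
import Cfsg.Agent.Lib.Helper10.HypINVOL
import Cfsg.Agent.Lib.Helper56.EPNEGSQFIXB1
import Cfsg.Agent.Lib.Helper21.TPSUBPERP
import Cfsg.Agent.Lib.Helper48.TPORTHSUM
import Cfsg.Agent.Lib.Helper16.TPTSIN
import Cfsg.Agent.Lib.Helper11.TPCANCEL

/-!
# S5974 / NEGSQNOHYP (call by helper40)

`q ≡ 3 (mod 4)`, `m ≡ 2 (mod 4)`: an isometry with `x * x = -1` stabilises no hyperbolic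
`m`-space.  Route without Gram determinants: an invariant `W` of plus type contains the invariant
anisotropic plane `S = ⟨v, x v⟩` (`Q v ≠ 0`); `W' = S^⊥ ⊓ W` (`SubPerp`) is invariant,
nondegenerate, of dimension `≡ 0 (mod 4)`, hence of plus type (`Helper56.EPNEGSQFIXB1.core`);
`Cancel` makes `S` of plus type, but `S` is anisotropic.
-/

set_option autoImplicit false

namespace Cfsg.Agent.Lib.Helper31.HPNEGSQNOHYP

open Module QuadraticMap
open Cfsg.Agent.Lib.Helper44.TPStmt Cfsg.Agent.Lib.Helper44.NegPairs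

universe u

theorem core (hSub : SubPerp.{u}) (hOrth : OrthSum.{u}) (hTsIn : TsIn.{u}) (hCancel : Cancel.{u}) :
    Cfsg.Agent.Lib.Helper40.HPStmt.NegSqNoHyp.{u} := by
  intro F _ _ hq d m hm x hx hx2 W hW hSt
  rw [Cfsg.Agent.Lib.Helper40.HPStmt.hypJ_iff] at hW
  obtain ⟨hdim, hND, hPlus⟩ := hW
  classical
  obtain ⟨A, hAdef⟩ : ∃ A : (J d → F) →ₗ[F] (J d → F),
      A = Matrix.toLin' (x : Matrix (J d) (J d) F) := ⟨_, rfl⟩
  have hAQ : ∀ u, plusQ d F (A u) = plusQ d F u := by
    intro u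
    rw [hAdef, Matrix.toLin'_apply]
    exact hx u u
  have hAA : ∀ u, A (A u) = -u := by
    intro u
    rw [hAdef, ← Matrix.toLin'_mul_apply, hx2, Matrix.toLin'_apply, Matrix.neg_mulVec,
      Matrix.one_mulVec]
  have hpol : ∀ u w, polar (plusQ d F) (A u) (A w) = polar (plusQ d F) u w := by
    intro u w
    unfold polar
    rw [← map_add, hAQ, hAQ, hAQ]
  have hodd : Odd (Fintype.card F) := Nat.odd_iff.mpr (by omega)
  have h2 : (2 : F) ≠ 0 := Cfsg.Agent.Lib.Helper10.HypINVOL.two_ne_zero_of_odd hodd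
  have hnsq : ¬ IsSquare (-1 : F) := by
    rw [FiniteField.isSquare_neg_one_iff]
    omega
  have hBvAv : ∀ v, polar (plusQ d F) v (A v) = 0 := by
    intro v
    have h3 := hpol v (A v)
    rw [hAA, polar_neg_right, polar_comm] at h3
    have h4 : (2 : F) * polar (plusQ d F) v (A v) = 0 := by linear_combination -h3
    exact (mul_eq_zero.mp h4).resolve_left h2
  have hQpl : ∀ (v : J d → F) (a b : F),
      plusQ d F (a • v + b • A v) = (a * a + b * b) * plusQ d F v := by
    intro v a b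
    have e2 : plusQ d F (a • v + b • A v) = plusQ d F (a • v) + plusQ d F (b • A v)
        + polar (plusQ d F) (a • v) (b • A v) := QuadraticMap.map_add (plusQ d F) _ _
    have e3 : plusQ d F (a • v) = (a * a) • plusQ d F v := QuadraticMap.map_smul (plusQ d F) a v
    have e4 : plusQ d F (b • A v) = (b * b) • plusQ d F (A v) :=
      QuadraticMap.map_smul (plusQ d F) b (A v)
    have e5 : polar (plusQ d F) (a • v) (b • A v) = a • (b • polar (plusQ d F) v (A v)) := by
      rw [QuadraticMap.polar_smul_left, QuadraticMap.polar_smul_right]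
    rw [e2, e3, e4, e5, hAQ, hBvAv]
    simp only [smul_eq_mul, mul_zero, add_zero]
    ring
  have hsq : ∀ a b : F, a * a + b * b = 0 → a = 0 ∧ b = 0 := by
    intro a b hab
    have hb : b = 0 := by
      by_contra hb
      apply hnsq
      refine ⟨a / b, ?_⟩
      have h10 : a * a = -(b * b) := by linear_combination hab
      rw [div_mul_div_comm, h10, neg_div, div_self (mul_ne_zero hb hb)]
    refine ⟨?_, hb⟩
    rw [hb] at hab
    simpa using hab
  have key : ∀ v : J d → F, v ≠ 0 → ∀ a b : F, a • v + b • A v = 0 → a = 0 ∧ b = 0 := by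
    intro v hv a b hs
    have hAs : a • A v - b • v = 0 := by
      have h5 := congrArg A hs
      rw [map_add, map_smul, map_smul, hAA, map_zero] at h5
      rw [← h5]
      module
    have h7 : (a * a + b * b) • v = 0 := by
      have h8 : (a * a + b * b) • v = a • (a • v + b • A v) - b • (a • A v - b • v) := by
        module
      rw [h8, hs, hAs, smul_zero, smul_zero, sub_zero]
    exact hsq a b ((smul_eq_zero.mp h7).resolve_right hv)
  have hSmem : ∀ (v y : J d → F), y ∈ Submodule.span F (Set.range ![v, A v]) ↔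
      ∃ a b : F, a • v + b • A v = y := by
    intro v y
    rw [Submodule.mem_span_range_iff_exists_fun]
    constructor
    · rintro ⟨c, hc⟩
      refine ⟨c 0, c 1, ?_⟩
      rw [← hc, Fin.sum_univ_two]
      rfl
    · rintro ⟨a, b, hab⟩
      refine ⟨![a, b], ?_⟩
      rw [← hab, Fin.sum_univ_two]
      rfl
  have hSdim : ∀ v : J d → F, v ≠ 0 →
      finrank F ↥(Submodule.span F (Set.range ![v, A v])) = 2 := by
    intro v hv
    have hli : LinearIndependent F ![v, A v] := by
      rw [LinearIndependent.pair_iff]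
      intro s t hst
      exact key v hv s t hst
    rw [finrank_span_eq_card hli, Fintype.card_fin]
  have hSstab : ∀ v : J d → F,
      Stab (x : Matrix (J d) (J d) F) (Submodule.span F (Set.range ![v, A v])) := by
    intro v
    rintro _ ⟨y, hy, rfl⟩
    obtain ⟨a, b, rfl⟩ := (hSmem v y).mp hy
    rw [← hAdef, map_add, map_smul, map_smul, hAA, hSmem]
    refine ⟨-b, a, ?_⟩
    module
  have hSle : ∀ (v : J d → F) (Y : Submodule F (J d → F)), v ∈ Y → A v ∈ Y →
      Submodule.span F (Set.range ![v, A v]) ≤ Y := by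
    intro v Y hv hAv y hy
    obtain ⟨a, b, rfl⟩ := (hSmem v y).mp hy
    exact Y.add_mem (Y.smul_mem a hv) (Y.smul_mem b hAv)
  have hSnd : ∀ v : J d → F, plusQ d F v ≠ 0 →
      NDeg d F (Submodule.span F (Set.range ![v, A v])) := by
    intro v hQv y hy hy0
    obtain ⟨a, b, rfl⟩ := (hSmem v y).mp hy
    have hab : a * a + b * b ≠ 0 := by
      intro h
      obtain ⟨ha, hb⟩ := hsq a b h
      apply hy0
      rw [ha, hb, zero_smul, zero_smul, add_zero]
    have hself : polar (plusQ d F) (a • v + b • A v) (a • v + b • A v) ≠ 0 := by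
      have e : polar (plusQ d F) (a • v + b • A v) (a • v + b • A v)
          = 2 * ((a * a + b * b) * plusQ d F v) := by
        rw [← hQpl v a b]
        unfold polar
        have e1 : (a • v + b • A v) + (a • v + b • A v) = (2 : F) • (a • v + b • A v) := by
          module
        have e2 : plusQ d F ((2 : F) • (a • v + b • A v))
            = ((2 : F) * 2) • plusQ d F (a • v + b • A v) :=
          QuadraticMap.map_smul (plusQ d F) 2 _
        rw [e1, e2, smul_eq_mul]
        ring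
      rw [e]
      exact mul_ne_zero h2 (mul_ne_zero hab hQv)
    exact ⟨⟨_, hy, hself⟩, ⟨_, hy, hself⟩⟩
  have hexQ : ∀ Y : Submodule F (J d → F), NDeg d F Y → Y ≠ ⊥ → ∃ v ∈ Y, plusQ d F v ≠ 0 := by
    intro Y hY hne
    by_contra hcon
    push Not at hcon
    obtain ⟨w, hw, hw0⟩ := (Submodule.ne_bot_iff Y).mp hne
    obtain ⟨⟨y, hy, hyw⟩, _⟩ := hY w hw hw0
    apply hyw
    show polar (plusQ d F) y w = 0
    unfold polar
    rw [hcon _ (Y.add_mem hy hw), hcon y hy, hcon w hw]
    simp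
  have hAst : ∀ Y : Submodule F (J d → F), Stab (x : Matrix (J d) (J d) F) Y →
      ∀ w ∈ Y, A w ∈ Y := by
    intro Y hY w hw
    rw [hAdef]
    exact hY (Submodule.mem_map_of_mem hw)
  -- the argument
  have hWne : W ≠ ⊥ := by
    intro h
    rw [h, finrank_bot] at hdim
    omega
  obtain ⟨v, hvW, hQv⟩ := hexQ W hND hWne
  have hv0 : v ≠ 0 := by
    intro h
    apply hQv
    rw [h]
    exact map_zero (plusQ d F)
  obtain ⟨S1, hS1⟩ : ∃ S1 : Submodule F (J d → F),
      S1 = Submodule.span F (Set.range ![v, A v]) := ⟨_, rfl⟩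
  have hS1W : S1 ≤ W := by rw [hS1]; exact hSle v W hvW (hAst W hSt v hvW)
  have hS1nd : NDeg d F S1 := by rw [hS1]; exact hSnd v hQv
  have hS1st : Stab (x : Matrix (J d) (J d) F) S1 := by rw [hS1]; exact hSstab v
  have hS1dim : finrank F ↥S1 = 2 := by rw [hS1]; exact hSdim v hv0
  obtain ⟨W', hW'le, hND', -, horth', hdim', hStab'⟩ := hSub F d W S1 hND hS1nd hS1W
  have hSt' : Stab (x : Matrix (J d) (J d) F) W' := hStab' x hx hSt hS1st
  have hW'dim : finrank F ↥W' + 2 = m := by
    rw [← hdim, ← hdim', hS1dim, add_comm]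
  have hW'dim4 : finrank F ↥W' = 4 * ((m - 2) / 4) := by omega
  have hPlus' : Plus d F W' :=
    Cfsg.Agent.Lib.Helper56.EPNEGSQFIXB1.core hSub hOrth hTsIn F hq d x hx hx2
      ((m - 2) / 4) W' hND' hSt' hW'dim4
  have horth2 : ∀ u ∈ W', ∀ w ∈ S1, polar (Cfsg.quadFormPlus d F) u w = 0 := by
    intro u hu w hw
    rw [polar_comm]
    exact horth' w hw u hu
  obtain ⟨-, -, hsumdim⟩ := hOrth F d W' S1 hND' hS1nd horth2
  have hsup : W' ⊔ S1 = W :=
    Submodule.eq_of_le_of_finrank_eq (sup_le hW'le hS1W) (by rw [hsumdim]; omega)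
  have hPlusW : Plus d F (W' ⊔ S1) := by
    rw [hsup]
    exact hPlus
  obtain ⟨U, hUle, hUts, hUdim⟩ := hCancel F d W' S1 hND' hS1nd horth2 hPlusW hPlus'
  have hUne : U ≠ ⊥ := by
    intro h
    rw [h, finrank_bot] at hUdim
    omega
  obtain ⟨t, htU, ht0⟩ := (Submodule.ne_bot_iff U).mp hUne
  have hQt : plusQ d F t = 0 := hUts t htU
  have htS : t ∈ Submodule.span F (Set.range ![v, A v]) := by
    rw [← hS1]
    exact hUle htU
  obtain ⟨a, b, rfl⟩ := (hSmem v t).mp htS
  rw [hQpl] at hQt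
  rcases mul_eq_zero.mp hQt with h | h
  · obtain ⟨ha, hb⟩ := hsq a b h
    apply ht0
    rw [ha, hb, zero_smul, zero_smul, add_zero]
  · exact hQv h

/-- NEGSQNOHYP, hypothesis-free (landed all-`q` pieces `SubPerp`, `OrthSum`, `TsIn`, `Cancel`). -/
theorem main : Cfsg.Agent.Lib.Helper40.HPStmt.NegSqNoHyp.{u} :=
  core Cfsg.Agent.Lib.Helper21.TPSUBPERP.main Cfsg.Agent.Lib.Helper48.TPORTHSUM.main
    Cfsg.Agent.Lib.Helper16.TPTSIN.main Cfsg.Agent.Lib.Helper11.TPCANCEL.main

end Cfsg.Agent.Lib.Helper31.HPNEGSQNOHYP
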