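import Mathlib
import Cfsg.Agent.Lib.Helper26.J3Stmt
import Cfsg.Agent.Lib.Helper31.J3FR3

/-! S3366 piece FR2: the coordinates `iotaOf r1 r2` on `R`. -/

set_option autoImplicit false

namespace Cfsg.Agent.Lib.Helper31.J3FR2

open Cfsg.Agent.Lib.Helper26.J3Stmt

universe u

theorem D1 : ∀ u0 u1 : ZMod 3,
    (u0 * u1).val % 3 = (2 * (u0 * u1).val + 2 * (2 * u0.val * (2 * u1.val))) % 3 := by decide

theorem D2 : ∀ u0 u1 v0 v1 : ZMod 3,
    ((u0 * u1).val + (v0 * v1).val + 2 * (v0.val * u1.val)) % 3 =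
      (((u0 + v0) * (u1 + v1)).val + 2 * (u0 * v1 - u1 * v0).val) % 3 := by decide

theorem D3 : ∀ x y : ZMod 3, (x.val + y.val) % 3 = (x + y).val % 3 := by decide

theorem main : FR2.{u} := by
  intro X _ hH hZ t hT r1 hr1 r2 hr2 ht1 ht2 hne
  obtain ⟨hfin, -, hcard, hexp, -, -, -⟩ := hH
  obtain ⟨-, hZR, hcomm, -, hZcentral⟩ := hZ
  obtain ⟨w, hw⟩ : ∃ w : X, w = r1 * r2 * r1⁻¹ * r2⁻¹ := ⟨_, rfl⟩
  have hwZ : w ∈ Zc X := by rw [hw]; exact hcomm r1 hr1 r2 hr2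
  have hwc : ∀ x : X, x * w = w * x := hZcentral w hwZ
  have hw1 : w ≠ 1 := by
    intro h
    apply hne
    have h1 : r1 * r2 = w * (r2 * r1) := by rw [hw]; group
    rw [h1, h, one_mul]
  have hw3 : w ^ 3 = 1 := hexp w (hZR hwZ)
  have hr13 : r1 ^ 3 = 1 := hexp r1 hr1
  have hr23 : r2 ^ 3 = 1 := hexp r2 hr2
  have hinv : ∀ g : X, g ^ 3 = 1 → g⁻¹ = g ^ 2 := fun g hg =>
    inv_eq_of_mul_eq_one_right (by rw [← pow_succ', hg])
  have hpm : ∀ (g : X), g ^ 3 = 1 → ∀ n n' : ℕ, n % 3 = n' % 3 → g ^ n = g ^ n' := by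
    intro g hg n n' h
    rw [pow_eq_pow_mod n hg, pow_eq_pow_mod n' hg, h]
  have hwk : ∀ (k : ℕ) (x : X), w ^ k * x = x * w ^ k := fun k x =>
    ((Commute.pow_right (hwc x) k).eq).symm
  have hcm : ∀ a b : ℕ, r2 ^ b * r1 ^ a = w ^ (2 * (a * b)) * (r1 ^ a * r2 ^ b) := by
    intro a b
    induction b with
    | zero => simp
    | succ b ih =>
      have h1 := (J3FR3.conj_pow_pow r1 r2 w hw hwc a b).2
      have h2 : r2 * (r1 ^ a * r2 ^ b) = (w⁻¹) ^ a * (r1 ^ a * r2 ^ b) * r2 := by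
        rw [← h1]; group
      calc r2 ^ (b + 1) * r1 ^ a = r2 * (r2 ^ b * r1 ^ a) := by rw [pow_succ', mul_assoc]
        _ = r2 * (w ^ (2 * (a * b)) * (r1 ^ a * r2 ^ b)) := by rw [ih]
        _ = w ^ (2 * (a * b)) * (r2 * (r1 ^ a * r2 ^ b)) := by
            rw [← mul_assoc, ← hwk, mul_assoc]
        _ = w ^ (2 * (a * b)) * (w ^ (2 * a) * (r1 ^ a * r2 ^ b) * r2) := by
            rw [h2, hinv w hw3, ← pow_mul]
        _ = w ^ (2 * (a * (b + 1))) * (r1 ^ a * r2 ^ (b + 1)) := by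
            have e : 2 * (a * (b + 1)) = 2 * (a * b) + 2 * a := by ring
            rw [e, pow_add, pow_succ r2 b]
            simp only [mul_assoc]
  have hmf : ∀ a b c a' b' c' : ℕ, (r1 ^ a * r2 ^ b * w ^ c) * (r1 ^ a' * r2 ^ b' * w ^ c') =
      r1 ^ (a + a') * r2 ^ (b + b') * w ^ (c + c' + 2 * (a' * b)) := by
    intro a b c a' b' c'
    calc (r1 ^ a * r2 ^ b * w ^ c) * (r1 ^ a' * r2 ^ b' * w ^ c')
        = r1 ^ a * r2 ^ b * (w ^ c * (r1 ^ a' * r2 ^ b' * w ^ c')) := by simp only [mul_assoc]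
      _ = r1 ^ a * r2 ^ b * ((r1 ^ a' * r2 ^ b' * w ^ c') * w ^ c) := by rw [hwk c]
      _ = r1 ^ a * (r2 ^ b * r1 ^ a') * r2 ^ b' * (w ^ c' * w ^ c) := by simp only [mul_assoc]
      _ = r1 ^ a * (w ^ (2 * (a' * b)) * (r1 ^ a' * r2 ^ b)) * r2 ^ b' * (w ^ c' * w ^ c) := by
          rw [hcm a' b]
      _ = r1 ^ a * ((r1 ^ a' * r2 ^ b) * w ^ (2 * (a' * b))) * r2 ^ b' * (w ^ c' * w ^ c) := by
          rw [hwk (2 * (a' * b))]
      _ = r1 ^ a * r1 ^ a' * r2 ^ b * (w ^ (2 * (a' * b)) * r2 ^ b') * (w ^ c' * w ^ c) := by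
          simp only [mul_assoc]
      _ = r1 ^ a * r1 ^ a' * r2 ^ b * (r2 ^ b' * w ^ (2 * (a' * b))) * (w ^ c' * w ^ c) := by
          rw [hwk (2 * (a' * b))]
      _ = (r1 ^ a * r1 ^ a') * (r2 ^ b * r2 ^ b') * (w ^ (2 * (a' * b)) * (w ^ c' * w ^ c)) := by
          simp only [mul_assoc]
      _ = r1 ^ (a + a') * r2 ^ (b + b') * w ^ (c + c' + 2 * (a' * b)) := by
          have e : 2 * (a' * b) + (c' + c) = c + c' + 2 * (a' * b) := by ring
          rw [← pow_add, ← pow_add, ← pow_add, ← pow_add, e]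
  have hι : ∀ u : V, iotaOf r1 r2 u =
      r1 ^ (u 0).val * r2 ^ (u 1).val * w ^ (u 0 * u 1).val := by
    intro u
    unfold iotaOf
    rw [← hw]
  have htw : t * w * t⁻¹ = w := by rw [hwc t]; group
  refine ⟨?_, ?_, ?_, ?_, ?_⟩
  · intro u
    rw [hι]
    exact (R X).mul_mem ((R X).mul_mem ((R X).pow_mem hr1 _) ((R X).pow_mem hr2 _))
      ((R X).pow_mem (hZR hwZ) _)
  · intro u
    have hL : t * iotaOf r1 r2 u * t⁻¹ =
        r1 ^ (2 * (u 0).val) * r2 ^ (2 * (u 1).val) * w ^ (u 0 * u 1).val := by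
      rw [hι, ← MulAut.conj_apply, map_mul, map_mul, map_pow, map_pow, map_pow, MulAut.conj_apply,
        MulAut.conj_apply, MulAut.conj_apply, ht1, ht2, htw, hinv r1 hr13, hinv r2 hr23, ← pow_mul,
        ← pow_mul]
    have hR : (iotaOf r1 r2 u)⁻¹ = r1 ^ (2 * (u 0).val) * r2 ^ (2 * (u 1).val) *
        w ^ (2 * (u 0 * u 1).val + 2 * (2 * (u 0).val * (2 * (u 1).val))) := by
      rw [hι, mul_inv_rev, mul_inv_rev, ← inv_pow, ← inv_pow, ← inv_pow, hinv r1 hr13,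
        hinv r2 hr23, hinv w hw3, ← pow_mul, ← pow_mul, ← pow_mul, hcm (2 * (u 0).val)
        (2 * (u 1).val), ← mul_assoc, ← pow_add, hwk]
    rw [hL, hR]
    congr 1
    exact hpm w hw3 _ _ (D1 (u 0) (u 1))
  · unfold zOf
    rw [← hw]
    exact (Zc X).inv_mem hwZ
  · unfold zOf
    rw [← hw]
    exact inv_ne_one.mpr hw1
  · intro u v
    have hz : zOf r1 r2 = w ^ 2 := by
      unfold zOf
      rw [← hw, hinv w hw3]
    have eR : iotaOf r1 r2 (u + v) * zOf r1 r2 ^ (u 0 * v 1 - u 1 * v 0).val =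
        r1 ^ ((u + v) 0).val * r2 ^ ((u + v) 1).val *
          w ^ (((u + v) 0 * (u + v) 1).val + 2 * (u 0 * v 1 - u 1 * v 0).val) := by
      rw [hι (u + v), hz, ← pow_mul, mul_assoc, ← pow_add]
    rw [hι u, hι v, hmf, eR]
    have e1 : r1 ^ ((u 0).val + (v 0).val) = r1 ^ ((u + v) 0).val :=
      hpm r1 hr13 _ _ (D3 (u 0) (v 0))
    have e2 : r2 ^ ((u 1).val + (v 1).val) = r2 ^ ((u + v) 1).val :=
      hpm r2 hr23 _ _ (D3 (u 1) (v 1))
    have e3 : w ^ ((u 0 * u 1).val + (v 0 * v 1).val + 2 * ((v 0).val * (u 1).val)) =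
        w ^ (((u + v) 0 * (u + v) 1).val + 2 * (u 0 * v 1 - u 1 * v 0).val) :=
      hpm w hw3 _ _ (D2 (u 0) (u 1) (v 0) (v 1))
    rw [e1, e2, e3]

end Cfsg.Agent.Lib.Helper31.J3FR2
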