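import Mathlib
import Cfsg.Prelude.Def_LocalStructure
import Cfsg.Agent.Lib.Helper31.AsymL

set_option autoImplicit false

/-!
# Fixed-point-free action of `p'`-elements of `L ∈ 𝔏_G(Y)` on `O_p(L)/C_Y(L)`

Ambient formulation.  `LCtx p Y A L` collects what is used of `L ∈ 𝔏_G(Y)` (`A = O_p(L)`).
For two conjugates `Y₁ = aYa⁻¹ ≠ Y₂ = bYb⁻¹` (`a b ∈ L`): `L = ⟨Y₁, Y₂⟩`, `A = (Y₁ ∩ A)(Y₂ ∩ A)`,
`Y₁ ∩ Y₂ ∩ A = C_Y(L) =: C`, `A/C` is abelian.  `core`: a product `y₁y₂` (`yᵢ ∈ Yᵢ`, `y₁ ∉ N(Y₂)`,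
`y₂ ∉ N(Y₁)`) has no fixed points on `A/C`; `core2`: the same for an element that is central
modulo `A` and congruent to `(y₁y₂)²`.
-/

namespace Cfsg.Agent.Lib.Helper31.LFpf

open Cfsg Cfsg.Agent.Lib.Helper47.Syl Cfsg.Agent.Lib.Helper31.LLemma
open Cfsg.Agent.Lib.Helper31.AsymL

variable {G : Type*} [Group G]

/-- what is used of `L ∈ 𝔏_G(Y)`, `A = O_p(L)` -/
structure LCtx (p : ℕ) (Y A L : Subgroup G) : Prop where
  YL : Y ≤ L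
  Ycomm : ∀ a ∈ Y, ∀ b ∈ Y, a * b = b * a
  Yp : IsPGroup p Y
  Ap : IsPGroup p A
  AL : A ≤ L
  LA : L ≤ Subgroup.normalizer (A : Set G)
  Amax : ∀ N : Subgroup G, N ≤ L → L ≤ Subgroup.normalizer (N : Set G) → IsPGroup p N → N ≤ A
  Ancl : ∀ X : Subgroup G, Y ⊓ A ≤ X → L ≤ Subgroup.normalizer (X : Set G) → A ≤ X
  AY : A ≤ Subgroup.normalizer (Y : Set G)
  Bmax : ∀ X : Subgroup G, Y ≤ X → X < L → X ≤ L ⊓ Subgroup.normalizer (Y : Set G)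
  Blt : L ⊓ Subgroup.normalizer (Y : Set G) < L
  Yncl : ∀ X : Subgroup G, Y ≤ X → X ≤ L → L ≤ Subgroup.normalizer (X : Set G) → X = L

namespace LCtx

variable {p : ℕ} {Y A L : Subgroup G}

theorem L_cent_C (_c : LCtx p Y A L) :
    L ≤ Subgroup.centralizer ((Y ⊓ Subgroup.centralizer (L : Set G) : Subgroup G) : Set G) :=
  Subgroup.le_centralizer_iff.mp inf_le_right

theorem L_norm_C (c : LCtx p Y A L) :
    L ≤ Subgroup.normalizer ((Y ⊓ Subgroup.centralizer (L : Set G) : Subgroup G) : Set G) :=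
  c.L_cent_C.trans (Subgroup.centralizer_le_normalizer _)

theorem C_le_A (c : LCtx p Y A L) : Y ⊓ Subgroup.centralizer (L : Set G) ≤ A :=
  c.Amax _ (inf_le_left.trans c.YL) c.L_norm_C (c.Yp.to_le inf_le_left)

theorem C_comm (_c : LCtx p Y A L) {x l : G} (hx : x ∈ Y ⊓ Subgroup.centralizer (L : Set G))
    (hl : l ∈ L) : l * x = x * l :=
  Subgroup.mem_centralizer_iff.mp hx.2 l hl

theorem gen_of_not_mem [Finite G] (c : LCtx p Y A L) {g : G} (hg : g ∈ L)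
    (hn : g ∉ Subgroup.normalizer (Y : Set G)) : Y ⊔ cj g Y = L := by
  by_contra hne
  have hXL : Y ⊔ cj g Y ≤ L := sup_le c.YL (cj_le_of_mem hg c.YL)
  have hXB := c.Bmax _ le_sup_left (lt_of_le_of_ne hXL hne)
  have h1 : cj g Y ≤ L ⊓ Subgroup.normalizer (Y : Set G) := le_sup_right.trans hXB
  have h2 : Y ≤ cj g⁻¹ (L ⊓ Subgroup.normalizer (Y : Set G)) := by
    rw [le_cj_iff, inv_inv]; exact h1
  have h3 : cj g⁻¹ (L ⊓ Subgroup.normalizer (Y : Set G)) < L :=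
    lt_of_le_of_ne (cj_le_of_mem (L.inv_mem hg) inf_le_left)
      (cj_ne_of_ne g⁻¹ inf_le_left c.Blt.ne)
  have h4 := c.Bmax _ h2 h3
  have h5 : g⁻¹ ∈ Subgroup.normalizer
      ((L ⊓ Subgroup.normalizer (Y : Set G) : Subgroup G) : Set G) :=
    mem_normalizer_of_map_conj_le h4
  have h6 : g ∈ Subgroup.normalizer
      ((L ⊓ Subgroup.normalizer (Y : Set G) : Subgroup G) : Set G) := by
    have := Subgroup.inv_mem _ h5
    rwa [inv_inv] at this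
  have hYB : Y ≤ L ⊓ Subgroup.normalizer (Y : Set G) := le_inf c.YL Subgroup.le_normalizer
  by_cases hN : L ⊓ Subgroup.normalizer
      ((L ⊓ Subgroup.normalizer (Y : Set G) : Subgroup G) : Set G) = L
  · have h7 := c.Yncl _ hYB inf_le_left (inf_eq_left.mp hN)
    exact c.Blt.ne h7
  · have h7 := c.Bmax _ (le_inf c.YL (hYB.trans Subgroup.le_normalizer))
      (lt_of_le_of_ne inf_le_left hN)
    exact hn (h7 ⟨hg, h6⟩).2

theorem gen_of_ne [Finite G] (c : LCtx p Y A L) {a b : G} (ha : a ∈ L) (hb : b ∈ L)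
    (hne : cj a Y ≠ cj b Y) : cj a Y ⊔ cj b Y = L := by
  have hg : a⁻¹ * b ∈ L := L.mul_mem (L.inv_mem ha) hb
  have hn : a⁻¹ * b ∉ Subgroup.normalizer (Y : Set G) := by
    intro h
    apply hne
    have h1 := cj_eq_of_normalizer h
    have h2 := congrArg (cj a) h1
    rw [cj_cj, mul_inv_cancel_left] at h2
    exact h2.symm
  have h1 := c.gen_of_not_mem hg hn
  have h2 := congrArg (cj a) h1
  rw [cj_sup, cj_cj, mul_inv_cancel_left, cj_eq_of_mem ha] at h2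
  exact h2

theorem ws (c : LCtx p Y A L) {a b : G} (ha : a ∈ L) (hb : b ∈ L)
    (hgen : cj a Y ⊔ cj b Y = L) : WS p A L (cj a Y) (cj b Y) (b * a⁻¹) where
  Rp := c.Ap
  LR := c.LA
  gen := hgen
  kL := L.mul_mem hb (L.inv_mem ha)
  BA := by rw [cj_cj, inv_mul_cancel_right]
  Acomm := by
    intro x hx y hy
    have hx' := mem_cj.mp hx
    have hy' := mem_cj.mp hy
    have := c.Ycomm _ hx' _ hy'
    calc x * y = a * ((a⁻¹ * x * a) * (a⁻¹ * y * a)) * a⁻¹ := by group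
      _ = a * ((a⁻¹ * y * a) * (a⁻¹ * x * a)) * a⁻¹ := by rw [this]
      _ = y * x := by group
  RA := by
    intro r hr
    rw [Cfsg.Agent.Lib.Helper47.Cent.mem_normalizer_map_conj]
    exact c.AY (conj_mem_of_mem_normalizer' (c.LA ha) hr)

theorem W_eq [Finite G] (c : LCtx p Y A L) {a b : G} (ha : a ∈ L) (hb : b ∈ L)
    (hgen : cj a Y ⊔ cj b Y = L) : Wof A (cj a Y) (cj b Y) = A := by
  have ws := c.ws ha hb hgen
  apply le_antisymm ws.W_le_R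
  apply c.Ancl _ _ ws.L_norm_W
  intro x hx
  have h0 : a * x * a⁻¹ ∈ cj a Y ⊓ A :=
    ⟨conj_mem_map_conj hx.1, conj_mem_of_mem_normalizer (c.LA ha) hx.2⟩
  have h1 : a * x * a⁻¹ ∈ Wof A (cj a Y) (cj b Y) := Subgroup.mem_sup_left h0
  have h2 := conj_mem_of_mem_normalizer' (ws.L_norm_W ha) h1
  have e : a⁻¹ * (a * x * a⁻¹) * a = x := by group
  rwa [e] at h2

theorem I_eq (c : LCtx p Y A L) {a b : G} (ha : a ∈ L) (hb : b ∈ L)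
    (hgen : cj a Y ⊔ cj b Y = L) :
    Iof A (cj a Y) (cj b Y) = Y ⊓ Subgroup.centralizer (L : Set G) := by
  have ws := c.ws ha hb hgen
  apply le_antisymm
  · intro x hx
    have hxL : x ∈ Subgroup.centralizer (L : Set G) :=
      Subgroup.le_centralizer_iff.mp ws.L_cent_I hx
    have h1 : a⁻¹ * x * a ∈ Y := mem_cj.mp hx.1.1
    rw [conj_eq_of_comm' (Subgroup.mem_centralizer_iff.mp hxL a ha)] at h1
    exact ⟨h1, hxL⟩
  · intro x hx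
    have hcomm : ∀ l ∈ L, l * x = x * l := Subgroup.mem_centralizer_iff.mp hx.2
    have h1 : x ∈ cj a Y := by
      rw [mem_cj, conj_eq_of_comm' (hcomm a ha)]; exact hx.1
    have h2 : x ∈ cj b Y := by
      rw [mem_cj, conj_eq_of_comm' (hcomm b hb)]; exact hx.1
    exact ⟨⟨h1, h2⟩, c.C_le_A hx⟩

/-- `A/C` is abelian -/
theorem A_comm [Finite G] (c : LCtx p Y A L) {a b : G} (ha : a ∈ L) (hb : b ∈ L)
    (hgen : cj a Y ⊔ cj b Y = L) {u v : G} (hu : u ∈ A) (hv : v ∈ A) :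
    u * v * u⁻¹ * v⁻¹ ∈ Y ⊓ Subgroup.centralizer (L : Set G) := by
  have key : ∀ {Y₁ Y₂ : Subgroup G} {k : G}, WS p A L Y₁ Y₂ k → Wof A Y₁ Y₂ = A →
      Iof A Y₁ Y₂ = Y ⊓ Subgroup.centralizer (L : Set G) → ∀ u ∈ Y₁ ⊓ A, ∀ v ∈ A,
      v * u * v⁻¹ * u⁻¹ ∈ Y ⊓ Subgroup.centralizer (L : Set G) := by
    intro Y₁ Y₂ k ws hW hI u hu v hv
    have h1 : Wof A Y₁ Y₂ ≤ cen ({u} : Set G) (Y ⊓ Subgroup.centralizer (L : Set G)) := by
      apply sup_le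
      · intro x hx
        refine ⟨c.L_norm_C (c.AL hx.2), fun t ht => ?_⟩
        rw [Set.mem_singleton_iff.mp ht, comm_eq_one_of_comm (ws.Acomm x hx.1 u hu.1)]
        exact Subgroup.one_mem _
      · intro x hx
        refine ⟨c.L_norm_C (c.AL hx.2), fun t ht => ?_⟩
        rw [Set.mem_singleton_iff.mp ht, ← hI]
        have e1 : x * u * x⁻¹ * u⁻¹ ∈ Y₁ :=
          Y₁.mul_mem (conj_mem_of_mem_normalizer (ws.RA hx.2) hu.1) (Y₁.inv_mem hu.1)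
        have e2 : x * u * x⁻¹ * u⁻¹ ∈ Y₂ := by
          have h2 := conj_mem_of_mem_normalizer (ws.RB hu.2) (Y₂.inv_mem hx.1)
          have e : x * u * x⁻¹ * u⁻¹ = x * (u * x⁻¹ * u⁻¹) := by group
          rw [e]; exact Y₂.mul_mem hx.1 h2
        have e3 : x * u * x⁻¹ * u⁻¹ ∈ A :=
          A.mul_mem (A.mul_mem (A.mul_mem hx.2 hu.2) (A.inv_mem hx.2)) (A.inv_mem hu.2)
        exact ⟨⟨e1, e2⟩, e3⟩
    have h2 : v ∈ Wof A Y₁ Y₂ := by rw [hW]; exact hv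
    exact (h1 h2).2 u rfl
  have ws := c.ws ha hb hgen
  have hI := c.I_eq ha hb hgen
  have hW := c.W_eq ha hb hgen
  have h1 : Wof A (cj a Y) (cj b Y) ≤
      cen ({v} : Set G) (Y ⊓ Subgroup.centralizer (L : Set G)) := by
    apply sup_le
    · intro x hx
      refine ⟨c.L_norm_C (c.AL hx.2), fun t ht => ?_⟩
      rw [Set.mem_singleton_iff.mp ht]
      have h3 := key ws hW hI x hx v hv
      have e : x * v * x⁻¹ * v⁻¹ = (v * x * v⁻¹ * x⁻¹)⁻¹ := by group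
      rw [e]; exact Subgroup.inv_mem _ h3
    · intro x hx
      refine ⟨c.L_norm_C (c.AL hx.2), fun t ht => ?_⟩
      rw [Set.mem_singleton_iff.mp ht]
      have h3 := key ws.symm (by rw [← Wof_comm]; exact hW) (by rw [← Iof_comm]; exact hI)
        x hx v hv
      have e : x * v * x⁻¹ * v⁻¹ = (v * x * v⁻¹ * x⁻¹)⁻¹ := by group
      rw [e]; exact Subgroup.inv_mem _ h3
  have h2 : u ∈ Wof A (cj a Y) (cj b Y) := by rw [hW]; exact hu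
  exact (h1 h2).2 v rfl

/-- `C_{A/C}(L) = 1` -/
theorem cent_L [Finite G] (c : LCtx p Y A L) {a b : G} (ha : a ∈ L) (hb : b ∈ L)
    (hgen : cj a Y ⊔ cj b Y = L) {v : G} (hv : v ∈ A)
    (h : ∀ l ∈ L, l * v * l⁻¹ * v⁻¹ ∈ Y ⊓ Subgroup.centralizer (L : Set G)) :
    v ∈ Y ⊓ Subgroup.centralizer (L : Set G) := by
  have ws := c.ws ha hb hgen
  have hI := c.I_eq ha hb hgen
  have hW := c.W_eq ha hb hgen
  have h1 : v ∈ cj a Y ⊓ A := ws.claim2 (by rw [hW]; exact hv) (fun y hy => by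
    rw [hI]
    have e : v * y * v⁻¹ * y⁻¹ = (y * v * y⁻¹ * v⁻¹)⁻¹ := by group
    rw [e]; exact Subgroup.inv_mem _ (h y (ws.AL hy)))
  have h2 : v ∈ cj b Y ⊓ A := ws.symm.claim2 (by rw [← Wof_comm, hW]; exact hv) (fun y hy => by
    rw [← Iof_comm, hI]
    have e : v * y * v⁻¹ * y⁻¹ = (y * v * y⁻¹ * v⁻¹)⁻¹ := by group
    rw [e]; exact Subgroup.inv_mem _ (h y (ws.BL hy)))
  rw [← hI]; exact ⟨⟨h1.1, h2.1⟩, hv⟩

theorem Bmax' [Finite G] (c : LCtx p Y A L) {b : G} (hb : b ∈ L) (X : Subgroup G)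
    (hYX : cj b Y ≤ X) (hXL : X < L) :
    X ≤ L ⊓ Subgroup.normalizer ((cj b Y : Subgroup G) : Set G) := by
  have h1 : Y ≤ cj b⁻¹ X := by rw [le_cj_iff, inv_inv]; exact hYX
  have h2 : cj b⁻¹ X < L :=
    lt_of_le_of_ne (cj_le_of_mem (L.inv_mem hb) hXL.le) (cj_ne_of_ne b⁻¹ hXL.le hXL.ne)
  have h3 := c.Bmax _ h1 h2
  have h4 : X ≤ cj b (L ⊓ Subgroup.normalizer (Y : Set G)) := by rw [le_cj_iff]; exact h3
  intro x hx
  have h5 := mem_cj.mp (h4 hx)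
  have h6 : x ∈ Subgroup.normalizer ((cj b Y : Subgroup G) : Set G) :=
    Cfsg.Agent.Lib.Helper47.Cent.mem_normalizer_map_conj.mpr h5.2
  exact ⟨hXL.le hx, h6⟩

/-- an element of `Y₂ ∩ A` centralized modulo `C` by an element outside `N(Y₂)` lies in `C` -/
theorem half [Finite G] (c : LCtx p Y A L) {a b : G} (ha : a ∈ L) (hb : b ∈ L)
    (hgen : cj a Y ⊔ cj b Y = L) {y₁ v₂ : G} (hy₁ : y₁ ∈ L)
    (hn : y₁ ∉ Subgroup.normalizer ((cj b Y : Subgroup G) : Set G)) (hv₂ : v₂ ∈ cj b Y ⊓ A)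
    (h : y₁ * v₂ * y₁⁻¹ * v₂⁻¹ ∈ Y ⊓ Subgroup.centralizer (L : Set G)) :
    v₂ ∈ Y ⊓ Subgroup.centralizer (L : Set G) := by
  have ws := c.ws ha hb hgen
  apply c.cent_L ha hb hgen hv₂.2
  have hD : L ⊓ cen ({v₂} : Set G) (Y ⊓ Subgroup.centralizer (L : Set G)) = L := by
    by_contra hne
    have hlt := lt_of_le_of_ne inf_le_left hne
    have hYD : cj b Y ≤ L ⊓ cen ({v₂} : Set G) (Y ⊓ Subgroup.centralizer (L : Set G)) := by
      intro y hy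
      refine ⟨ws.BL hy, c.L_norm_C (ws.BL hy), fun x hx => ?_⟩
      rw [Set.mem_singleton_iff.mp hx, comm_eq_one_of_comm (ws.Bcomm y hy v₂ hv₂.1)]
      exact Subgroup.one_mem _
    have h1 := c.Bmax' hb _ hYD hlt
    exact hn (h1 ⟨hy₁, c.L_norm_C hy₁, fun x hx => by
      rw [Set.mem_singleton_iff.mp hx]; exact h⟩).2
  intro l hl
  have h2 : l ∈ L ⊓ cen ({v₂} : Set G) (Y ⊓ Subgroup.centralizer (L : Set G)) := by
    rw [hD]; exact hl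
  exact h2.2.2 v₂ rfl

/-- a product `y₁ y₂` from two opposite conjugates of `Y` acts fixed-point-freely on `A/C` -/
theorem core [Finite G] (c : LCtx p Y A L) {a b : G} (ha : a ∈ L) (hb : b ∈ L)
    (hgen : cj a Y ⊔ cj b Y = L) {y₁ y₂ v : G} (hy₁ : y₁ ∈ cj a Y) (hy₂ : y₂ ∈ cj b Y)
    (hn₁ : y₁ ∉ Subgroup.normalizer ((cj b Y : Subgroup G) : Set G))
    (hn₂ : y₂ ∉ Subgroup.normalizer ((cj a Y : Subgroup G) : Set G)) (hv : v ∈ A)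
    (h : (y₁ * y₂) * v * (y₁ * y₂)⁻¹ * v⁻¹ ∈ Y ⊓ Subgroup.centralizer (L : Set G)) :
    v ∈ Y ⊓ Subgroup.centralizer (L : Set G) := by
  have ws := c.ws ha hb hgen
  have hI := c.I_eq ha hb hgen
  have hW := c.W_eq ha hb hgen
  have hgen' : cj b Y ⊔ cj a Y = L := by rw [sup_comm]; exact hgen
  have hnorm : cj a Y ⊓ A ≤ Subgroup.normalizer ((cj b Y ⊓ A : Subgroup G) : Set G) :=
    fun x hx => Cfsg.Agent.Lib.Helper47.Cent.normalizer_inf_le _ _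
      ⟨ws.RB hx.2, Subgroup.le_normalizer hx.2⟩
  have hvW : v ∈ Wof A (cj a Y) (cj b Y) := by rw [hW]; exact hv
  obtain ⟨v₁, hv₁, v₂, hv₂, rfl⟩ := exists_mul_of_mem_sup_left hnorm hvW
  have hy₁L : y₁ ∈ L := ws.AL hy₁
  have hy₂L : y₂ ∈ L := ws.BL hy₂
  have hv₁L : v₁ ∈ L := c.AL hv₁.2
  obtain ⟨cc, hcc⟩ : ∃ cc, cc = y₁ * y₂ * (v₁ * v₂) * (y₁ * y₂)⁻¹ * (v₁ * v₂)⁻¹ := ⟨_, rfl⟩
  rw [← hcc] at h
  have f1 : y₂ * v₂ * y₂⁻¹ = v₂ := conj_eq_of_comm (ws.Bcomm y₂ hy₂ v₂ hv₂.1)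
  have f2 : y₁⁻¹ * v₁ * y₁ = v₁ := conj_eq_of_comm' (ws.Acomm y₁ hy₁ v₁ hv₁.1)
  have f3 : y₁⁻¹ * cc * y₁ = cc := conj_eq_of_comm' (c.C_comm h hy₁L)
  have f4 : v₁⁻¹ * cc * v₁ = cc := conj_eq_of_comm' (c.C_comm h hv₁L)
  have e0 : y₂ * v₁ * y₂⁻¹ = (y₁⁻¹ * cc * y₁) * (y₁⁻¹ * v₁ * y₁) * (y₁⁻¹ * v₂ * y₁) *
      (y₂ * v₂ * y₂⁻¹)⁻¹ := by
    rw [hcc]; group
  rw [f1, f2, f3] at e0
  -- c₁, c₂
  have hc₁ : y₁⁻¹ * v₂ * y₁⁻¹⁻¹ * v₂⁻¹ ∈ cj a Y ⊓ A := ws.quad' hv₂.2 (Subgroup.inv_mem _ hy₁)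
  rw [inv_inv] at hc₁
  have hc₂ : v₁⁻¹ * y₂ * v₁⁻¹⁻¹ * y₂⁻¹ ∈ cj b Y ⊓ A :=
    ws.symm.quad (A.inv_mem hv₁.2) hy₂
  rw [inv_inv] at hc₂
  have e1 : v₁⁻¹ * y₂ * v₁ * y₂⁻¹ = cc * (y₁⁻¹ * v₂ * y₁ * v₂⁻¹) := by
    calc v₁⁻¹ * y₂ * v₁ * y₂⁻¹ = v₁⁻¹ * (y₂ * v₁ * y₂⁻¹) := by group
      _ = v₁⁻¹ * (cc * v₁ * (y₁⁻¹ * v₂ * y₁) * v₂⁻¹) := by rw [e0]
      _ = (v₁⁻¹ * cc * v₁) * (y₁⁻¹ * v₂ * y₁ * v₂⁻¹) := by group
      _ = cc * (y₁⁻¹ * v₂ * y₁ * v₂⁻¹) := by rw [f4]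
  have hCI : Y ⊓ Subgroup.centralizer (L : Set G) ≤ cj b Y ⊓ A := by
    rw [← hI]; exact fun x hx => ⟨hx.1.2, hx.2⟩
  have hc₁' : y₁⁻¹ * v₂ * y₁ * v₂⁻¹ ∈ Y ⊓ Subgroup.centralizer (L : Set G) := by
    have h3 : y₁⁻¹ * v₂ * y₁ * v₂⁻¹ ∈ cj b Y ⊓ A := by
      have e : y₁⁻¹ * v₂ * y₁ * v₂⁻¹ = cc⁻¹ * (v₁⁻¹ * y₂ * v₁ * y₂⁻¹) := by rw [e1]; group
      rw [e]
      exact Subgroup.mul_mem _ (Subgroup.inv_mem _ (hCI h)) hc₂
    rw [← hI]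
    exact ⟨⟨hc₁.1, h3.1⟩, hc₁.2⟩
  have hc₂' : v₁⁻¹ * y₂ * v₁ * y₂⁻¹ ∈ Y ⊓ Subgroup.centralizer (L : Set G) := by
    rw [e1]; exact Subgroup.mul_mem _ h hc₁'
  have hv₂C : v₂ ∈ Y ⊓ Subgroup.centralizer (L : Set G) := by
    apply c.half ha hb hgen (L.inv_mem hy₁L) (fun hh => hn₁ (by
      have := Subgroup.inv_mem _ hh
      rwa [inv_inv] at this)) hv₂
    rw [inv_inv]; exact hc₁'
  have hv₁C : v₁ ∈ Y ⊓ Subgroup.centralizer (L : Set G) := by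
    apply c.half hb ha hgen' hy₂L hn₂ hv₁
    have e : y₂ * v₁ * y₂⁻¹ * v₁⁻¹ = v₁ * (v₁⁻¹ * y₂ * v₁ * y₂⁻¹) * v₁⁻¹ := by group
    rw [e]
    exact conj_mem_of_mem_normalizer (c.L_norm_C hv₁L) hc₂'
  exact Subgroup.mul_mem _ hv₁C hv₂C

/-- an element central modulo `A` and congruent to `(y₁y₂)²` modulo `A` acts fixed-point-freely
on `A/C` -/
theorem core2 [Finite G] (c : LCtx p Y A L) {a b : G} (ha : a ∈ L) (hb : b ∈ L)
    (hgen : cj a Y ⊔ cj b Y = L) {y₁ y₂ z v : G} (hy₁ : y₁ ∈ cj a Y) (hy₂ : y₂ ∈ cj b Y)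
    (hn₁ : y₁ ∉ Subgroup.normalizer ((cj b Y : Subgroup G) : Set G))
    (hn₂ : y₂ ∉ Subgroup.normalizer ((cj a Y : Subgroup G) : Set G))
    (hz : z ∈ L) (hzc : ∀ l ∈ L, z⁻¹ * (l⁻¹ * z * l) ∈ A)
    (hsq : z⁻¹ * ((y₁ * y₂) * (y₁ * y₂)) ∈ A) (hv : v ∈ A)
    (h : z * v * z⁻¹ * v⁻¹ ∈ Y ⊓ Subgroup.centralizer (L : Set G)) :
    v ∈ Y ⊓ Subgroup.centralizer (L : Set G) := by
  have ws := c.ws ha hb hgen
  have hI := c.I_eq ha hb hgen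
  have hgen' : cj b Y ⊔ cj a Y = L := by rw [sup_comm]; exact hgen
  have hy₁L : y₁ ∈ L := ws.AL hy₁
  have hy₂L : y₂ ∈ L := ws.BL hy₂
  have hhL : y₁ * y₂ ∈ L := L.mul_mem hy₁L hy₂L
  have hCI : Y ⊓ Subgroup.centralizer (L : Set G) ≤ cj b Y := by
    rw [← hI]; exact fun x hx => hx.1.2
  have hCI' : Y ⊓ Subgroup.centralizer (L : Set G) ≤ cj a Y := by
    rw [← hI]; exact fun x hx => hx.1.1
  -- `z` and `A` centralize `u` modulo `C` for `u` in `A⁺`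
  have hS : ∀ u ∈ A ⊓ cen ({z} : Set G) (Y ⊓ Subgroup.centralizer (L : Set G)),
      ∀ x ∈ A, z * x ∈ L ⊓ cen ({u} : Set G) (Y ⊓ Subgroup.centralizer (L : Set G)) := by
    intro u hu x hx
    have hzS : z ∈ L ⊓ cen ({u} : Set G) (Y ⊓ Subgroup.centralizer (L : Set G)) :=
      ⟨hz, c.L_norm_C hz, fun t ht => by
        rw [Set.mem_singleton_iff.mp ht]; exact cen_comm' hu.2 (Set.mem_singleton z)⟩
    have hxS : x ∈ L ⊓ cen ({u} : Set G) (Y ⊓ Subgroup.centralizer (L : Set G)) :=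
      ⟨c.AL hx, c.L_norm_C (c.AL hx), fun t ht => by
        rw [Set.mem_singleton_iff.mp ht]; exact c.A_comm ha hb hgen hx hu.1⟩
    exact Subgroup.mul_mem _ hzS hxS
  have hconj : ∀ u ∈ A ⊓ cen ({z} : Set G) (Y ⊓ Subgroup.centralizer (L : Set G)),
      ∀ l ∈ L, l * u * l⁻¹ ∈ A ⊓ cen ({z} : Set G) (Y ⊓ Subgroup.centralizer (L : Set G)) := by
    intro u hu l hl
    have hlu : l * u * l⁻¹ ∈ A := conj_mem_of_mem_normalizer (c.LA hl) hu.1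
    refine ⟨hlu, c.L_norm_C (c.AL hlu), fun t ht => ?_⟩
    rw [Set.mem_singleton_iff.mp ht]
    have h1 := (hS u hu _ (hzc l hl)).2.2 u rfl
    rw [mul_inv_cancel_left] at h1
    have h2 := conj_mem_of_mem_normalizer (c.L_norm_C hl) h1
    have e : l * u * l⁻¹ * z * (l * u * l⁻¹)⁻¹ * z⁻¹ =
        (l * (l⁻¹ * z * l * u * (l⁻¹ * z * l)⁻¹ * u⁻¹) * l⁻¹)⁻¹ := by group
    rw [e]
    exact Subgroup.inv_mem _ h2
  have hfix : ∀ u ∈ A ⊓ cen ({z} : Set G) (Y ⊓ Subgroup.centralizer (L : Set G)),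
      u * ((y₁ * y₂) * u * (y₁ * y₂)⁻¹) ∈ Y ⊓ Subgroup.centralizer (L : Set G) := by
    intro u hu
    have hw : (y₁ * y₂) * u * (y₁ * y₂)⁻¹ ∈ A := conj_mem_of_mem_normalizer (c.LA hhL) hu.1
    have h1 := (hS u hu _ hsq).2.2 u rfl
    rw [mul_inv_cancel_left] at h1
    apply c.core ha hb hgen hy₁ hy₂ hn₁ hn₂ (A.mul_mem hu.1 hw)
    have e : y₁ * y₂ * (u * (y₁ * y₂ * u * (y₁ * y₂)⁻¹)) * (y₁ * y₂)⁻¹ *
        (u * (y₁ * y₂ * u * (y₁ * y₂)⁻¹))⁻¹ =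
        ((y₁ * y₂ * u * (y₁ * y₂)⁻¹) *
          (y₁ * y₂ * (y₁ * y₂) * u * (y₁ * y₂ * (y₁ * y₂))⁻¹ * u⁻¹) *
          (y₁ * y₂ * u * (y₁ * y₂)⁻¹)⁻¹) *
        ((y₁ * y₂ * u * (y₁ * y₂)⁻¹) * u * (y₁ * y₂ * u * (y₁ * y₂)⁻¹)⁻¹ * u⁻¹) := by group
    rw [e]
    exact Subgroup.mul_mem _ (conj_mem_of_mem_normalizer (c.L_norm_C (c.AL hw)) h1)
      (c.A_comm ha hb hgen hw hu.1)
  have h2 : ∀ v₂ ∈ cj b Y ⊓ A,
      v₂ ∈ A ⊓ cen ({z} : Set G) (Y ⊓ Subgroup.centralizer (L : Set G)) →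
      v₂ ∈ Y ⊓ Subgroup.centralizer (L : Set G) := by
    intro v₂ hv₂ hv₂p
    have h3 := hfix v₂ hv₂p
    have he : y₁ * v₂ * y₁⁻¹ * v₂⁻¹ ∈ cj a Y ⊓ A := ws.quad' hv₂.2 hy₁
    have f1 : y₂ * v₂ * y₂⁻¹ = v₂ := conj_eq_of_comm (ws.Bcomm y₂ hy₂ v₂ hv₂.1)
    have e1 : (y₁ * y₂) * v₂ * (y₁ * y₂)⁻¹ = y₁ * (y₂ * v₂ * y₂⁻¹) * y₁⁻¹ := by group
    rw [e1, f1] at h3
    have he2 : y₁ * v₂ * y₁⁻¹ * v₂⁻¹ ∈ cj b Y := by
      have e : y₁ * v₂ * y₁⁻¹ * v₂⁻¹ = v₂⁻¹ * (v₂ * (y₁ * v₂ * y₁⁻¹)) * v₂⁻¹ := by group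
      rw [e]
      exact Subgroup.mul_mem _ (Subgroup.mul_mem _ (Subgroup.inv_mem _ hv₂.1) (hCI h3))
        (Subgroup.inv_mem _ hv₂.1)
    have heC : y₁ * v₂ * y₁⁻¹ * v₂⁻¹ ∈ Y ⊓ Subgroup.centralizer (L : Set G) := by
      rw [← hI]; exact ⟨⟨he.1, he2⟩, he.2⟩
    exact c.half ha hb hgen hy₁L hn₁ hv₂ heC
  have h1 : ∀ v₁ ∈ cj a Y ⊓ A,
      v₁ ∈ A ⊓ cen ({z} : Set G) (Y ⊓ Subgroup.centralizer (L : Set G)) →
      v₁ ∈ Y ⊓ Subgroup.centralizer (L : Set G) := by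
    intro v₁ hv₁ hv₁p
    have h3 := hfix v₁ hv₁p
    have hd : y₂ * v₁ * y₂⁻¹ * v₁⁻¹ ∈ cj b Y ⊓ A := ws.symm.quad' hv₁.2 hy₂
    have hev : y₁ * (y₂ * v₁ * y₂⁻¹ * v₁⁻¹) * y₁⁻¹ * (y₂ * v₁ * y₂⁻¹ * v₁⁻¹)⁻¹ ∈ cj a Y ⊓ A :=
      ws.quad' hd.2 hy₁
    have f2 : y₁ * v₁ * y₁⁻¹ = v₁ := conj_eq_of_comm (ws.Acomm y₁ hy₁ v₁ hv₁.1)
    have e1 : (y₁ * y₂) * v₁ * (y₁ * y₂)⁻¹ =
        (y₁ * (y₂ * v₁ * y₂⁻¹ * v₁⁻¹) * y₁⁻¹ * (y₂ * v₁ * y₂⁻¹ * v₁⁻¹)⁻¹) *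
          (y₂ * v₁ * y₂⁻¹ * v₁⁻¹) * (y₁ * v₁ * y₁⁻¹) := by group
    rw [e1, f2] at h3
    have hd1 : y₂ * v₁ * y₂⁻¹ * v₁⁻¹ ∈ cj a Y := by
      have e : y₂ * v₁ * y₂⁻¹ * v₁⁻¹ =
          (v₁ * (y₁ * (y₂ * v₁ * y₂⁻¹ * v₁⁻¹) * y₁⁻¹ * (y₂ * v₁ * y₂⁻¹ * v₁⁻¹)⁻¹))⁻¹ *
          (v₁ * ((y₁ * (y₂ * v₁ * y₂⁻¹ * v₁⁻¹) * y₁⁻¹ * (y₂ * v₁ * y₂⁻¹ * v₁⁻¹)⁻¹) *
            (y₂ * v₁ * y₂⁻¹ * v₁⁻¹) * v₁)) * v₁⁻¹ := by group
      rw [e]
      exact Subgroup.mul_mem _ (Subgroup.mul_mem _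
        (Subgroup.inv_mem _ (Subgroup.mul_mem _ hv₁.1 hev.1)) (hCI' h3))
        (Subgroup.inv_mem _ hv₁.1)
    have hdC : y₂ * v₁ * y₂⁻¹ * v₁⁻¹ ∈ Y ⊓ Subgroup.centralizer (L : Set G) := by
      rw [← hI]; exact ⟨⟨hd1, hd.1⟩, hd.2⟩
    exact c.half hb ha hgen' hy₂L hn₂ hv₁ hdC
  have hvp : v ∈ A ⊓ cen ({z} : Set G) (Y ⊓ Subgroup.centralizer (L : Set G)) := by
    refine ⟨hv, c.L_norm_C (c.AL hv), fun t ht => ?_⟩
    rw [Set.mem_singleton_iff.mp ht]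
    have e : v * z * v⁻¹ * z⁻¹ = (z * v * z⁻¹ * v⁻¹)⁻¹ := by group
    rw [e]; exact Subgroup.inv_mem _ h
  apply c.cent_L ha hb hgen hv
  have hL : L ≤ cen ({v} : Set G) (Y ⊓ Subgroup.centralizer (L : Set G)) := by
    refine hgen.ge.trans ?_
    apply sup_le
    · intro y hy
      refine ⟨c.L_norm_C (ws.AL hy), fun t ht => ?_⟩
      rw [Set.mem_singleton_iff.mp ht]
      apply h1 _ (ws.quad' hv hy)
      exact Subgroup.mul_mem _ (hconj v hvp y (ws.AL hy)) (Subgroup.inv_mem _ hvp)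
    · intro y hy
      refine ⟨c.L_norm_C (ws.BL hy), fun t ht => ?_⟩
      rw [Set.mem_singleton_iff.mp ht]
      apply h2 _ (ws.symm.quad' hv hy)
      exact Subgroup.mul_mem _ (hconj v hvp y (ws.BL hy)) (Subgroup.inv_mem _ hvp)
  intro l hl
  exact (hL hl).2 v rfl

/-- distinct conjugates of `YA/A` meet trivially -/
theorem TI [Finite G] (c : LCtx p Y A L) {a b : G} (ha : a ∈ L) (hb : b ∈ L)
    (hgen : cj a Y ⊔ cj b Y = L) : (cj a Y ⊔ A) ⊓ (cj b Y ⊔ A) ≤ A := by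
  have ws := c.ws ha hb hgen
  have hY₁A : cj a Y ≤ Subgroup.normalizer (A : Set G) := ws.AL.trans c.LA
  have hY₂A : cj b Y ≤ Subgroup.normalizer (A : Set G) := ws.BL.trans c.LA
  have hp1 : IsPGroup p (cj a Y ⊔ A : Subgroup G) :=
    (isPGroup_cj c.Yp a).to_sup_of_normal_right' c.Ap hY₁A
  have hcomm : ∀ t ∈ (cj a Y ⊔ A) ⊓ (cj b Y ⊔ A), ∀ l ∈ L, l * t * l⁻¹ * t⁻¹ ∈ A := by
    intro t ht l hl
    have hL : L ≤ cen ({t} : Set G) A := by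
      rw [← hgen]
      apply sup_le
      · intro y hy
        refine ⟨hY₁A hy, fun x hx => ?_⟩
        rw [Set.mem_singleton_iff.mp hx]
        obtain ⟨y', hy', a', ha', rfl⟩ := exists_mul_of_mem_sup_left hY₁A ht.1
        have e : y * (y' * a') * y⁻¹ * (y' * a')⁻¹ =
            y' * ((y'⁻¹ * y * y' * y⁻¹) * (y * a' * y⁻¹ * a'⁻¹)) * y'⁻¹ := by group
        rw [e, show y'⁻¹ * y * y' * y⁻¹ = 1 from by
          rw [mul_assoc y'⁻¹ y y', ws.Acomm y hy y' hy']; group, one_mul]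
        exact conj_mem_of_mem_normalizer (hY₁A hy')
          (A.mul_mem (conj_mem_of_mem_normalizer (hY₁A hy) ha') (A.inv_mem ha'))
      · intro y hy
        refine ⟨hY₂A hy, fun x hx => ?_⟩
        rw [Set.mem_singleton_iff.mp hx]
        obtain ⟨y', hy', a', ha', rfl⟩ := exists_mul_of_mem_sup_left hY₂A ht.2
        have e : y * (y' * a') * y⁻¹ * (y' * a')⁻¹ =
            y' * ((y'⁻¹ * y * y' * y⁻¹) * (y * a' * y⁻¹ * a'⁻¹)) * y'⁻¹ := by group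
        rw [e, show y'⁻¹ * y * y' * y⁻¹ = 1 from by
          rw [mul_assoc y'⁻¹ y y', ws.Bcomm y hy y' hy']; group, one_mul]
        exact conj_mem_of_mem_normalizer (hY₂A hy')
          (A.mul_mem (conj_mem_of_mem_normalizer (hY₂A hy) ha') (A.inv_mem ha'))
    exact (hL hl).2 t rfl
  apply c.Amax _ (inf_le_left.trans (sup_le ws.AL c.AL)) _ (hp1.to_le inf_le_left)
  intro l hl
  apply mem_normalizer_of_conj_mem
  intro t ht
  have e : l * t * l⁻¹ = (l * t * l⁻¹ * t⁻¹) * t := by group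
  rw [e]
  exact Subgroup.mul_mem _ ⟨Subgroup.mem_sup_right (hcomm t ht l hl),
    Subgroup.mem_sup_right (hcomm t ht l hl)⟩ ht

/-- if `YA` is a Sylow `p`-subgroup of `L`, an element of a conjugate of `Y` normalizing an
opposite conjugate lies in `A` -/
theorem alpha_of_syl [Finite G] (c : LCtx p Y A L)
    (hS : ∀ P : Subgroup G, IsPGroup p P → Y ⊔ A ≤ P → P ≤ L → P = Y ⊔ A)
    {a b : G} (ha : a ∈ L) (hb : b ∈ L) (hgen : cj a Y ⊔ cj b Y = L) {y : G} (hy : y ∈ cj a Y)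
    (hn : y ∈ Subgroup.normalizer ((cj b Y : Subgroup G) : Set G)) : y ∈ A := by
  have ws := c.ws ha hb hgen
  have hY₂A : cj b Y ≤ Subgroup.normalizer (A : Set G) := ws.BL.trans c.LA
  have hp2 : IsPGroup p (cj b Y ⊔ A : Subgroup G) :=
    (isPGroup_cj c.Yp b).to_sup_of_normal_right' c.Ap hY₂A
  have hyL : y ∈ L := ws.AL hy
  have hzp : IsPGroup p (Subgroup.zpowers y) :=
    (isPGroup_cj c.Yp a).to_le (Subgroup.zpowers_le.mpr hy)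
  have hzn : Subgroup.zpowers y ≤ Subgroup.normalizer ((cj b Y ⊔ A : Subgroup G) : Set G) := by
    rw [Subgroup.zpowers_le]
    exact Cfsg.Agent.Lib.Helper47.FrakH.mem_normalizer_sup hn (c.LA hyL)
  have hP : IsPGroup p (Subgroup.zpowers y ⊔ (cj b Y ⊔ A) : Subgroup G) :=
    hzp.to_sup_of_normal_right' hp2 hzn
  -- conjugate back by `b`
  have hP' : IsPGroup p (cj b⁻¹ (Subgroup.zpowers y ⊔ (cj b Y ⊔ A))) := isPGroup_cj hP b⁻¹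
  have hAb : cj b⁻¹ A = A := cj_eq_of_normalizer (c.LA (L.inv_mem hb))
  have h1 : Y ⊔ A ≤ cj b⁻¹ (Subgroup.zpowers y ⊔ (cj b Y ⊔ A)) := by
    rw [cj_sup, cj_sup, cj_inv_cj, hAb]
    exact le_sup_right
  have h2 : cj b⁻¹ (Subgroup.zpowers y ⊔ (cj b Y ⊔ A)) ≤ L :=
    cj_le_of_mem (L.inv_mem hb)
      (sup_le (Subgroup.zpowers_le.mpr hyL) (sup_le ws.BL c.AL))
  have h3 := hS _ hP' h1 h2
  have h4 : y ∈ cj b Y ⊔ A := by
    have h5 : cj b⁻¹ (Subgroup.zpowers y) ≤ Y ⊔ A := by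
      rw [← h3]; exact cj_mono b⁻¹ le_sup_left
    have h6 : Subgroup.zpowers y ≤ cj b (Y ⊔ A) := by
      rw [le_cj_iff]; exact h5
    rw [cj_sup, cj_eq_of_normalizer (c.LA hb)] at h6
    exact h6 (Subgroup.mem_zpowers y)
  exact c.TI ha hb hgen ⟨Subgroup.mem_sup_left hy, h4⟩

theorem not_mem_pgroup [Fact p.Prime] {P : Subgroup G} (hP : IsPGroup p P) {h : G} {r : ℕ}
    (hr : r.Prime) (hrp : r ≠ p) (ho : orderOf h = r) : h ∉ P := by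
  intro hh
  have hcop : (orderOf h).Coprime p := by
    rw [ho]; exact (Nat.coprime_primes hr Fact.out).mpr hrp
  have h1 := Cfsg.Agent.Lib.Helper46.PCore.eq_one_of_mem_of_coprime hP hh hcop
  rw [h1, orderOf_one] at ho
  exact hr.ne_one ho.symm

/-- the fixed-point-freeness, from the two structural inputs `Hα` and `HD` -/
theorem fpf [Finite G] [Fact p.Prime] (c : LCtx p Y A L)
    (Hα : ∀ a ∈ L, ∀ b ∈ L, cj a Y ⊔ cj b Y = L → ∀ y ∈ cj a Y,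
      y ∈ Subgroup.normalizer ((cj b Y : Subgroup G) : Set G) → y ∈ A)
    (HD : ∀ h ∈ L, ∀ r : ℕ, r.Prime → r ≠ p → orderOf h = r →
      ∃ a ∈ L, ∃ b ∈ L, ∃ y₁ ∈ cj a Y, ∃ y₂ ∈ cj b Y,
        (y₁ * y₂)⁻¹ * h ∈ A ∨
          ((∀ l ∈ L, h⁻¹ * (l⁻¹ * h * l) ∈ A) ∧ h⁻¹ * ((y₁ * y₂) * (y₁ * y₂)) ∈ A))
    {h : G} (hh : h ∈ L) (hnp : ¬ ∃ k : ℕ, orderOf h = p ^ k) {v : G} (hv : v ∈ A)
    (hfix : h * v * h⁻¹ * v⁻¹ ∈ Y ⊓ Subgroup.centralizer (L : Set G)) :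
    v ∈ Y ⊓ Subgroup.centralizer (L : Set G) := by
  have ho : orderOf h ≠ 0 := (orderOf_pos h).ne'
  obtain ⟨r, hr, hrd, hrp⟩ : ∃ r : ℕ, r.Prime ∧ r ∣ orderOf h ∧ r ≠ p := by
    by_contra hcon
    push Not at hcon
    exact hnp ⟨_, Nat.eq_prime_pow_of_unique_prime_dvd ho (fun {d} hd hdd => hcon d hd hdd)⟩
  have ho₁ : orderOf (h ^ (orderOf h / r)) = r := orderOf_pow_orderOf_div ho hrd
  have hcen0 : h ∈ cen ({v} : Set G) (Y ⊓ Subgroup.centralizer (L : Set G)) :=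
    ⟨c.L_norm_C hh, fun t ht => by
      rw [Set.mem_singleton_iff.mp ht]; exact hfix⟩
  have hcen : h ^ (orderOf h / r) ∈
      cen ({v} : Set G) (Y ⊓ Subgroup.centralizer (L : Set G)) :=
    Subgroup.pow_mem _ hcen0 _
  have hh₁L : h ^ (orderOf h / r) ∈ L := L.pow_mem hh _
  generalize h ^ (orderOf h / r) = h₁ at ho₁ hcen hh₁L
  have hfix₁ := hcen.2 v rfl
  obtain ⟨a, ha, b, hb, y₁, hy₁, y₂, hy₂, halt⟩ := HD h₁ hh₁L r hr hrp ho₁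
  have hY₁p : IsPGroup p (cj a Y ⊔ A : Subgroup G) :=
    (isPGroup_cj c.Yp a).to_sup_of_normal_right' c.Ap ((cj_le_of_mem ha c.YL).trans c.LA)
  have hY₂p : IsPGroup p (cj b Y ⊔ A : Subgroup G) :=
    (isPGroup_cj c.Yp b).to_sup_of_normal_right' c.Ap ((cj_le_of_mem hb c.YL).trans c.LA)
  have hcontra : ∀ P : Subgroup G, IsPGroup p P → A ≤ P → y₁ * y₂ ∈ P → False := by
    intro P hP hAP h12
    apply not_mem_pgroup hP hr hrp ho₁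
    rcases halt with h1 | ⟨_, h2⟩
    · have e : h₁ = (y₁ * y₂) * ((y₁ * y₂)⁻¹ * h₁) := by group
      rw [e]; exact P.mul_mem h12 (hAP h1)
    · have e : h₁ = ((y₁ * y₂) * (y₁ * y₂)) * (h₁⁻¹ * ((y₁ * y₂) * (y₁ * y₂)))⁻¹ := by group
      rw [e]; exact P.mul_mem (P.mul_mem h12 h12) (P.inv_mem (hAP h2))
  have hne : cj a Y ≠ cj b Y := by
    intro heq
    apply hcontra _ hY₁p le_sup_right
    rw [← heq] at hy₂
    exact Subgroup.mem_sup_left (Subgroup.mul_mem _ hy₁ hy₂)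
  have hgen := c.gen_of_ne ha hb hne
  have hn₁ : y₁ ∉ Subgroup.normalizer ((cj b Y : Subgroup G) : Set G) := by
    intro hn
    have hy₁A := Hα a ha b hb hgen y₁ hy₁ hn
    exact hcontra _ hY₂p le_sup_right
      (Subgroup.mul_mem _ (Subgroup.mem_sup_right hy₁A) (Subgroup.mem_sup_left hy₂))
  have hn₂ : y₂ ∉ Subgroup.normalizer ((cj a Y : Subgroup G) : Set G) := by
    intro hn
    have hy₂A := Hα b hb a ha (by rw [sup_comm]; exact hgen) y₂ hy₂ hn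
    exact hcontra _ hY₁p le_sup_right
      (Subgroup.mul_mem _ (Subgroup.mem_sup_left hy₁) (Subgroup.mem_sup_right hy₂A))
  rcases halt with h1 | ⟨h2c, h2⟩
  · apply c.core ha hb hgen hy₁ hy₂ hn₁ hn₂ hv
    have hA : (y₁ * y₂)⁻¹ * h₁ ∈ cen ({v} : Set G) (Y ⊓ Subgroup.centralizer (L : Set G)) :=
      ⟨c.L_norm_C (c.AL h1), fun t ht => by
        rw [Set.mem_singleton_iff.mp ht]; exact c.A_comm ha hb hgen h1 hv⟩
    have h3 : y₁ * y₂ ∈ cen ({v} : Set G) (Y ⊓ Subgroup.centralizer (L : Set G)) := by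
      have e : y₁ * y₂ = h₁ * ((y₁ * y₂)⁻¹ * h₁)⁻¹ := by group
      rw [e]; exact Subgroup.mul_mem _ hcen (Subgroup.inv_mem _ hA)
    exact h3.2 v rfl
  · exact c.core2 ha hb hgen hy₁ hy₂ hn₁ hn₂ hh₁L h2c h2 hv hfix₁

end LCtx

/-! ### the case `|Y : Y ∩ A| = 2` -/

/-- normal form in a group generated by two involutions -/
theorem dihedral_form {s t : G} (hs : s * s = 1) (ht : t * t = 1) {x : G}
    (hx : x ∈ Subgroup.closure ({s, t} : Set G)) :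
    ∃ i : ℤ, x = (s * t) ^ i ∨ x = (s * t) ^ i * s := by
  have hsi : s⁻¹ = s := inv_eq_of_mul_eq_one_right hs
  have hti : t⁻¹ = t := inv_eq_of_mul_eq_one_right ht
  have hconj : s * (s * t) * s⁻¹ = (s * t)⁻¹ := by
    rw [mul_inv_rev, hsi, hti, ← mul_assoc, hs, one_mul]
  have hz : ∀ i : ℤ, s * (s * t) ^ i = (s * t) ^ (-i) * s := by
    intro i
    have h1 : s * (s * t) ^ i * s⁻¹ = (s * t) ^ (-i) := by
      rw [← conj_zpow, hconj, inv_zpow, zpow_neg]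
    calc s * (s * t) ^ i = s * (s * t) ^ i * s⁻¹ * s := by group
      _ = (s * t) ^ (-i) * s := by rw [h1]
  induction hx using Subgroup.closure_induction with
  | mem x hx =>
    rcases hx with rfl | rfl
    · exact ⟨0, Or.inr (by simp)⟩
    · refine ⟨-1, Or.inr ?_⟩
      have h1 := hz 1
      rw [zpow_one] at h1
      rw [← h1, ← mul_assoc, hs, one_mul]
  | one => exact ⟨0, Or.inl (by simp)⟩
  | mul x y _ _ hx hy =>
    obtain ⟨i, rfl | rfl⟩ := hx <;> obtain ⟨j, rfl | rfl⟩ := hy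
    · exact ⟨i + j, Or.inl (by rw [zpow_add])⟩
    · exact ⟨i + j, Or.inr (by rw [zpow_add, mul_assoc])⟩
    · refine ⟨i - j, Or.inr ?_⟩
      rw [mul_assoc, hz j, ← mul_assoc, ← zpow_add, sub_eq_add_neg]
    · refine ⟨i - j, Or.inl ?_⟩
      rw [mul_assoc, ← mul_assoc s, hz j, mul_assoc ((s * t) ^ (-j)), hs, mul_one, ← zpow_add,
        sub_eq_add_neg]
  | inv x _ hx =>
    obtain ⟨i, rfl | rfl⟩ := hx
    · exact ⟨-i, Or.inl (by rw [zpow_neg])⟩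
    · refine ⟨i, Or.inr ?_⟩
      rw [mul_inv_rev, hsi, ← zpow_neg, hz (-i), neg_neg]

/-- reflections of a group generated by two involutions are conjugate to one of them -/
theorem refl_conj {s t : G} (hs : s * s = 1) (ht : t * t = 1) (i : ℤ) :
    ∃ c ∈ Subgroup.closure ({s, t} : Set G),
      (s * t) ^ i * s = c * s * c⁻¹ ∨ (s * t) ^ i * s = c * t * c⁻¹ := by
  have hsi : s⁻¹ = s := inv_eq_of_mul_eq_one_right hs
  have hti : t⁻¹ = t := inv_eq_of_mul_eq_one_right ht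
  have hsm : s ∈ Subgroup.closure ({s, t} : Set G) := Subgroup.subset_closure (by simp)
  have htm : t ∈ Subgroup.closure ({s, t} : Set G) := Subgroup.subset_closure (by simp)
  have hconj : s * (s * t) * s⁻¹ = (s * t)⁻¹ := by
    rw [mul_inv_rev, hsi, hti, ← mul_assoc, hs, one_mul]
  have hz : ∀ i : ℤ, s * (s * t) ^ i = (s * t) ^ (-i) * s := by
    intro i
    have h1 : s * (s * t) ^ i * s⁻¹ = (s * t) ^ (-i) := by
      rw [← conj_zpow, hconj, inv_zpow, zpow_neg]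
    calc s * (s * t) ^ i = s * (s * t) ^ i * s⁻¹ * s := by group
      _ = (s * t) ^ (-i) * s := by rw [h1]
  have hρm : ∀ j : ℤ, (s * t) ^ j ∈ Subgroup.closure ({s, t} : Set G) := fun j =>
    Subgroup.zpow_mem _ (Subgroup.mul_mem _ hsm htm) j
  rcases Int.even_or_odd' i with ⟨j, rfl | rfl⟩
  · refine ⟨(s * t) ^ j, hρm j, Or.inl ?_⟩
    rw [mul_assoc ((s * t) ^ j), ← zpow_neg, hz (-j), neg_neg, ← mul_assoc, ← zpow_add, two_mul]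
  · refine ⟨(s * t) ^ j * s, Subgroup.mul_mem _ (hρm j) hsm, Or.inr ?_⟩
    have e1 : (s * t) ^ j * s * t * ((s * t) ^ j * s)⁻¹ =
        (s * t) ^ j * (s * t) * (s⁻¹ * ((s * t) ^ j)⁻¹) := by
      rw [mul_inv_rev]; simp only [mul_assoc]
    rw [e1, hsi, ← zpow_neg, hz (-j), neg_neg, ← zpow_add_one, ← mul_assoc, ← zpow_add]
    congr 2
    ring

namespace LCtx

variable {p : ℕ} {Y A L : Subgroup G}

/-- `Hα` when `|Y : Y ∩ A| = 2` -/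
theorem alpha_two [Finite G] (c : LCtx p Y A L) {y₀ : G}
    (hidx : ∀ y ∈ Y, y ∈ A ∨ y₀⁻¹ * y ∈ A)
    {a b : G} (ha : a ∈ L) (hb : b ∈ L) (hgen : cj a Y ⊔ cj b Y = L) {y : G} (hy : y ∈ cj a Y)
    (hn : y ∈ Subgroup.normalizer ((cj b Y : Subgroup G) : Set G)) : y ∈ A := by
  by_contra hyA
  have ws := c.ws ha hb hgen
  have hY₂A : cj b Y ≤ Subgroup.normalizer (A : Set G) := ws.BL.trans c.LA
  have hp2 : IsPGroup p (cj b Y ⊔ A : Subgroup G) :=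
    (isPGroup_cj c.Yp b).to_sup_of_normal_right' c.Ap hY₂A
  have hyL : y ∈ L := ws.AL hy
  have hzp : IsPGroup p (Subgroup.zpowers y) :=
    (isPGroup_cj c.Yp a).to_le (Subgroup.zpowers_le.mpr hy)
  have hzn : Subgroup.zpowers y ≤ Subgroup.normalizer ((cj b Y ⊔ A : Subgroup G) : Set G) := by
    rw [Subgroup.zpowers_le]
    exact Cfsg.Agent.Lib.Helper47.FrakH.mem_normalizer_sup hn (c.LA hyL)
  have hP : IsPGroup p (Subgroup.zpowers y ⊔ (cj b Y ⊔ A) : Subgroup G) :=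
    hzp.to_sup_of_normal_right' hp2 hzn
  have hy' : a⁻¹ * y * a ∈ Y := mem_cj.mp hy
  have hy'A : y₀⁻¹ * (a⁻¹ * y * a) ∈ A := by
    rcases hidx _ hy' with h1 | h1
    · exfalso
      apply hyA
      have h2 := conj_mem_of_mem_normalizer (c.LA ha) h1
      have e : a * (a⁻¹ * y * a) * a⁻¹ = y := by group
      rwa [e] at h2
    · exact h1
  have h1 : cj a Y ≤ Subgroup.zpowers y ⊔ (cj b Y ⊔ A) := by
    intro x hx
    have hx' : a⁻¹ * x * a ∈ Y := mem_cj.mp hx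
    rcases hidx _ hx' with h2 | h2
    · have h3 := conj_mem_of_mem_normalizer (c.LA ha) h2
      have e : a * (a⁻¹ * x * a) * a⁻¹ = x := by group
      rw [e] at h3
      exact Subgroup.mem_sup_right (Subgroup.mem_sup_right h3)
    · have h3 : (y₀⁻¹ * (a⁻¹ * y * a))⁻¹ * (y₀⁻¹ * (a⁻¹ * x * a)) ∈ A :=
        A.mul_mem (A.inv_mem hy'A) h2
      have h4 := conj_mem_of_mem_normalizer (c.LA ha) h3
      have e : x = y * (a * ((y₀⁻¹ * (a⁻¹ * y * a))⁻¹ * (y₀⁻¹ * (a⁻¹ * x * a))) * a⁻¹) := by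
        group
      rw [e]
      exact Subgroup.mul_mem _ (Subgroup.mem_sup_left (Subgroup.mem_zpowers y))
        (Subgroup.mem_sup_right (Subgroup.mem_sup_right h4))
  have hLP : L ≤ Subgroup.zpowers y ⊔ (cj b Y ⊔ A) := by
    refine hgen.ge.trans (sup_le h1 (le_sup_left.trans le_sup_right))
  have hLA : L ≤ A := c.Amax L le_rfl Subgroup.le_normalizer (hP.to_le hLP)
  exact c.Blt.ne (inf_eq_left.mpr (hLA.trans c.AY))

/-- `HD` when `|Y : Y ∩ A| = 2` -/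
theorem dec_two [Finite G] [Fact p.Prime] (c : LCtx p Y A L) {y₀ : G} (hy₀ : y₀ ∈ Y)
    (hsq : y₀ * y₀ = 1) (hidx : ∀ y ∈ Y, y ∈ A ∨ y₀⁻¹ * y ∈ A)
    {h : G} (hh : h ∈ L) {r : ℕ} (hr : r.Prime) (hrp : r ≠ p) (ho : orderOf h = r) :
    ∃ a ∈ L, ∃ b ∈ L, ∃ y₁ ∈ cj a Y, ∃ y₂ ∈ cj b Y,
        (y₁ * y₂)⁻¹ * h ∈ A ∨
          ((∀ l ∈ L, h⁻¹ * (l⁻¹ * h * l) ∈ A) ∧ h⁻¹ * ((y₁ * y₂) * (y₁ * y₂)) ∈ A) := by
  obtain ⟨g, hgL, hgn⟩ := SetLike.exists_of_lt c.Blt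
  have hgN : g ∉ Subgroup.normalizer (Y : Set G) := fun hN => hgn ⟨hgL, hN⟩
  have hgen := c.gen_of_not_mem hgL hgN
  have hy₀L : y₀ ∈ L := c.YL hy₀
  have hsq' : (g * y₀ * g⁻¹) * (g * y₀ * g⁻¹) = 1 := by
    have e : (g * y₀ * g⁻¹) * (g * y₀ * g⁻¹) = g * (y₀ * y₀) * g⁻¹ := by group
    rw [e, hsq]; group
  have hsi : y₀⁻¹ = y₀ := inv_eq_of_mul_eq_one_right hsq
  -- `L = D₀ A`
  have hD₀L : Subgroup.closure ({y₀, g * y₀ * g⁻¹} : Set G) ≤ L := by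
    rw [Subgroup.closure_le]
    rintro x (rfl | rfl)
    · exact hy₀L
    · exact L.mul_mem (L.mul_mem hgL hy₀L) (L.inv_mem hgL)
  have hL : L ≤ Subgroup.closure ({y₀, g * y₀ * g⁻¹} : Set G) ⊔ A := by
    refine hgen.ge.trans (sup_le ?_ ?_)
    · intro y hy
      rcases hidx y hy with h1 | h1
      · exact Subgroup.mem_sup_right h1
      · have e : y = y₀ * (y₀⁻¹ * y) := by group
        rw [e]
        exact Subgroup.mul_mem _ (Subgroup.mem_sup_left (Subgroup.subset_closure (by simp)))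
          (Subgroup.mem_sup_right h1)
    · intro x hx
      have hx' : g⁻¹ * x * g ∈ Y := mem_cj.mp hx
      rcases hidx _ hx' with h1 | h1
      · have h2 := conj_mem_of_mem_normalizer (c.LA hgL) h1
        have e : g * (g⁻¹ * x * g) * g⁻¹ = x := by group
        rw [e] at h2
        exact Subgroup.mem_sup_right h2
      · have h2 := conj_mem_of_mem_normalizer (c.LA hgL) h1
        have e : x = (g * y₀ * g⁻¹) * (g * (y₀⁻¹ * (g⁻¹ * x * g)) * g⁻¹) := by group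
        rw [e]
        exact Subgroup.mul_mem _ (Subgroup.mem_sup_left (Subgroup.subset_closure (by simp)))
          (Subgroup.mem_sup_right h2)
  obtain ⟨d, hd, a₀, ha₀, rfl⟩ := exists_mul_of_mem_sup_left (hD₀L.trans c.LA) (hL hh)
  obtain ⟨i, hi⟩ := dihedral_form hsq hsq' hd
  -- reflections lie in conjugates of `Y`
  have hrefl : ∀ i : ℤ, ∃ cc ∈ L, (y₀ * (g * y₀ * g⁻¹)) ^ i * y₀ ∈ cj cc Y := by
    intro i
    obtain ⟨c', hc', h1 | h1⟩ := refl_conj hsq hsq' i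
    · refine ⟨c', hD₀L hc', ?_⟩
      rw [h1]; exact conj_mem_map_conj hy₀
    · refine ⟨c' * g, L.mul_mem (hD₀L hc') hgL, ?_⟩
      have e : c' * (g * y₀ * g⁻¹) * c'⁻¹ = (c' * g) * y₀ * (c' * g)⁻¹ := by group
      rw [h1, e]; exact conj_mem_map_conj hy₀
  rcases hi with rfl | rfl
  · -- `h = ρ^i a₀ = (ρ^i y₀) y₀ a₀`
    obtain ⟨cc, hcc, hu⟩ := hrefl i
    refine ⟨cc, hcc, 1, L.one_mem, _, hu, y₀, by rw [cj_one]; exact hy₀, Or.inl ?_⟩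
    have e : ((y₀ * (g * y₀ * g⁻¹)) ^ i * y₀ * y₀)⁻¹ * ((y₀ * (g * y₀ * g⁻¹)) ^ i * a₀) = a₀ := by
      rw [mul_assoc, hsq, mul_one]; group
    rw [e]; exact ha₀
  · -- `h = ρ^i y₀ a₀` lies in a `p`-group
    exfalso
    obtain ⟨cc, hcc, hu⟩ := hrefl i
    have hPp : IsPGroup p (cj cc Y ⊔ A : Subgroup G) :=
      (isPGroup_cj c.Yp cc).to_sup_of_normal_right' c.Ap ((cj_le_of_mem hcc c.YL).trans c.LA)
    exact not_mem_pgroup hPp hr hrp ho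
      (Subgroup.mul_mem _ (Subgroup.mem_sup_left hu) (Subgroup.mem_sup_right ha₀))

end LCtx

end Cfsg.Agent.Lib.Helper31.LFpf
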