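import Mathlib
import Cfsg.Prelude.Def_LocalStructure
import Cfsg.Agent.Lib.Helper31.LFpf

set_option autoImplicit false

/-!
# Lifting the structure of `L/O_p(L)` to `L ∈ 𝔏_G(Y)`

`ψ : L → X` a surjection with kernel `A = O_p(L)`; `img Y L ψ` is the image of `Y`.
`fpf_of_hom` reduces the fixed-point-freeness to two statements on `X`.
-/

namespace Cfsg.Agent.Lib.Helper31.LFpfQ

open Cfsg Cfsg.Agent.Lib.Helper47.Syl Cfsg.Agent.Lib.Helper31.LLemma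
open Cfsg.Agent.Lib.Helper31.AsymL Cfsg.Agent.Lib.Helper31.LFpf

variable {G : Type*} [Group G] {X : Type*} [Group X] {p : ℕ} {Y A L : Subgroup G}

/-- the image of `Y` in the quotient -/
def img (Y L : Subgroup G) (ψ : ↥L →* X) : Subgroup X := (Y.subgroupOf L).map ψ

theorem mem_img {ψ : ↥L →* X} {e : X} : e ∈ img Y L ψ ↔ ∃ y : ↥L, (y : G) ∈ Y ∧ ψ y = e := by
  unfold img
  rw [Subgroup.mem_map]
  constructor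
  · rintro ⟨y, hy, rfl⟩; exact ⟨y, Subgroup.mem_subgroupOf.mp hy, rfl⟩
  · rintro ⟨y, hy, rfl⟩; exact ⟨y, Subgroup.mem_subgroupOf.mpr hy, rfl⟩

theorem card_img (hYL : Y ≤ L) {ψ : ↥L →* X} (hker : ∀ l : ↥L, ψ l = 1 ↔ (l : G) ∈ A) :
    Nat.card (img Y L ψ) = (Y ⊓ A).relIndex Y := by
  have hk : ψ.ker = A.subgroupOf L := by
    ext l; rw [MonoidHom.mem_ker, hker, Subgroup.mem_subgroupOf]
  unfold img
  rw [← Subgroup.relIndex_ker, hk, Subgroup.relIndex_subgroupOf hYL, Subgroup.inf_relIndex_left]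

theorem isPGroup_img (hY : IsPGroup p Y) (ψ : ↥L →* X) : IsPGroup p (img Y L ψ) := by
  unfold img
  refine IsPGroup.map ?_ ψ
  exact hY.comap_subtype

/-- `ψ x = ψ y` iff `y⁻¹ x ∈ A` -/
theorem mem_of_psi_eq {ψ : ↥L →* X} (hker : ∀ l : ↥L, ψ l = 1 ↔ (l : G) ∈ A) {x y : ↥L}
    (h : ψ x = ψ y) : (y : G)⁻¹ * x ∈ A := by
  have h1 : ψ (y⁻¹ * x) = 1 := by rw [map_mul, map_inv, h, inv_mul_cancel]
  exact (hker _).mp h1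

/-- `Y ≰ A` -/
theorem LCtx_not_le [Finite G] (c : LCtx p Y A L) : ¬ Y ≤ A := by
  intro hYA
  have h1 : A = L := c.Yncl A hYA c.AL c.LA
  exact c.Blt.ne (inf_eq_left.mpr (h1.ge.trans c.AY))

/-- the Sylow property on `X` gives the one on `L` -/
theorem hS_of_XS {ψ : ↥L →* X} (hker : ∀ l : ↥L, ψ l = 1 ↔ (l : G) ∈ A)
    (XS : ∀ P : Subgroup X, IsPGroup p P → img Y L ψ ≤ P → P ≤ img Y L ψ) :
    ∀ P : Subgroup G, IsPGroup p P → Y ⊔ A ≤ P → P ≤ L → P = Y ⊔ A := by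
  intro P hP hYAP hPL
  refine le_antisymm ?_ hYAP
  have h1 : IsPGroup p ((P.subgroupOf L).map ψ) := IsPGroup.map hP.comap_subtype ψ
  have h2 : img Y L ψ ≤ (P.subgroupOf L).map ψ := by
    intro e he
    obtain ⟨y, hy, rfl⟩ := mem_img.mp he
    exact Subgroup.mem_map_of_mem ψ (Subgroup.mem_subgroupOf.mpr (hYAP (Subgroup.mem_sup_left hy)))
  have h3 := XS _ h1 h2
  intro x hx
  have hxL := hPL hx
  have h4 : ψ ⟨x, hxL⟩ ∈ img Y L ψ :=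
    h3 (Subgroup.mem_map_of_mem ψ (Subgroup.mem_subgroupOf.mpr hx))
  obtain ⟨y, hy, hyx⟩ := mem_img.mp h4
  have h5 : (y : G)⁻¹ * x ∈ A := mem_of_psi_eq hker (x := ⟨x, hxL⟩) hyx.symm
  have e : x = (y : G) * ((y : G)⁻¹ * x) := by group
  rw [e]
  exact Subgroup.mul_mem _ (Subgroup.mem_sup_left hy) (Subgroup.mem_sup_right h5)

/-- `Hα` from a statement on `X` -/
theorem alpha_of_XA [Finite G] (c : LCtx p Y A L) {ψ : ↥L →* X}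
    (hker : ∀ l : ↥L, ψ l = 1 ↔ (l : G) ∈ A)
    (XA : ∀ g₁ g₂ : X, ∀ e ∈ img Y L ψ,
      (∀ e' ∈ img Y L ψ, ∃ e'' ∈ img Y L ψ,
        (g₁ * e * g₁⁻¹) * (g₂ * e' * g₂⁻¹) * (g₁ * e * g₁⁻¹)⁻¹ = g₂ * e'' * g₂⁻¹) →
      e = 1 ∨ ∀ e' ∈ img Y L ψ, ∃ e'' ∈ img Y L ψ, g₁ * e' * g₁⁻¹ = g₂ * e'' * g₂⁻¹)
    {a b : G} (ha : a ∈ L) (hb : b ∈ L) (hgen : cj a Y ⊔ cj b Y = L) {y : G} (hy : y ∈ cj a Y)
    (hn : y ∈ Subgroup.normalizer ((cj b Y : Subgroup G) : Set G)) : y ∈ A := by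
  have hyL : y ∈ L := cj_le_of_mem ha c.YL hy
  have hy' : a⁻¹ * y * a ∈ Y := mem_cj.mp hy
  have hy'L : a⁻¹ * y * a ∈ L := c.YL hy'
  have he : ψ ⟨a⁻¹ * y * a, hy'L⟩ ∈ img Y L ψ := mem_img.mpr ⟨_, hy', rfl⟩
  have hu : ψ ⟨a, ha⟩ * ψ ⟨a⁻¹ * y * a, hy'L⟩ * (ψ ⟨a, ha⟩)⁻¹ = ψ ⟨y, hyL⟩ := by
    rw [← map_inv, ← map_mul, ← map_mul]
    congr 1
    apply Subtype.ext
    show a * (a⁻¹ * y * a) * a⁻¹ = y
    group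
  have hnorm : ∀ e' ∈ img Y L ψ, ∃ e'' ∈ img Y L ψ,
      (ψ ⟨a, ha⟩ * ψ ⟨a⁻¹ * y * a, hy'L⟩ * (ψ ⟨a, ha⟩)⁻¹) * (ψ ⟨b, hb⟩ * e' * (ψ ⟨b, hb⟩)⁻¹) *
        (ψ ⟨a, ha⟩ * ψ ⟨a⁻¹ * y * a, hy'L⟩ * (ψ ⟨a, ha⟩)⁻¹)⁻¹ = ψ ⟨b, hb⟩ * e'' * (ψ ⟨b, hb⟩)⁻¹ := by
    intro e' he'
    obtain ⟨y', hy'Y, rfl⟩ := mem_img.mp he'
    have h2 : y * (b * (y' : G) * b⁻¹) * y⁻¹ ∈ cj b Y :=
      conj_mem_of_mem_normalizer hn (conj_mem_map_conj hy'Y)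
    have h3 : b⁻¹ * (y * (b * (y' : G) * b⁻¹) * y⁻¹) * b ∈ Y := mem_cj.mp h2
    refine ⟨ψ ⟨_, c.YL h3⟩, mem_img.mpr ⟨_, h3, rfl⟩, ?_⟩
    rw [hu, ← map_inv, ← map_inv, ← map_mul, ← map_mul, ← map_mul, ← map_mul, ← map_mul,
      ← map_mul]
    congr 1
    apply Subtype.ext
    show y * (b * (y' : G) * b⁻¹) * y⁻¹ = b * (b⁻¹ * (y * (b * (y' : G) * b⁻¹) * y⁻¹) * b) * b⁻¹
    group
  rcases XA (ψ ⟨a, ha⟩) (ψ ⟨b, hb⟩) _ he hnorm with h1 | h1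
  · have h2 : a⁻¹ * y * a ∈ A := (hker _).mp h1
    have h3 := conj_mem_of_mem_normalizer (c.LA ha) h2
    have e : a * (a⁻¹ * y * a) * a⁻¹ = y := by group
    rwa [e] at h3
  · exfalso
    have h2 : cj a Y ≤ cj b Y ⊔ A := by
      intro x hx
      have hx' : a⁻¹ * x * a ∈ Y := mem_cj.mp hx
      have hxL : x ∈ L := cj_le_of_mem ha c.YL hx
      obtain ⟨e'', he'', h3⟩ := h1 (ψ ⟨a⁻¹ * x * a, c.YL hx'⟩) (mem_img.mpr ⟨_, hx', rfl⟩)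
      obtain ⟨y'', hy'', rfl⟩ := mem_img.mp he''
      have h4 : ψ ⟨x, hxL⟩ = ψ (⟨b, hb⟩ * y'' * ⟨b, hb⟩⁻¹) := by
        rw [map_mul, map_mul, map_inv, ← h3, ← map_inv, ← map_mul, ← map_mul]
        congr 1
        apply Subtype.ext
        show x = a * (a⁻¹ * x * a) * a⁻¹
        group
      have h5 : (b * (y'' : G) * b⁻¹)⁻¹ * x ∈ A :=
        mem_of_psi_eq hker (x := ⟨x, hxL⟩) (y := ⟨b, hb⟩ * y'' * ⟨b, hb⟩⁻¹) h4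
      have e : x = (b * (y'' : G) * b⁻¹) * ((b * (y'' : G) * b⁻¹)⁻¹ * x) := by group
      rw [e]
      exact Subgroup.mul_mem _ (Subgroup.mem_sup_left (conj_mem_map_conj hy''))
        (Subgroup.mem_sup_right h5)
    have hp2 : IsPGroup p (cj b Y ⊔ A : Subgroup G) :=
      (isPGroup_cj c.Yp b).to_sup_of_normal_right' c.Ap ((cj_le_of_mem hb c.YL).trans c.LA)
    have hLP : L ≤ cj b Y ⊔ A := hgen.ge.trans (sup_le h2 le_sup_left)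
    have hLA : L ≤ A := c.Amax L le_rfl Subgroup.le_normalizer (hp2.to_le hLP)
    exact c.Blt.ne (inf_eq_left.mpr (hLA.trans c.AY))

/-- `HD` from a statement on `X` -/
theorem dec_of_XD [Finite G] [Fact p.Prime] (c : LCtx p Y A L) {ψ : ↥L →* X}
    (hsurj : Function.Surjective ψ) (hker : ∀ l : ↥L, ψ l = 1 ↔ (l : G) ∈ A)
    (XD : ∀ x : X, ∀ r : ℕ, r.Prime → r ≠ p → orderOf x = r →
      ∃ g₁ g₂ : X, ∃ e₁ ∈ img Y L ψ, ∃ e₂ ∈ img Y L ψ,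
        x = (g₁ * e₁ * g₁⁻¹) * (g₂ * e₂ * g₂⁻¹) ∨
          ((∀ z : X, z * x = x * z) ∧
            x = ((g₁ * e₁ * g₁⁻¹) * (g₂ * e₂ * g₂⁻¹)) * ((g₁ * e₁ * g₁⁻¹) * (g₂ * e₂ * g₂⁻¹))))
    {h : G} (hh : h ∈ L) {r : ℕ} (hr : r.Prime) (hrp : r ≠ p) (ho : orderOf h = r) :
    ∃ a ∈ L, ∃ b ∈ L, ∃ y₁ ∈ cj a Y, ∃ y₂ ∈ cj b Y,
        (y₁ * y₂)⁻¹ * h ∈ A ∨
          ((∀ l ∈ L, h⁻¹ * (l⁻¹ * h * l) ∈ A) ∧ h⁻¹ * ((y₁ * y₂) * (y₁ * y₂)) ∈ A) := by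
  have : Fact r.Prime := ⟨hr⟩
  have hx1 : ψ ⟨h, hh⟩ ≠ 1 := by
    intro h1
    exact LCtx.not_mem_pgroup c.Ap hr hrp ho ((hker _).mp h1)
  have hxr : ψ ⟨h, hh⟩ ^ r = 1 := by
    rw [← map_pow]
    have : (⟨h, hh⟩ : ↥L) ^ r = 1 := by
      apply Subtype.ext
      show h ^ r = 1
      rw [← ho]; exact pow_orderOf_eq_one h
    rw [this, map_one]
  have hox : orderOf (ψ ⟨h, hh⟩) = r := orderOf_eq_prime hxr hx1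
  obtain ⟨g₁, g₂, e₁, he₁, e₂, he₂, halt⟩ := XD _ r hr hrp hox
  obtain ⟨a, rfl⟩ := hsurj g₁
  obtain ⟨b, rfl⟩ := hsurj g₂
  obtain ⟨y₁, hy₁, rfl⟩ := mem_img.mp he₁
  obtain ⟨y₂, hy₂, rfl⟩ := mem_img.mp he₂
  have hψ : ψ a * ψ y₁ * (ψ a)⁻¹ * (ψ b * ψ y₂ * (ψ b)⁻¹) =
      ψ ((a * y₁ * a⁻¹) * (b * y₂ * b⁻¹)) := by
    simp only [map_mul, map_inv]
  rw [hψ] at halt
  refine ⟨a, a.2, b, b.2, (a : G) * y₁ * (a : G)⁻¹, conj_mem_map_conj hy₁,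
    (b : G) * y₂ * (b : G)⁻¹, conj_mem_map_conj hy₂, ?_⟩
  rcases halt with h1 | ⟨h2c, h2⟩
  · left
    exact mem_of_psi_eq hker (x := ⟨h, hh⟩) (y := (a * y₁ * a⁻¹) * (b * y₂ * b⁻¹)) h1
  · right
    constructor
    · intro l hl
      have h3 : ψ (⟨l, hl⟩⁻¹ * ⟨h, hh⟩ * ⟨l, hl⟩) = ψ ⟨h, hh⟩ := by
        rw [map_mul, map_mul, map_inv, mul_assoc, ← h2c, ← mul_assoc, inv_mul_cancel, one_mul]
      exact mem_of_psi_eq hker (x := ⟨l, hl⟩⁻¹ * ⟨h, hh⟩ * ⟨l, hl⟩) (y := ⟨h, hh⟩) h3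
    · have h3 : ψ (((a * y₁ * a⁻¹) * (b * y₂ * b⁻¹)) * ((a * y₁ * a⁻¹) * (b * y₂ * b⁻¹))) =
          ψ ⟨h, hh⟩ := by
        rw [h2, map_mul]
      exact mem_of_psi_eq hker
        (x := ((a * y₁ * a⁻¹) * (b * y₂ * b⁻¹)) * ((a * y₁ * a⁻¹) * (b * y₂ * b⁻¹)))
        (y := ⟨h, hh⟩) h3

/-- the case of index `2`, `p = 2` -/
theorem fpf_two [Finite G] [Fact p.Prime] (c : LCtx p Y A L) (hp2 : p = 2)
    (hexp : ∀ y ∈ Y, y ^ p = 1) (hidx : (Y ⊓ A).relIndex Y = 2)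
    {h : G} (hh : h ∈ L) (hnp : ¬ ∃ k : ℕ, orderOf h = p ^ k) {v : G} (hv : v ∈ A)
    (hfix : h * v * h⁻¹ * v⁻¹ ∈ Y ⊓ Subgroup.centralizer (L : Set G)) :
    v ∈ Y ⊓ Subgroup.centralizer (L : Set G) := by
  rw [Subgroup.inf_relIndex_left, Subgroup.relIndex_eq_two_iff] at hidx
  obtain ⟨y₀, hy₀, hx⟩ := hidx
  have hsq : y₀ * y₀ = 1 := by
    have := hexp y₀ hy₀
    rwa [hp2, pow_two] at this
  have hidx' : ∀ y ∈ Y, y ∈ A ∨ y₀⁻¹ * y ∈ A := by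
    intro y hy
    rcases hx y⁻¹ (Y.inv_mem hy) with ⟨h1, _⟩ | ⟨h1, _⟩
    · right
      have e : y₀⁻¹ * y = (y⁻¹ * y₀)⁻¹ := by group
      rw [e]; exact A.inv_mem h1
    · left
      have := A.inv_mem h1
      rwa [inv_inv] at this
  exact c.fpf (fun a ha b hb hgen y hy hn => c.alpha_two hidx' ha hb hgen hy hn)
    (fun h hh r hr hrp ho => c.dec_two hy₀ hsq hidx' hh hr hrp ho) hh hnp hv hfix

/-- the general reduction -/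
theorem fpf_of_hom [Finite G] [Fact p.Prime] (c : LCtx p Y A L) {ψ : ↥L →* X}
    (hsurj : Function.Surjective ψ) (hker : ∀ l : ↥L, ψ l = 1 ↔ (l : G) ∈ A)
    (XA : (∀ P : Subgroup X, IsPGroup p P → img Y L ψ ≤ P → P ≤ img Y L ψ) ∨
      ∀ g₁ g₂ : X, ∀ e ∈ img Y L ψ,
      (∀ e' ∈ img Y L ψ, ∃ e'' ∈ img Y L ψ,
        (g₁ * e * g₁⁻¹) * (g₂ * e' * g₂⁻¹) * (g₁ * e * g₁⁻¹)⁻¹ = g₂ * e'' * g₂⁻¹) →
      e = 1 ∨ ∀ e' ∈ img Y L ψ, ∃ e'' ∈ img Y L ψ, g₁ * e' * g₁⁻¹ = g₂ * e'' * g₂⁻¹)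
    (XD : ∀ x : X, ∀ r : ℕ, r.Prime → r ≠ p → orderOf x = r →
      ∃ g₁ g₂ : X, ∃ e₁ ∈ img Y L ψ, ∃ e₂ ∈ img Y L ψ,
        x = (g₁ * e₁ * g₁⁻¹) * (g₂ * e₂ * g₂⁻¹) ∨
          ((∀ z : X, z * x = x * z) ∧
            x = ((g₁ * e₁ * g₁⁻¹) * (g₂ * e₂ * g₂⁻¹)) * ((g₁ * e₁ * g₁⁻¹) * (g₂ * e₂ * g₂⁻¹))))
    {h : G} (hh : h ∈ L) (hnp : ¬ ∃ k : ℕ, orderOf h = p ^ k) {v : G} (hv : v ∈ A)
    (hfix : h * v * h⁻¹ * v⁻¹ ∈ Y ⊓ Subgroup.centralizer (L : Set G)) :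
    v ∈ Y ⊓ Subgroup.centralizer (L : Set G) := by
  refine c.fpf ?_ (fun h hh r hr hrp ho => dec_of_XD c hsurj hker XD hh hr hrp ho) hh hnp hv hfix
  intro a ha b hb hgen y hy hn
  rcases XA with XS | XA
  · exact c.alpha_of_syl (hS_of_XS hker XS) ha hb hgen hy hn
  · exact alpha_of_XA c hker XA ha hb hgen hy hn

end Cfsg.Agent.Lib.Helper31.LFpfQ
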