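import Mathlib
import Cfsg.Agent.Lib.Helper38.SLCard
import Cfsg.Agent.Lib.Helper43.SL2Mat
import Cfsg.Agent.Lib.Helper35.SL2
import Cfsg.Agent.Lib.Helper47.Syl

set_option autoImplicit false

/-!
# `SL₂(q)`: Sylow `p`-subgroups and products of two unipotent elements
-/

namespace Cfsg.Agent.Lib.Helper31.LFpfSL

open Matrix Cfsg.Agent.Lib.Helper43.SL2Mat Cfsg.Agent.Lib.Helper47.Syl

theorem one_add_pow_of_sq_zero {R : Type*} [Ring R] {N : R} (hN : N * N = 0) (n : ℕ) :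
    (1 + N) ^ n = 1 + n • N := by
  induction n with
  | zero => simp
  | succ k ih =>
    rw [pow_succ, ih, mul_add, mul_one, add_mul, one_mul, smul_mul_assoc, hN, smul_zero, add_zero,
      succ_nsmul, add_assoc]

variable {F : Type*} [Field F]

/-- an element of `SL₂` of trace `2` has order dividing the characteristic -/
theorem pow_char_of_trace {p : ℕ} [CharP F p] (u : Matrix.SpecialLinearGroup (Fin 2) F)
    (htr : u 0 0 + u 1 1 = 2) : u ^ p = 1 := by
  have hsq := Cfsg.Agent.Lib.Helper35.SL2.sq_eq (u : Matrix (Fin 2) (Fin 2) F) u.2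
  have htr' : (u : Matrix (Fin 2) (Fin 2) F).trace = 2 := by
    rw [Matrix.trace_fin_two]; exact htr
  rw [htr'] at hsq
  have hN : ((u : Matrix (Fin 2) (Fin 2) F) - 1) * ((u : Matrix (Fin 2) (Fin 2) F) - 1) = 0 := by
    rw [sub_mul, mul_sub, mul_sub, one_mul, mul_one, mul_one, hsq, two_smul]
    abel
  have h1 := one_add_pow_of_sq_zero hN p
  have h2 : (1 : Matrix (Fin 2) (Fin 2) F) + ((u : Matrix (Fin 2) (Fin 2) F) - 1) = u := by abel
  rw [h2] at h1
  have h3 : p • ((u : Matrix (Fin 2) (Fin 2) F) - 1) = 0 := by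
    rw [nsmul_eq_mul, CharP.cast_eq_zero, zero_mul]
  rw [h3, add_zero] at h1
  apply Subtype.ext
  rw [Matrix.SpecialLinearGroup.coe_pow, h1]
  rfl

/-- a non-scalar element of `SL₂(F)` is a product of two elements of trace `2` -/
theorem exists_trace_two (x : Matrix.SpecialLinearGroup (Fin 2) F)
    (hx : ¬ (x 0 1 = 0 ∧ x 1 0 = 0 ∧ x 0 0 = x 1 1)) :
    ∃ u₁ u₂ : Matrix.SpecialLinearGroup (Fin 2) F,
      u₁ 0 0 + u₁ 1 1 = 2 ∧ u₂ 0 0 + u₂ 1 1 = 2 ∧ x = u₁ * u₂ := by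
  by_cases hb : x 0 1 = 0
  · by_cases hc : x 1 0 = 0
    · have had : x 0 0 - x 1 1 ≠ 0 := fun h => hx ⟨hb, hc, sub_eq_zero.mp h⟩
      have hdet : ∀ l : F, (1 + l) * (1 - l) - (-l) * l = 1 := fun l => by ring
      refine ⟨mk2 (1 + (x 0 0 + x 1 1 - 2) / (x 0 0 - x 1 1))
          (-((x 0 0 + x 1 1 - 2) / (x 0 0 - x 1 1))) ((x 0 0 + x 1 1 - 2) / (x 0 0 - x 1 1))
          (1 - (x 0 0 + x 1 1 - 2) / (x 0 0 - x 1 1)) (hdet _),
        (mk2 (1 + (x 0 0 + x 1 1 - 2) / (x 0 0 - x 1 1))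
          (-((x 0 0 + x 1 1 - 2) / (x 0 0 - x 1 1))) ((x 0 0 + x 1 1 - 2) / (x 0 0 - x 1 1))
          (1 - (x 0 0 + x 1 1 - 2) / (x 0 0 - x 1 1)) (hdet _))⁻¹ * x, ?_, ?_, ?_⟩
      · simp only [mk2_00, mk2_11]; ring
      · simp only [mul_00, mul_11, inv_00, inv_01, inv_10, inv_11, mk2_00, mk2_01, mk2_10, mk2_11,
          hb, hc]
        field_simp
        ring
      · group
    · refine ⟨uu ((x 0 0 + x 1 1 - 2) / x 1 0), (uu ((x 0 0 + x 1 1 - 2) / x 1 0))⁻¹ * x,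
        ?_, ?_, ?_⟩
      · simp only [uu_00, uu_11]; norm_num
      · simp only [mul_00, mul_11, inv_00, inv_01, inv_10, inv_11, uu_00, uu_01, uu_10, uu_11]
        field_simp
        ring
      · group
  · refine ⟨vv ((x 0 0 + x 1 1 - 2) / x 0 1), (vv ((x 0 0 + x 1 1 - 2) / x 0 1))⁻¹ * x,
      ?_, ?_, ?_⟩
    · simp only [vv_00, vv_11]; norm_num
    · simp only [mul_00, mul_11, inv_00, inv_01, inv_10, inv_11, vv_00, vv_01, vv_10, vv_11]
      field_simp
      ring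
    · group

/-- a scalar element of `SL₂(F)` is central and is `1` or the square of a product of two
unipotent elements -/
theorem scalar_case (x : Matrix.SpecialLinearGroup (Fin 2) F)
    (hx : x 0 1 = 0 ∧ x 1 0 = 0 ∧ x 0 0 = x 1 1) :
    (∀ z : Matrix.SpecialLinearGroup (Fin 2) F, z * x = x * z) ∧
      (x = 1 ∨ x = (uu 1 * vv (-2)) * (uu 1 * vv (-2))) := by
  obtain ⟨hb, hc, had⟩ := hx
  constructor
  · intro z
    apply ext2 <;> simp only [mul_00, mul_01, mul_10, mul_11, hb, hc, had] <;> ring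
  · have hdet := det_eq x
    rw [hb, zero_mul, sub_zero, ← had] at hdet
    have h1 : (x 0 0 - 1) * (x 0 0 + 1) = 0 := by linear_combination hdet
    rcases mul_eq_zero.mp h1 with h2 | h2
    · left
      have h3 : x 0 0 = 1 := sub_eq_zero.mp h2
      apply ext2
      · rw [h3, one_00]
      · rw [hb, one_01]
      · rw [hc, one_10]
      · rw [← had, h3, one_11]
    · right
      have h3 : x 0 0 = -1 := eq_neg_of_add_eq_zero_left h2
      apply ext2
      · rw [h3]; simp only [mul_00, mul_01, mul_10, mul_11, uu_00, uu_01, uu_10, uu_11, vv_00,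
          vv_01, vv_10, vv_11]; ring
      · rw [hb]; simp only [mul_00, mul_01, mul_10, mul_11, uu_00, uu_01, uu_10, uu_11, vv_00,
          vv_01, vv_10, vv_11]; ring
      · rw [hc]; simp only [mul_00, mul_01, mul_10, mul_11, uu_00, uu_01, uu_10, uu_11, vv_00,
          vv_01, vv_10, vv_11]; ring
      · rw [← had, h3]; simp only [mul_00, mul_01, mul_10, mul_11, uu_00, uu_01, uu_10, uu_11,
          vv_00, vv_01, vv_10, vv_11]; ring

/-- the characteristic from the order -/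
theorem charP_of_card [Fintype F] {p n : ℕ} [Fact p.Prime] (hq : Fintype.card F = p ^ n) :
    CharP F p := by
  rw [CharP.charP_iff_prime_eq_zero Fact.out]
  have h1 := FiniteField.cast_card_eq_zero F
  rw [hq, Nat.cast_pow] at h1
  exact pow_eq_zero_iff (n := n) (by
    rintro rfl
    rw [pow_zero] at hq
    exact absurd hq (Fintype.one_lt_card).ne') |>.mp h1

/-- a subgroup of order `q` of `SL₂(q)` is a maximal `p`-subgroup -/
theorem XS_SL [Fintype F] {p : ℕ} [Fact p.Prime] [CharP F p]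
    {E : Subgroup (Matrix.SpecialLinearGroup (Fin 2) F)} (hE : Nat.card E = Fintype.card F)
    (P : Subgroup (Matrix.SpecialLinearGroup (Fin 2) F)) (hP : IsPGroup p P) (hEP : E ≤ P) :
    P ≤ E := by
  obtain ⟨n, hn⟩ := IsPGroup.iff_card.mp hP
  obtain ⟨k, hk, hq⟩ := FiniteField.card F p
  have hdvd : Nat.card P ∣ Fintype.card F * (Fintype.card F ^ 2 - 1) := by
    rw [← Cfsg.Agent.Lib.Helper38.SLCard.card_SL2]; exact Subgroup.card_subgroup_dvd_card P
  have hcop : (Nat.card P).Coprime (Fintype.card F ^ 2 - 1) := by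
    rw [hn]
    apply Nat.Coprime.pow_left
    rw [Nat.Prime.coprime_iff_not_dvd hk]
    intro hd
    have h1 : p ∣ Fintype.card F ^ 2 := by
      rw [hq]; exact dvd_pow (dvd_pow_self p k.ne_zero) two_ne_zero
    have h2 : 1 ≤ Fintype.card F ^ 2 := Nat.one_le_pow _ _ Fintype.card_pos
    have h3 : p ∣ 1 := by
      have := Nat.dvd_sub h1 hd
      rwa [Nat.sub_sub_self h2] at this
    exact hk.one_lt.ne' (Nat.dvd_one.mp h3)
  have h4 : Nat.card P ∣ Fintype.card F := hcop.dvd_of_dvd_mul_right hdvd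
  have h5 : Nat.card P ≤ Nat.card E := by rw [hE]; exact Nat.le_of_dvd Fintype.card_pos h4
  exact (Subgroup.eq_of_le_of_card_ge hEP h5).ge

/-- in a finite group, an element of order dividing `p` lies in a conjugate of a maximal
`p`-subgroup -/
theorem exists_conj_of_maximal {X : Type*} [Group X] [Finite X] {p : ℕ} [Fact p.Prime]
    {E : Subgroup X} (hEp : IsPGroup p E)
    (XS : ∀ P : Subgroup X, IsPGroup p P → E ≤ P → P ≤ E) {u : X} (hu : u ^ p = 1) :
    ∃ g : X, ∃ e ∈ E, u = g * e * g⁻¹ := by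
  have hT : IsSyl p E ⊤ := ⟨le_top, hEp, fun Q hQ hEQ _ => le_antisymm (XS Q hQ hEQ) hEQ⟩
  have hz : IsPGroup p (Subgroup.zpowers u) := by
    rintro ⟨g, hg⟩
    obtain ⟨i, rfl⟩ := Subgroup.mem_zpowers_iff.1 hg
    refine ⟨1, Subtype.ext ?_⟩
    show (u ^ i) ^ (p ^ 1) = 1
    rw [pow_one, ← zpow_natCast, ← _root_.zpow_mul, mul_comm, _root_.zpow_mul, zpow_natCast, hu, _root_.one_zpow]
  obtain ⟨g, -, hg⟩ := hT.exists_conj_ge hz le_top
  have h1 := hg (Subgroup.mem_zpowers u)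
  rw [mem_map_conj] at h1
  exact ⟨g, _, h1, by group⟩

/-- the decomposition statement for `SL₂(q)` -/
theorem XD_SL [Fintype F] {p : ℕ} [Fact p.Prime] [CharP F p]
    {E : Subgroup (Matrix.SpecialLinearGroup (Fin 2) F)} (hE : Nat.card E = Fintype.card F)
    (hEp : IsPGroup p E) (x : Matrix.SpecialLinearGroup (Fin 2) F) (hx1 : x ≠ 1) :
    ∃ g₁ g₂ : Matrix.SpecialLinearGroup (Fin 2) F, ∃ e₁ ∈ E, ∃ e₂ ∈ E,
        x = (g₁ * e₁ * g₁⁻¹) * (g₂ * e₂ * g₂⁻¹) ∨
          ((∀ z : Matrix.SpecialLinearGroup (Fin 2) F, z * x = x * z) ∧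
            x = ((g₁ * e₁ * g₁⁻¹) * (g₂ * e₂ * g₂⁻¹)) * ((g₁ * e₁ * g₁⁻¹) * (g₂ * e₂ * g₂⁻¹))) := by
  have XS := XS_SL (p := p) hE
  by_cases hsc : x 0 1 = 0 ∧ x 1 0 = 0 ∧ x 0 0 = x 1 1
  · obtain ⟨hc, h1 | h1⟩ := scalar_case x hsc
    · exact absurd h1 hx1
    · obtain ⟨g₁, e₁, he₁, h₁⟩ := exists_conj_of_maximal hEp XS
        (pow_char_of_trace (p := p) (uu (1 : F)) (by simp only [uu_00, uu_11]; norm_num))
      obtain ⟨g₂, e₂, he₂, h₂⟩ := exists_conj_of_maximal hEp XS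
        (pow_char_of_trace (p := p) (vv (-2 : F)) (by simp only [vv_00, vv_11]; norm_num))
      refine ⟨g₁, g₂, e₁, he₁, e₂, he₂, Or.inr ⟨hc, ?_⟩⟩
      rw [← h₁, ← h₂]; exact h1
  · obtain ⟨u₁, u₂, ht₁, ht₂, hx⟩ := exists_trace_two x hsc
    obtain ⟨g₁, e₁, he₁, h₁⟩ := exists_conj_of_maximal hEp XS (pow_char_of_trace (p := p) u₁ ht₁)
    obtain ⟨g₂, e₂, he₂, h₂⟩ := exists_conj_of_maximal hEp XS (pow_char_of_trace (p := p) u₂ ht₂)
    refine ⟨g₁, g₂, e₁, he₁, e₂, he₂, Or.inl ?_⟩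
    rw [← h₁, ← h₂]; exact hx

end Cfsg.Agent.Lib.Helper31.LFpfSL
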