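import Mathlib
import Cfsg.Agent.Lib.Helper65.SzReal

set_option autoImplicit false

/-!
# `Sz(q)`: elementary abelian subgroups of order `q` and products of two involutions
-/

namespace Cfsg.Agent.Lib.Helper31.LFpfSz

open Cfsg.Agent.Lib.Helper6.Sz0 Cfsg.Agent.Lib.Helper6.Sz1 Cfsg.Agent.Lib.Helper6.Sz2
  Cfsg.Agent.Lib.Helper6.Sz3 Cfsg.Agent.Lib.Helper6.Sz4 Cfsg.Agent.Lib.Helper6.Sz5
  Cfsg.Agent.Lib.Helper6.Sz6 Cfsg.Agent.Lib.Helper6.Sz7 Cfsg.Agent.Lib.Helper6.Sz8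
  Cfsg.Agent.Lib.Helper6.Sz9 Cfsg.Agent.Lib.Helper6.Sz10 Cfsg.Agent.Lib.Helper6.Sz11
  Cfsg.Agent.Lib.Helper6.Sz12 Cfsg.Agent.Lib.Helper6.Sz13 Cfsg.Agent.Lib.Helper6.Sz14
  Cfsg.Agent.Lib.Helper6.Sz15 Cfsg.Agent.Lib.Helper6.Sz16 Cfsg.Agent.Lib.Helper6.Sz17
  Cfsg.Agent.Lib.Helper6.Sz18 Cfsg.Agent.Lib.Helper6.Sz19
  Cfsg.Agent.Lib.Helper65.SzFix Cfsg.Agent.Lib.Helper65.SzSubA Cfsg.Agent.Lib.Helper65.SzSubB
  Cfsg.Agent.Lib.Helper65.SzReal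

variable {F : Type*} [Field F] [Fintype F] {m : ℕ}

/-- an element of odd prime order is inverted by an involution -/
theorem exists_inverting' (hm : 1 ≤ m) (hF : Fintype.card F = 2 ^ (2 * m + 1)) {r : ℕ}
    (hr : r.Prime) (hr2 : r ≠ 2) {x : ↥(Cfsg.Sz F m)} (hx : orderOf x = r) :
    ∃ s : ↥(Cfsg.Sz F m), s ≠ 1 ∧ s * s = 1 ∧ s * x * s⁻¹ = x⁻¹ := by
  have hx1 : x ≠ 1 := by
    rintro rfl
    rw [orderOf_one] at hx
    exact hr.one_lt.ne hx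
  by_cases hfp : Fpf x
  · have h1 := Fpf.card_dvd hm hF hfp
    have h2 : orderOf x ∣ Nat.card (Subgroup.centralizer ({x} : Set (Cfsg.Sz F m))) :=
      Subgroup.orderOf_dvd_natCard _ (Subgroup.mem_centralizer_iff.mpr
        (fun z hz => by rw [Set.mem_singleton_iff.mp hz]))
    exact exists_inverting hm hF hr hr2 (hx ▸ h2.trans h1) hx
  · unfold Fpf at hfp
    push Not at hfp
    obtain ⟨a, ha⟩ := hfp
    obtain ⟨t, -, h | h⟩ := conj_cases hm hF hx1 a ha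
    · exfalso
      obtain ⟨c, d, -, e⟩ := h
      have h4 : x ^ 4 = 1 := by
        have hxe : x = t * uS hF c d * t⁻¹ := by rw [← e]; group
        rw [hxe, conj_pow, uS_pow_four]; group
      have h5 : r ∣ 4 := hx ▸ orderOf_dvd_of_pow_eq_one h4
      have h6 : r ∣ 2 := by
        have h7 : r ∣ 2 ^ 2 := by norm_num; exact h5
        exact hr.dvd_of_dvd_pow h7
      exact hr2 ((Nat.prime_dvd_prime_iff_eq hr Nat.prime_two).mp h6)
    · obtain ⟨k, -, e⟩ := h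
      have hxe : x = t * hS hF k * t⁻¹ := by rw [← e]; group
      refine ⟨t * wS hF * t⁻¹, ?_, ?_, ?_⟩
      · intro h1
        have h2 : wS (m := m) hF = 1 := by
          have h3 : wS (m := m) hF = t⁻¹ * (t * wS hF * t⁻¹) * t := by group
          rw [h3, h1]; group
        have h3 := wS_ainf (m := m) hF
        rw [h2, one_smul] at h3
        exact apt_ne_ainf m (0 : F) 0 h3.symm
      · calc t * wS hF * t⁻¹ * (t * wS hF * t⁻¹) = t * (wS hF * wS hF) * t⁻¹ := by group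
          _ = 1 := by rw [wS_mul_self]; group
      · rw [hxe]
        have h1 : wS (m := m) hF * hS hF k * (wS hF)⁻¹ = (hS hF k)⁻¹ := by
          have h2 := hS_mul_wS (m := m) hF k⁻¹
          rw [inv_inv] at h2
          rw [wS_inv, ← h2, mul_assoc, wS_mul_self, mul_one, hS_inv]
        calc t * wS hF * t⁻¹ * (t * hS hF k * t⁻¹) * (t * wS hF * t⁻¹)⁻¹
            = t * (wS hF * hS hF k * (wS hF)⁻¹) * t⁻¹ := by group
          _ = (t * hS hF k * t⁻¹)⁻¹ := by rw [h1]; group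

/-- the decomposition statement for `Sz(q)` -/
theorem XD_Sz (hm : 1 ≤ m) (hF : Fintype.card F = 2 ^ (2 * m + 1))
    {E : Subgroup ↥(Cfsg.Sz F m)} {e₀ : ↥(Cfsg.Sz F m)} (he₀ : e₀ ∈ E) (he₀1 : e₀ ≠ 1)
    (he₀2 : e₀ * e₀ = 1) (x : ↥(Cfsg.Sz F m)) (r : ℕ) (hr : r.Prime) (hr2 : r ≠ 2)
    (hx : orderOf x = r) :
    ∃ g₁ g₂ : ↥(Cfsg.Sz F m), ∃ e₁ ∈ E, ∃ e₂ ∈ E,
        x = (g₁ * e₁ * g₁⁻¹) * (g₂ * e₂ * g₂⁻¹) ∨
          ((∀ z : ↥(Cfsg.Sz F m), z * x = x * z) ∧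
            x = ((g₁ * e₁ * g₁⁻¹) * (g₂ * e₂ * g₂⁻¹)) * ((g₁ * e₁ * g₁⁻¹) * (g₂ * e₂ * g₂⁻¹))) := by
  obtain ⟨s, hs1, hs2, hsx⟩ := exists_inverting' hm hF hr hr2 hx
  have hsi : s⁻¹ = s := inv_eq_of_mul_eq_one_right hs2
  have h2 : (s * x) * (s * x) = 1 := by
    calc (s * x) * (s * x) = (s * x * s) * x := by group
      _ = 1 := by
        rw [hsi] at hsx
        rw [hsx]; group
  have h1 : s * x ≠ 1 := by
    intro h
    have hxs : x = s := by rw [← hsi]; exact eq_inv_of_mul_eq_one_right h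
    have h4 : x ^ 2 = 1 := by rw [pow_two, hxs, hs2]
    have h5 : r ∣ 2 := hx ▸ orderOf_dvd_of_pow_eq_one h4
    exact hr2 ((Nat.prime_dvd_prime_iff_eq hr Nat.prime_two).mp h5)
  obtain ⟨g₁, hg₁⟩ := inv_conj_all hm hF hs1 hs2 he₀1 he₀2
  obtain ⟨g₂, hg₂⟩ := inv_conj_all hm hF h1 h2 he₀1 he₀2
  refine ⟨g₁, g₂, e₀, he₀, e₀, he₀, Or.inl ?_⟩
  rw [hg₁, hg₂, ← mul_assoc, hs2, one_mul]

/-- an elementary abelian subgroup of order `q` is the set of involutions fixing a point -/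
theorem elem_ab_char (hm : 1 ≤ m) (hF : Fintype.card F = 2 ^ (2 * m + 1))
    {E : Subgroup ↥(Cfsg.Sz F m)} (hE2 : ∀ e ∈ E, e * e = 1)
    (hEc : Nat.card E = 2 ^ (2 * m + 1)) :
    ∃ a : Cfsg.suzukiOvoid F m, ∀ g : ↥(Cfsg.Sz F m), g ∈ E ↔ (g * g = 1 ∧ g • a = a) := by
  obtain ⟨e₀, he₀, he₀1⟩ : ∃ e₀ ∈ E, e₀ ≠ 1 := by
    by_contra hcon
    push Not at hcon
    have hbot : E = ⊥ := (Subgroup.eq_bot_iff_forall E).mpr hcon
    rw [hbot, Subgroup.card_bot] at hEc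
    have h2 : 2 ∣ 1 := by
      rw [hEc]; exact dvd_pow_self 2 (by omega)
    omega
  have inv_eq : ∀ x ∈ E, x⁻¹ = x := fun x hx => inv_eq_of_mul_eq_one_right (hE2 x hx)
  obtain ⟨a, ha⟩ := exists_fix_of_two_pow hF (y := e₀) (j := 1)
    (by rw [pow_one, pow_two, hE2 e₀ he₀])
  have hfixE : ∀ e ∈ E, e • a = a := by
    intro e he
    have hcomm : e₀ * e = e * e₀ := by
      calc e₀ * e = (e₀ * e)⁻¹ := (inv_eq _ (E.mul_mem he₀ he)).symm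
        _ = e⁻¹ * e₀⁻¹ := mul_inv_rev _ _
        _ = e * e₀ := by rw [inv_eq e he, inv_eq e₀ he₀]
    have h1 : e₀ • (e • a) = e • a := by rw [← mul_smul, hcomm, mul_smul, ha]
    exact unique_fix_of_sq hm hF he₀1 (by rw [pow_two]; exact hE2 _ he₀) ha h1
  have := pretransitive (m := m) hF
  obtain ⟨t, ht⟩ := MulAction.exists_smul_eq (Cfsg.Sz F m) (ainf F m) a
  have hform : ∀ g : ↥(Cfsg.Sz F m), g * g = 1 → g • a = a →
      ∃ b : F, g = t * uS hF 0 b * t⁻¹ := by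
    intro g hg2 hga
    by_cases hg1 : g = 1
    · exact ⟨0, by rw [hg1, uS_zero]; group⟩
    · have h1 : (t⁻¹ * g * t) • ainf F m = ainf F m := by
        rw [mul_smul, mul_smul, ht, hga, ← ht, inv_smul_smul]
      have h2 : (t⁻¹ * g * t) * (t⁻¹ * g * t) = 1 := by
        calc (t⁻¹ * g * t) * (t⁻¹ * g * t) = t⁻¹ * (g * g) * t := by group
          _ = 1 := by rw [hg2]; group
      have h3 : t⁻¹ * g * t ≠ 1 := by
        intro h
        apply hg1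
        calc g = t * (t⁻¹ * g * t) * t⁻¹ := by group
          _ = 1 := by rw [h]; group
      obtain ⟨b, -, hb⟩ := inv_fix_inf hm hF h3 h2 h1
      exact ⟨b, by rw [← hb]; group⟩
  have hsub : (E : Set ↥(Cfsg.Sz F m)) ⊆ Set.range (fun b : F => t * uS hF 0 b * t⁻¹) := by
    intro g hg
    obtain ⟨b, hb⟩ := hform g (hE2 g hg) (hfixE g hg)
    exact ⟨b, hb.symm⟩
  have hcard : (Set.range (fun b : F => t * uS hF 0 b * t⁻¹)).ncard ≤
      (E : Set ↥(Cfsg.Sz F m)).ncard := by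
    calc (Set.range (fun b : F => t * uS hF 0 b * t⁻¹)).ncard ≤ Nat.card F := by
          rw [← Set.image_univ]
          exact (Set.ncard_image_le Set.finite_univ).trans (by rw [Set.ncard_univ])
      _ = 2 ^ (2 * m + 1) := by rw [Nat.card_eq_fintype_card, hF]
      _ = (E : Set ↥(Cfsg.Sz F m)).ncard := by rw [← hEc]; rfl
  have heq : (E : Set ↥(Cfsg.Sz F m)) = Set.range (fun b : F => t * uS hF 0 b * t⁻¹) :=
    Set.eq_of_subset_of_ncard_le hsub hcard (Set.toFinite _)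
  refine ⟨a, fun g => ⟨fun hg => ⟨hE2 g hg, hfixE g hg⟩, fun ⟨hg2, hga⟩ => ?_⟩⟩
  obtain ⟨b, hb⟩ := hform g hg2 hga
  have h1 : g ∈ Set.range (fun b : F => t * uS hF 0 b * t⁻¹) := ⟨b, hb.symm⟩
  rw [← heq] at h1
  exact h1

/-- the normalizer statement for `Sz(q)` -/
theorem XA_Sz (hm : 1 ≤ m) (hF : Fintype.card F = 2 ^ (2 * m + 1))
    {E : Subgroup ↥(Cfsg.Sz F m)} (hE2 : ∀ e ∈ E, e * e = 1)
    (hEc : Nat.card E = 2 ^ (2 * m + 1)) (g₁ g₂ : ↥(Cfsg.Sz F m)) (e : ↥(Cfsg.Sz F m))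
    (he : e ∈ E)
    (hn : ∀ e' ∈ E, ∃ e'' ∈ E,
      (g₁ * e * g₁⁻¹) * (g₂ * e' * g₂⁻¹) * (g₁ * e * g₁⁻¹)⁻¹ = g₂ * e'' * g₂⁻¹) :
    e = 1 ∨ ∀ e' ∈ E, ∃ e'' ∈ E, g₁ * e' * g₁⁻¹ = g₂ * e'' * g₂⁻¹ := by
  obtain ⟨a, hchar⟩ := elem_ab_char hm hF hE2 hEc
  by_cases he1 : e = 1
  · exact Or.inl he1
  right
  have hconj2 : ∀ g : ↥(Cfsg.Sz F m), (g * e * g⁻¹) * (g * e * g⁻¹) = 1 := by
    intro g
    calc (g * e * g⁻¹) * (g * e * g⁻¹) = g * (e * e) * g⁻¹ := by group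
      _ = 1 := by rw [hE2 e he]; group
  have hconj1 : ∀ g : ↥(Cfsg.Sz F m), g * e * g⁻¹ ≠ 1 := by
    intro g h
    apply he1
    calc e = g⁻¹ * (g * e * g⁻¹) * g := by group
      _ = 1 := by rw [h]; group
  have hconja : ∀ g : ↥(Cfsg.Sz F m), ∀ e' ∈ E, (g * e' * g⁻¹) • (g • a) = g • a := by
    intro g e' he'
    rw [mul_smul, mul_smul, inv_smul_smul, ((hchar e').mp he').2]
  obtain ⟨e'', he'', hconj⟩ := hn e he
  have h1 : ((g₁ * e * g₁⁻¹) * (g₂ * e * g₂⁻¹) * (g₁ * e * g₁⁻¹)⁻¹) • (g₂ • a) = g₂ • a := by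
    rw [hconj]; exact hconja g₂ e'' he''
  have h2 : (g₂ * e * g₂⁻¹) • ((g₁ * e * g₁⁻¹)⁻¹ • (g₂ • a)) = (g₁ * e * g₁⁻¹)⁻¹ • (g₂ • a) := by
    rw [mul_smul, mul_smul] at h1
    have h3 := congrArg (fun z => (g₁ * e * g₁⁻¹)⁻¹ • z) h1
    simp only [inv_smul_smul] at h3
    exact h3
  have h3 : (g₁ * e * g₁⁻¹)⁻¹ • (g₂ • a) = g₂ • a :=
    unique_fix_of_sq hm hF (hconj1 g₂) (by rw [pow_two]; exact hconj2 g₂) (hconja g₂ e he) h2
  have h4 : (g₁ * e * g₁⁻¹) • (g₂ • a) = g₂ • a := by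
    have h5 := congrArg (fun z => (g₁ * e * g₁⁻¹) • z) h3
    simp only [smul_inv_smul] at h5
    exact h5.symm
  have h5 : g₂ • a = g₁ • a :=
    unique_fix_of_sq hm hF (hconj1 g₁) (by rw [pow_two]; exact hconj2 g₁) (hconja g₁ e he) h4
  intro e' he'
  refine ⟨g₂⁻¹ * g₁ * e' * g₁⁻¹ * g₂, ?_, by group⟩
  rw [hchar]
  constructor
  · calc g₂⁻¹ * g₁ * e' * g₁⁻¹ * g₂ * (g₂⁻¹ * g₁ * e' * g₁⁻¹ * g₂)
        = g₂⁻¹ * g₁ * (e' * e') * g₁⁻¹ * g₂ := by group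
      _ = 1 := by rw [hE2 e' he']; group
  · rw [mul_smul, mul_smul, mul_smul, mul_smul, h5, inv_smul_smul, ((hchar e').mp he').2, ← h5,
      inv_smul_smul]

end Cfsg.Agent.Lib.Helper31.LFpfSz
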