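import Mathlib
import Cfsg.Prelude.Def_LocalStructure
import Cfsg.Agent.Lib.Helper31.LFpfQ

set_option autoImplicit false

/-!
# `N_L(Y)/O_p(L)` for `L ∈ 𝔏_G(Y)`: `YA/A` is the unique nontrivial elementary abelian normal
`p`-subgroup

`LCtx.normalizer_sup_le`: `N_L(YA) = N_L(Y)`.  `uniq_of_XU`, `uniq_two`: a subgroup `V'` with
`A < V' ≤ N_L(Y)`, normal in `N_L(Y)`, with `V'/A` of exponent `p` is `YA`.  `final`: the statement
on the quotient `N_L(Y)/A`.
-/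

namespace Cfsg.Agent.Lib.Helper31.LNorm

open Cfsg Cfsg.Agent.Lib.Helper47.Syl Cfsg.Agent.Lib.Helper31.LLemma
open Cfsg.Agent.Lib.Helper31.AsymL Cfsg.Agent.Lib.Helper31.LFpf Cfsg.Agent.Lib.Helper31.LFpfQ

variable {G : Type*} [Group G] {X : Type*} [Group X] {p : ℕ} {Y A L : Subgroup G}

/-- `N_L(YA) ≤ N_L(Y)` -/
theorem normalizer_sup_le [Finite G] (c : LCtx p Y A L) :
    L ⊓ Subgroup.normalizer ((Y ⊔ A : Subgroup G) : Set G) ≤
      L ⊓ Subgroup.normalizer (Y : Set G) := by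
  have hYAp : IsPGroup p (Y ⊔ A : Subgroup G) :=
    c.Yp.to_sup_of_normal_right' c.Ap (c.YL.trans c.LA)
  apply c.Bmax
  · exact le_inf c.YL (le_sup_left.trans Subgroup.le_normalizer)
  · refine lt_of_le_of_ne inf_le_left ?_
    intro h
    have h1 : L ≤ Subgroup.normalizer ((Y ⊔ A : Subgroup G) : Set G) := inf_eq_left.mp h
    have h2 : Y ⊔ A ≤ A := c.Amax _ (sup_le c.YL c.AL) h1 hYAp
    exact LCtx_not_le c (le_sup_left.trans h2)

/-- uniqueness from a statement on the quotient `X` -/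
theorem uniq_of_XU [Finite G] (c : LCtx p Y A L) {ψ : ↥L →* X}
    (hsurj : Function.Surjective ψ) (hker : ∀ l : ↥L, ψ l = 1 ↔ (l : G) ∈ A)
    (XU : ∀ W : Subgroup X, (∀ w ∈ W, w ^ p = 1) → W ≠ ⊥ →
      (∀ w ∈ W, ∀ e ∈ img Y L ψ, w * e * w⁻¹ ∈ img Y L ψ) →
      (∀ x : X, (∀ e ∈ img Y L ψ, x * e * x⁻¹ ∈ img Y L ψ) → ∀ w ∈ W, x * w * x⁻¹ ∈ W) →
      W = img Y L ψ)
    {V' : Subgroup G} (hAV : A ≤ V') (hVN : V' ≤ L ⊓ Subgroup.normalizer (Y : Set G))
    (hNV : L ⊓ Subgroup.normalizer (Y : Set G) ≤ Subgroup.normalizer (V' : Set G))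
    (hexp : ∀ v ∈ V', v ^ p ∈ A) (hne : ¬ V' ≤ A) : V' = Y ⊔ A := by
  have hV'L : V' ≤ L := hVN.trans inf_le_left
  have hW : img V' L ψ = img Y L ψ := by
    apply XU
    · intro w hw
      obtain ⟨v, hv, rfl⟩ := mem_img.mp hw
      rw [← map_pow, hker]
      exact hexp _ hv
    · intro h
      apply hne
      intro v hv
      have h1 : ψ ⟨v, hV'L hv⟩ ∈ img V' L ψ := mem_img.mpr ⟨_, hv, rfl⟩
      rw [h, Subgroup.mem_bot] at h1
      exact (hker _).mp h1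
    · intro w hw e he
      obtain ⟨v, hv, rfl⟩ := mem_img.mp hw
      obtain ⟨y, hy, rfl⟩ := mem_img.mp he
      rw [← map_inv, ← map_mul, ← map_mul]
      exact mem_img.mpr ⟨_, conj_mem_of_mem_normalizer (hVN hv).2 hy, rfl⟩
    · intro x hx w hw
      obtain ⟨l, rfl⟩ := hsurj x
      obtain ⟨v, hv, rfl⟩ := mem_img.mp hw
      have hl : (l : G) ∈ Subgroup.normalizer ((Y ⊔ A : Subgroup G) : Set G) := by
        apply mem_normalizer_sup_of
        · intro y hy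
          have h1 := hx (ψ ⟨y, c.YL hy⟩) (mem_img.mpr ⟨_, hy, rfl⟩)
          obtain ⟨y', hy', h2⟩ := mem_img.mp h1
          have h3 : ψ (l * ⟨y, c.YL hy⟩ * l⁻¹) = ψ y' := by
            rw [h2, map_mul, map_mul, map_inv]
          have h4 := mem_of_psi_eq hker h3
          have e : (l : G) * y * (l : G)⁻¹ = (y' : G) * ((y' : G)⁻¹ * ((l : G) * y * (l : G)⁻¹)) := by
            group
          rw [e]
          exact Subgroup.mul_mem _ (Subgroup.mem_sup_left hy') (Subgroup.mem_sup_right h4)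
        · intro z hz
          exact Subgroup.mem_sup_right (conj_mem_of_mem_normalizer (c.LA l.2) hz)
      have hl' : (l : G) ∈ Subgroup.normalizer (V' : Set G) :=
        hNV (normalizer_sup_le c ⟨l.2, hl⟩)
      rw [← map_inv, ← map_mul, ← map_mul]
      exact mem_img.mpr ⟨_, conj_mem_of_mem_normalizer hl' hv, rfl⟩
  apply le_antisymm
  · intro v hv
    have h1 : ψ ⟨v, hV'L hv⟩ ∈ img Y L ψ := by
      rw [← hW]; exact mem_img.mpr ⟨_, hv, rfl⟩
    obtain ⟨y, hy, h2⟩ := mem_img.mp h1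
    have h3 := mem_of_psi_eq hker (x := ⟨v, hV'L hv⟩) (y := y) h2.symm
    have e : v = (y : G) * ((y : G)⁻¹ * v) := by group
    rw [e]
    exact Subgroup.mul_mem _ (Subgroup.mem_sup_left hy) (Subgroup.mem_sup_right h3)
  · refine sup_le ?_ hAV
    intro y hy
    have h1 : ψ ⟨y, c.YL hy⟩ ∈ img V' L ψ := by
      rw [hW]; exact mem_img.mpr ⟨_, hy, rfl⟩
    obtain ⟨v, hv, h2⟩ := mem_img.mp h1
    have h3 := mem_of_psi_eq hker (x := ⟨y, c.YL hy⟩) (y := v) h2.symm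
    have e : y = (v : G) * ((v : G)⁻¹ * y) := by group
    rw [e]
    exact V'.mul_mem hv (hAV h3)

/-- in the case of index `2`: `N_L(Y) = YA` -/
theorem NL_le_two [Finite G] (c : LCtx p Y A L) {y₀ : G} (hy₀ : y₀ ∈ Y) (hsq : y₀ * y₀ = 1)
    (hidx : ∀ y ∈ Y, y ∈ A ∨ y₀⁻¹ * y ∈ A) :
    L ⊓ Subgroup.normalizer (Y : Set G) ≤ Y ⊔ A := by
  obtain ⟨g, hgL, hgn⟩ := SetLike.exists_of_lt c.Blt
  have hgN : g ∉ Subgroup.normalizer (Y : Set G) := fun hN => hgn ⟨hgL, hN⟩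
  have hgen := c.gen_of_not_mem hgL hgN
  have hy₀L : y₀ ∈ L := c.YL hy₀
  have hsq' : (g * y₀ * g⁻¹) * (g * y₀ * g⁻¹) = 1 := by
    have e : (g * y₀ * g⁻¹) * (g * y₀ * g⁻¹) = g * (y₀ * y₀) * g⁻¹ := by group
    rw [e, hsq]; group
  have hsi : y₀⁻¹ = y₀ := inv_eq_of_mul_eq_one_right hsq
  have hD₀L : Subgroup.closure ({y₀, g * y₀ * g⁻¹} : Set G) ≤ L := by
    rw [Subgroup.closure_le]
    rintro x (rfl | rfl)
    · exact hy₀L
    · exact L.mul_mem (L.mul_mem hgL hy₀L) (L.inv_mem hgL)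
  have hL : L ≤ Subgroup.closure ({y₀, g * y₀ * g⁻¹} : Set G) ⊔ A := by
    refine hgen.ge.trans (sup_le ?_ ?_)
    · intro y hy
      rcases hidx y hy with h1 | h1
      · exact Subgroup.mem_sup_right h1
      · have e : y = y₀ * (y₀⁻¹ * y) := by group
        rw [e]
        exact Subgroup.mul_mem _ (Subgroup.mem_sup_left (Subgroup.subset_closure (by simp)))
          (Subgroup.mem_sup_right h1)
    · intro x hx
      have hx' : g⁻¹ * x * g ∈ Y := mem_cj.mp hx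
      rcases hidx _ hx' with h1 | h1
      · have h2 := conj_mem_of_mem_normalizer (c.LA hgL) h1
        have e : g * (g⁻¹ * x * g) * g⁻¹ = x := by group
        rw [e] at h2
        exact Subgroup.mem_sup_right h2
      · have h2 := conj_mem_of_mem_normalizer (c.LA hgL) h1
        have e : x = (g * y₀ * g⁻¹) * (g * (y₀⁻¹ * (g⁻¹ * x * g)) * g⁻¹) := by group
        rw [e]
        exact Subgroup.mul_mem _ (Subgroup.mem_sup_left (Subgroup.subset_closure (by simp)))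
          (Subgroup.mem_sup_right h2)
  -- reflections lie in conjugates of `Y`
  have hrefl : ∀ i : ℤ, ∃ cc ∈ L, (y₀ * (g * y₀ * g⁻¹)) ^ i * y₀ ∈ cj cc Y := by
    intro i
    obtain ⟨c', hc', h1 | h1⟩ := refl_conj hsq hsq' i
    · refine ⟨c', hD₀L hc', ?_⟩
      rw [h1]; exact conj_mem_map_conj hy₀
    · refine ⟨c' * g, L.mul_mem (hD₀L hc') hgL, ?_⟩
      have e : c' * (g * y₀ * g⁻¹) * c'⁻¹ = (c' * g) * y₀ * (c' * g)⁻¹ := by group
      rw [h1, e]; exact conj_mem_map_conj hy₀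
  -- a reflection normalizing `Y` lies in `YA`
  have hkey : ∀ i : ℤ, (y₀ * (g * y₀ * g⁻¹)) ^ i * y₀ ∈ Subgroup.normalizer (Y : Set G) →
      (y₀ * (g * y₀ * g⁻¹)) ^ i * y₀ ∈ Y ⊔ A := by
    intro i hn
    obtain ⟨cc, hcc, hu⟩ := hrefl i
    by_cases heq : cj cc Y = Y
    · rw [heq] at hu
      exact Subgroup.mem_sup_left hu
    · have hgen' : cj cc Y ⊔ cj 1 Y = L :=
        c.gen_of_ne hcc L.one_mem (by rw [cj_one]; exact heq)
      have hn' : (y₀ * (g * y₀ * g⁻¹)) ^ i * y₀ ∈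
          Subgroup.normalizer ((cj 1 Y : Subgroup G) : Set G) := by
        rw [cj_one]; exact hn
      exact Subgroup.mem_sup_right (c.alpha_two hidx hcc L.one_mem hgen' hu hn')
  intro x hx
  obtain ⟨d, hd, a₀, ha₀, rfl⟩ := exists_mul_of_mem_sup_left (hD₀L.trans c.LA) (hL hx.1)
  have hdN : d ∈ Subgroup.normalizer (Y : Set G) := by
    have e : d = d * a₀ * a₀⁻¹ := by group
    rw [e]
    exact Subgroup.mul_mem _ hx.2 (Subgroup.inv_mem _ (c.AY ha₀))
  have hdYA : d ∈ Y ⊔ A := by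
    obtain ⟨i, hi | hi⟩ := dihedral_form hsq hsq' hd
    · have h1 : (y₀ * (g * y₀ * g⁻¹)) ^ i * y₀ ∈ Subgroup.normalizer (Y : Set G) := by
        rw [← hi]
        exact Subgroup.mul_mem _ hdN (Subgroup.le_normalizer hy₀)
      have h2 := hkey i h1
      have e : d = (y₀ * (g * y₀ * g⁻¹)) ^ i * y₀ * y₀⁻¹ := by rw [hi]; group
      rw [e]
      exact Subgroup.mul_mem _ h2 (Subgroup.inv_mem _ (Subgroup.mem_sup_left hy₀))
    · rw [hi]
      exact hkey i (hi ▸ hdN)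
  exact Subgroup.mul_mem _ hdYA (Subgroup.mem_sup_right ha₀)

/-- uniqueness in the case of index `2` -/
theorem uniq_two [Finite G] (c : LCtx p Y A L) {y₀ : G} (hy₀ : y₀ ∈ Y) (hsq : y₀ * y₀ = 1)
    (hidx : ∀ y ∈ Y, y ∈ A ∨ y₀⁻¹ * y ∈ A)
    {V' : Subgroup G} (hAV : A ≤ V') (hVN : V' ≤ L ⊓ Subgroup.normalizer (Y : Set G))
    (hne : ¬ V' ≤ A) : V' = Y ⊔ A := by
  apply le_antisymm (hVN.trans (NL_le_two c hy₀ hsq hidx))
  refine sup_le ?_ hAV
  obtain ⟨v, hv, hvA⟩ := SetLike.not_le_iff_exists.mp hne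
  obtain ⟨y, hy, a, ha, rfl⟩ := exists_mul_of_mem_sup_left (c.YL.trans c.LA)
    (hVN.trans (NL_le_two c hy₀ hsq hidx) hv)
  have hyV : y ∈ V' := by
    have e : y = y * a * a⁻¹ := by group
    rw [e]; exact V'.mul_mem hv (V'.inv_mem (hAV ha))
  have hyA : y ∉ A := fun h => hvA (A.mul_mem h ha)
  have hy₀V : y₀ ∈ V' := by
    rcases hidx y hy with h1 | h1
    · exact absurd h1 hyA
    · have e : y₀ = y * (y₀⁻¹ * y)⁻¹ := by group
      rw [e]; exact V'.mul_mem hyV (V'.inv_mem (hAV h1))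
  intro y' hy'
  rcases hidx y' hy' with h1 | h1
  · exact hAV h1
  · have e : y' = y₀ * (y₀⁻¹ * y') := by group
    rw [e]; exact V'.mul_mem hy₀V (hAV h1)

/-- data of index `2` -/
theorem exists_y0 (hp2 : p = 2) (hexp : ∀ y ∈ Y, y ^ p = 1)
    (hidx : (Y ⊓ A).relIndex Y = 2) :
    ∃ y₀ ∈ Y, y₀ * y₀ = 1 ∧ ∀ y ∈ Y, y ∈ A ∨ y₀⁻¹ * y ∈ A := by
  rw [Subgroup.inf_relIndex_left, Subgroup.relIndex_eq_two_iff] at hidx
  obtain ⟨y₀, hy₀, hx⟩ := hidx
  refine ⟨y₀, hy₀, ?_, ?_⟩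
  · have := hexp y₀ hy₀
    rwa [hp2, pow_two] at this
  · intro y hy
    rcases hx y⁻¹ (Y.inv_mem hy) with ⟨h1, _⟩ | ⟨h1, _⟩
    · right
      have e : y₀⁻¹ * y = (y⁻¹ * y₀)⁻¹ := by group
      rw [e]; exact A.inv_mem h1
    · left
      have := A.inv_mem h1
      rwa [inv_inv] at this

/-- the statement on the quotient `N_L(Y)/A` -/
theorem final [Finite G] [Fact p.Prime] (c : LCtx p Y A L) (hexpY : ∀ y ∈ Y, y ^ p = 1)
    (NL : Subgroup G) (hNL : NL = L ⊓ Subgroup.normalizer (Y : Set G))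
    [hn : (A.subgroupOf NL).Normal]
    (huniq : ∀ V' : Subgroup G, A ≤ V' → V' ≤ L ⊓ Subgroup.normalizer (Y : Set G) →
      L ⊓ Subgroup.normalizer (Y : Set G) ≤ Subgroup.normalizer (V' : Set G) →
      (∀ v ∈ V', v ^ p ∈ A) → ¬ V' ≤ A → V' = Y ⊔ A) :
    ((Y.subgroupOf NL).map (QuotientGroup.mk' (A.subgroupOf NL)) ≠ ⊥ ∧
      ((Y.subgroupOf NL).map (QuotientGroup.mk' (A.subgroupOf NL))).Normal ∧
      Cfsg.IsElementaryAbelian p ((Y.subgroupOf NL).map (QuotientGroup.mk' (A.subgroupOf NL))) ∧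
      ∀ V : Subgroup (↥NL ⧸ A.subgroupOf NL), V.Normal → Cfsg.IsElementaryAbelian p V → V ≠ ⊥ →
        V = (Y.subgroupOf NL).map (QuotientGroup.mk' (A.subgroupOf NL))) := by
  have hYN : Y ≤ NL := by rw [hNL]; exact le_inf c.YL Subgroup.le_normalizer
  have hAN : A ≤ NL := by rw [hNL]; exact le_inf c.AL c.AY
  have hNLn : NL ≤ Subgroup.normalizer (Y : Set G) := by rw [hNL]; exact inf_le_right
  have hπ : ∀ x : ↥NL, (QuotientGroup.mk' (A.subgroupOf NL)) x = 1 ↔ (x : G) ∈ A := by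
    intro x
    rw [QuotientGroup.mk'_apply, QuotientGroup.eq_one_iff, Subgroup.mem_subgroupOf]
  have memY : ∀ z : ↥NL ⧸ A.subgroupOf NL,
      z ∈ (Y.subgroupOf NL).map (QuotientGroup.mk' (A.subgroupOf NL)) ↔
        ∃ x : ↥NL, (x : G) ∈ Y ∧ (QuotientGroup.mk' (A.subgroupOf NL)) x = z := by
    intro z
    rw [Subgroup.mem_map]
    constructor
    · rintro ⟨x, hx, rfl⟩; exact ⟨x, Subgroup.mem_subgroupOf.mp hx, rfl⟩
    · rintro ⟨x, hx, rfl⟩; exact ⟨x, Subgroup.mem_subgroupOf.mpr hx, rfl⟩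
  refine ⟨?_, ?_, ?_, ?_⟩
  · intro h
    obtain ⟨y₁, hy₁, hy₁A⟩ := SetLike.not_le_iff_exists.mp (LCtx_not_le c)
    have h1 : (QuotientGroup.mk' (A.subgroupOf NL)) ⟨y₁, hYN hy₁⟩ ∈
        (Y.subgroupOf NL).map (QuotientGroup.mk' (A.subgroupOf NL)) :=
      (memY _).mpr ⟨_, hy₁, rfl⟩
    rw [h, Subgroup.mem_bot, hπ] at h1
    exact hy₁A h1
  · exact (Subgroup.normal_subgroupOf_of_le_normalizer hNLn).map _
      (QuotientGroup.mk'_surjective _)
  · refine ⟨⟨⟨?_⟩⟩, ?_⟩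
    · rintro ⟨a, ha⟩ ⟨b, hb⟩
      obtain ⟨x, hx, rfl⟩ := (memY a).mp ha
      obtain ⟨y, hy, rfl⟩ := (memY b).mp hb
      apply Subtype.ext
      show (QuotientGroup.mk' (A.subgroupOf NL)) x * (QuotientGroup.mk' (A.subgroupOf NL)) y =
        (QuotientGroup.mk' (A.subgroupOf NL)) y * (QuotientGroup.mk' (A.subgroupOf NL)) x
      rw [← map_mul, ← map_mul]
      congr 1
      apply Subtype.ext
      exact c.Ycomm _ hx _ hy
    · intro a ha
      obtain ⟨x, hx, rfl⟩ := (memY a).mp ha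
      rw [← map_pow]
      have h1 : x ^ p = 1 := by
        apply Subtype.ext
        rw [Subgroup.coe_pow]
        exact hexpY _ hx
      rw [h1, map_one]
  · intro V hVn hV hV1
    have hcn : (V.comap (QuotientGroup.mk' (A.subgroupOf NL))).Normal := hVn.comap _
    have hV'mem : ∀ v : G, v ∈ (V.comap (QuotientGroup.mk' (A.subgroupOf NL))).map NL.subtype ↔
        ∃ x : ↥NL, (QuotientGroup.mk' (A.subgroupOf NL)) x ∈ V ∧ (x : G) = v := by
      intro v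
      rw [Subgroup.mem_map]
      constructor
      · rintro ⟨x, hx, rfl⟩; exact ⟨x, Subgroup.mem_comap.mp hx, rfl⟩
      · rintro ⟨x, hx, rfl⟩; exact ⟨x, Subgroup.mem_comap.mpr hx, rfl⟩
    have h1 : A ≤ (V.comap (QuotientGroup.mk' (A.subgroupOf NL))).map NL.subtype := by
      intro a ha
      rw [hV'mem]
      refine ⟨⟨a, hAN ha⟩, ?_, rfl⟩
      rw [(hπ _).mpr ha]
      exact V.one_mem
    have h2 : (V.comap (QuotientGroup.mk' (A.subgroupOf NL))).map NL.subtype ≤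
        L ⊓ Subgroup.normalizer (Y : Set G) := by
      rw [← hNL]; exact Subgroup.map_subtype_le _
    have h3 : L ⊓ Subgroup.normalizer (Y : Set G) ≤ Subgroup.normalizer
        (((V.comap (QuotientGroup.mk' (A.subgroupOf NL))).map NL.subtype : Subgroup G) : Set G) := by
      rw [← hNL]; exact le_normalizer_map_subtype _
    have h4 : ∀ v ∈ (V.comap (QuotientGroup.mk' (A.subgroupOf NL))).map NL.subtype,
        v ^ p ∈ A := by
      intro v hv
      obtain ⟨x, hx, rfl⟩ := (hV'mem v).mp hv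
      have h5 : (QuotientGroup.mk' (A.subgroupOf NL)) (x ^ p) = 1 := by
        rw [map_pow]; exact hV.2 _ hx
      have h6 := (hπ _).mp h5
      rwa [Subgroup.coe_pow] at h6
    have h5 : ¬ (V.comap (QuotientGroup.mk' (A.subgroupOf NL))).map NL.subtype ≤ A := by
      intro hle
      apply hV1
      rw [Subgroup.eq_bot_iff_forall]
      intro z hz
      obtain ⟨x, rfl⟩ := QuotientGroup.mk'_surjective (A.subgroupOf NL) z
      exact (hπ x).mpr (hle ((hV'mem _).mpr ⟨x, hz, rfl⟩))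
    have h6 := huniq _ h1 h2 h3 h4 h5
    apply le_antisymm
    · intro z hz
      obtain ⟨x, rfl⟩ := QuotientGroup.mk'_surjective (A.subgroupOf NL) z
      have h7 : (x : G) ∈ Y ⊔ A := by
        rw [← h6]; exact (hV'mem _).mpr ⟨x, hz, rfl⟩
      obtain ⟨y, hy, a, ha, hya⟩ := exists_mul_of_mem_sup_left (c.YL.trans c.LA) h7
      have h8 : x = ⟨y, hYN hy⟩ * ⟨a, hAN ha⟩ := Subtype.ext hya
      rw [h8, map_mul, (hπ ⟨a, hAN ha⟩).mpr ha, mul_one]
      exact (memY _).mpr ⟨_, hy, rfl⟩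
    · intro z hz
      obtain ⟨x, hx, rfl⟩ := (memY z).mp hz
      have h7 : (x : G) ∈ (V.comap (QuotientGroup.mk' (A.subgroupOf NL))).map NL.subtype := by
        rw [h6]; exact Subgroup.mem_sup_left hx
      obtain ⟨x', hx', hxx⟩ := (hV'mem _).mp h7
      have h8 : x' = x := Subtype.ext hxx
      rw [← h8]; exact hx'

end Cfsg.Agent.Lib.Helper31.LNorm
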