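import Mathlib
import Cfsg.Agent.Lib.Helper31.LFpfSL
import Cfsg.Agent.Lib.Helper31.AsymL
import Cfsg.Agent.Lib.Helper24.NatSYL

set_option autoImplicit false

/-!
# `SL₂(q)`: a Sylow `p`-subgroup is a minimal normal subgroup of its normalizer
-/

namespace Cfsg.Agent.Lib.Helper31.LNormSL

open Cfsg.Agent.Lib.Helper24.NatStmt Cfsg.Agent.Lib.Helper31.AsymL

open Polynomial in
/-- every element of a finite field is a sum of two squares -/
theorem sum_two_sq {F : Type*} [Field F] [Fintype F] (c : F) : ∃ t s : F, t ^ 2 + s ^ 2 = c := by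
  rcases Nat.even_or_odd (Fintype.card F) with he | ho
  · have h2 : ringChar F = 2 := FiniteField.even_card_iff_char_two.mpr (Nat.even_iff.mp he)
    obtain ⟨t, ht⟩ := FiniteField.isSquare_of_char_two h2 c
    exact ⟨t, 0, by rw [ht]; ring⟩
  · obtain ⟨a, b, hab⟩ := FiniteField.exists_root_sum_quadratic (f := (X : F[X]) ^ 2)
      (g := (X : F[X]) ^ 2 - C c) (degree_X_pow 2) (degree_X_pow_sub_C (by decide) _)
      (Nat.odd_iff.mp ho)
    refine ⟨a, b, ?_⟩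
    rw [← sub_eq_zero]
    simpa only [eval_C, eval_X, eval_pow, eval_sub, ← add_sub_assoc] using hab

/-- the torus acts on the unipotent group through squares -/
theorem uh_ua {F : Type*} [Field F] {t : F} (ht : t ≠ 0) (c : F) :
    uh t * ua c = ua (t ^ 2 * c) * uh t := by
  apply Subtype.ext
  rw [Matrix.SpecialLinearGroup.coe_mul, Matrix.SpecialLinearGroup.coe_mul, uh_coe ht, ua_coe,
    ua_coe]
  ext i j
  fin_cases i <;> fin_cases j <;> simp [Matrix.mul_apply, Fin.sum_univ_two] <;> field_simp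

/-- a nontrivial subgroup of exponent `p` normalizing a subgroup `E` of order `q` of `SL₂(q)` and
normalized by `N(E)` is `E` -/
theorem XU_SL {F : Type} [Field F] [Fintype F] {p : ℕ} [Fact p.Prime] [CharP F p]
    {E : Subgroup (SL2 F)} (hE : Nat.card E = Fintype.card F) (hEp : IsPGroup p E)
    (W : Subgroup (SL2 F)) (hW : ∀ w ∈ W, w ^ p = 1) (hW1 : W ≠ ⊥)
    (hWE : ∀ w ∈ W, ∀ e ∈ E, w * e * w⁻¹ ∈ E)
    (hN : ∀ x : SL2 F, (∀ e ∈ E, x * e * x⁻¹ ∈ E) → ∀ w ∈ W, x * w * x⁻¹ ∈ W) : W = E := by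
  have XS := Cfsg.Agent.Lib.Helper31.LFpfSL.XS_SL (p := p) hE
  have hWp : IsPGroup p W := by
    rintro ⟨w, hw⟩
    refine ⟨1, Subtype.ext ?_⟩
    show w ^ p ^ 1 = 1
    rw [pow_one]; exact hW w hw
  have hWn : W ≤ Subgroup.normalizer (E : Set (SL2 F)) :=
    fun w hw => mem_normalizer_of_conj_mem (hWE w hw)
  have hWE' : W ≤ E :=
    le_sup_left.trans (XS _ (hWp.to_sup_of_normal_right' hEp hWn) le_sup_right)
  obtain ⟨P, hP⟩ := hEp.exists_le_sylow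
  have hPE : (P : Subgroup (SL2 F)) = E := le_antisymm (XS P P.isPGroup' hP) hP
  obtain ⟨n, -, hq⟩ := FiniteField.card F p
  obtain ⟨k, hk⟩ := Cfsg.Agent.Lib.Helper24.NatSYL.main p F n hq P
  have hk' : ∀ g : SL2 F, g ∈ E ↔ ∃ x : F, k * g * k⁻¹ = ua x := by
    intro g
    rw [← hPE]
    exact hk g
  obtain ⟨w₀, hw₀, hw₀1⟩ : ∃ w ∈ W, w ≠ 1 := by
    by_contra hcon
    push Not at hcon
    exact hW1 ((Subgroup.eq_bot_iff_forall W).mpr hcon)
  obtain ⟨b₀, hb₀⟩ := (hk' w₀).mp (hWE' hw₀)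
  have hb₀0 : b₀ ≠ 0 := by
    rintro rfl
    rw [ua_zero] at hb₀
    apply hw₀1
    calc w₀ = k⁻¹ * (k * w₀ * k⁻¹) * k := by group
      _ = 1 := by rw [hb₀]; group
  have hT : ∀ t : F, k⁻¹ * ua (t ^ 2 * b₀) * k ∈ W := by
    intro t
    by_cases ht : t = 0
    · have e : k⁻¹ * ua (t ^ 2 * b₀) * k = 1 := by
        rw [ht, zero_pow two_ne_zero, zero_mul, ua_zero]; group
      rw [e]; exact W.one_mem
    · have hx : ∀ e ∈ E, (k⁻¹ * uh t * k) * e * (k⁻¹ * uh t * k)⁻¹ ∈ E := by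
        intro e he
        obtain ⟨c, hc⟩ := (hk' e).mp he
        rw [hk']
        refine ⟨t ^ 2 * c, ?_⟩
        calc k * ((k⁻¹ * uh t * k) * e * (k⁻¹ * uh t * k)⁻¹) * k⁻¹
            = uh t * (k * e * k⁻¹) * (uh t)⁻¹ := by group
          _ = ua (t ^ 2 * c) := by rw [hc, uh_ua ht]; group
      have h1 := hN _ hx w₀ hw₀
      have e : k⁻¹ * ua (t ^ 2 * b₀) * k =
          (k⁻¹ * uh t * k) * w₀ * (k⁻¹ * uh t * k)⁻¹ := by
        calc k⁻¹ * ua (t ^ 2 * b₀) * k = k⁻¹ * (uh t * ua b₀ * (uh t)⁻¹) * k := by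
              rw [uh_ua ht]; group
          _ = k⁻¹ * (uh t * (k * w₀ * k⁻¹) * (uh t)⁻¹) * k := by rw [hb₀]
          _ = (k⁻¹ * uh t * k) * w₀ * (k⁻¹ * uh t * k)⁻¹ := by group
      rw [e]; exact h1
  refine le_antisymm hWE' ?_
  intro e he
  obtain ⟨c, hc⟩ := (hk' e).mp he
  obtain ⟨t, s, hts⟩ := sum_two_sq (c / b₀)
  have hc' : c = t ^ 2 * b₀ + s ^ 2 * b₀ := by
    rw [← add_mul, hts]; field_simp
  have e1 : e = (k⁻¹ * ua (t ^ 2 * b₀) * k) * (k⁻¹ * ua (s ^ 2 * b₀) * k) := by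
    calc e = k⁻¹ * (k * e * k⁻¹) * k := by group
      _ = k⁻¹ * (ua (t ^ 2 * b₀) * ua (s ^ 2 * b₀)) * k := by rw [hc, hc', ua_add]
      _ = (k⁻¹ * ua (t ^ 2 * b₀) * k) * (k⁻¹ * ua (s ^ 2 * b₀) * k) := by group
  rw [e1]; exact W.mul_mem (hT t) (hT s)

end Cfsg.Agent.Lib.Helper31.LNormSL
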