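import Mathlib
import Cfsg.Agent.Lib.Helper31.LFpfSz

set_option autoImplicit false

/-!
# `Sz(q)`: the centre of a Sylow `2`-subgroup is a minimal normal subgroup of its normalizer
-/

namespace Cfsg.Agent.Lib.Helper31.LNormSz

open Cfsg.Agent.Lib.Helper6.Sz0 Cfsg.Agent.Lib.Helper6.Sz1 Cfsg.Agent.Lib.Helper6.Sz2
  Cfsg.Agent.Lib.Helper6.Sz3 Cfsg.Agent.Lib.Helper6.Sz4 Cfsg.Agent.Lib.Helper6.Sz5
  Cfsg.Agent.Lib.Helper6.Sz6 Cfsg.Agent.Lib.Helper6.Sz7 Cfsg.Agent.Lib.Helper6.Sz8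
  Cfsg.Agent.Lib.Helper6.Sz9 Cfsg.Agent.Lib.Helper6.Sz10 Cfsg.Agent.Lib.Helper6.Sz11
  Cfsg.Agent.Lib.Helper6.Sz12 Cfsg.Agent.Lib.Helper6.Sz13 Cfsg.Agent.Lib.Helper6.Sz14
  Cfsg.Agent.Lib.Helper6.Sz15 Cfsg.Agent.Lib.Helper6.Sz16 Cfsg.Agent.Lib.Helper6.Sz17
  Cfsg.Agent.Lib.Helper6.Sz18 Cfsg.Agent.Lib.Helper6.Sz19
  Cfsg.Agent.Lib.Helper65.SzFix Cfsg.Agent.Lib.Helper65.SzSubA Cfsg.Agent.Lib.Helper65.SzSubB
  Cfsg.Agent.Lib.Helper65.SzReal Cfsg.Agent.Lib.Helper31.LFpfSz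

variable {F : Type*} [Field F] [Fintype F] {m : ℕ}

/-- a nontrivial subgroup of exponent `2` normalizing an elementary abelian subgroup `E` of order
`q` of `Sz(q)` and normalized by `N(E)` is `E` -/
theorem XU_Sz (hm : 1 ≤ m) (hF : Fintype.card F = 2 ^ (2 * m + 1))
    {E : Subgroup ↥(Cfsg.Sz F m)} (hE2 : ∀ e ∈ E, e * e = 1)
    (hEc : Nat.card E = 2 ^ (2 * m + 1)) (W : Subgroup ↥(Cfsg.Sz F m))
    (hW : ∀ w ∈ W, w * w = 1) (hW1 : W ≠ ⊥)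
    (hWE : ∀ w ∈ W, ∀ e ∈ E, w * e * w⁻¹ ∈ E)
    (hN : ∀ x : ↥(Cfsg.Sz F m), (∀ e ∈ E, x * e * x⁻¹ ∈ E) → ∀ w ∈ W, x * w * x⁻¹ ∈ W) :
    W = E := by
  obtain ⟨a, hchar⟩ := elem_ab_char hm hF hE2 hEc
  obtain ⟨e₀, he₀, he₀1⟩ : ∃ e₀ ∈ E, e₀ ≠ 1 := by
    by_contra hcon
    push Not at hcon
    have hbot : E = ⊥ := (Subgroup.eq_bot_iff_forall E).mpr hcon
    rw [hbot, Subgroup.card_bot] at hEc
    have h2 : 2 ∣ 1 := by
      rw [hEc]; exact dvd_pow_self 2 (by omega)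
    omega
  have hWE' : W ≤ E := by
    intro w hw
    rw [hchar]
    refine ⟨hW w hw, ?_⟩
    have h1 := ((hchar _).mp (hWE w hw e₀ he₀)).2
    have h2 : e₀ • (w⁻¹ • a) = w⁻¹ • a := by
      rw [mul_smul, mul_smul] at h1
      have h3 := congrArg (fun z => w⁻¹ • z) h1
      simp only [inv_smul_smul] at h3
      exact h3
    have h3 : w⁻¹ • a = a :=
      unique_fix_of_sq hm hF he₀1 (by rw [pow_two]; exact hE2 _ he₀) ((hchar e₀).mp he₀).2 h2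
    have h4 := congrArg (fun z => w • z) h3
    simp only [smul_inv_smul] at h4
    exact h4.symm
  refine le_antisymm hWE' ?_
  obtain ⟨w₀, hw₀, hw₀1⟩ : ∃ w ∈ W, w ≠ 1 := by
    by_contra hcon
    push Not at hcon
    exact hW1 ((Subgroup.eq_bot_iff_forall W).mpr hcon)
  intro e he
  by_cases he1 : e = 1
  · rw [he1]; exact W.one_mem
  obtain ⟨x, hx⟩ := inv_conj_all hm hF he1 (hE2 e he) hw₀1 (hW w₀ hw₀)
  have hw₀a := ((hchar w₀).mp (hWE' hw₀)).2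
  have hea := ((hchar e).mp he).2
  have h1 : e • (x • a) = x • a := by
    rw [← hx, mul_smul, mul_smul, inv_smul_smul, hw₀a]
  have hxa : x • a = a :=
    unique_fix_of_sq hm hF he1 (by rw [pow_two]; exact hE2 e he) hea h1
  have hxa' : x⁻¹ • a = a := by
    have h2 := congrArg (fun z => x⁻¹ • z) hxa
    simp only [inv_smul_smul] at h2
    exact h2.symm
  have hxE : ∀ e' ∈ E, x * e' * x⁻¹ ∈ E := by
    intro e' he'
    rw [hchar]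
    constructor
    · calc x * e' * x⁻¹ * (x * e' * x⁻¹) = x * (e' * e') * x⁻¹ := by group
        _ = 1 := by rw [hE2 e' he']; group
    · rw [mul_smul, mul_smul, hxa', ((hchar e').mp he').2, hxa]
  rw [← hx]; exact hN x hxE w₀ hw₀

end Cfsg.Agent.Lib.Helper31.LNormSz
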