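import Mathlib
import Cfsg.Agent.Lib.Helper88.MCStmt

/-!
S4245 / QUOT (call by helper88): the hypothesis of S4245 passes to quotients.
-/

set_option autoImplicit false

namespace Cfsg.Agent.Lib.Helper31.MCQUOT

universe u

open Cfsg.Agent.Lib.Helper88.MCStmt

theorem main : Quot.{u} := by
  intro G _ _ N _ hH
  obtain ⟨A, p, s, hp, hidx, B, hBn, hBc, hABc, r, hr⟩ := hH
  have hπ : Function.Surjective (QuotientGroup.mk' N) := QuotientGroup.mk'_surjective N
  obtain ⟨j, -, hidx'⟩ : ∃ j, j ≤ s ∧ (A.map (QuotientGroup.mk' N)).index = p ^ j := by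
    have h1 : (A.map (QuotientGroup.mk' N)).index ∣ A.index := Subgroup.index_map_dvd A hπ
    rw [hidx] at h1
    exact (Nat.dvd_prime_pow hp).mp h1
  refine ⟨A.map (QuotientGroup.mk' N), p, j, hp, hidx', ?_⟩
  have hφ : Function.Surjective ((QuotientGroup.mk' N).subgroupMap A) :=
    (QuotientGroup.mk' N).subgroupMap_surjective A
  have hB'n : (B.map ((QuotientGroup.mk' N).subgroupMap A)).Normal :=
    Subgroup.Normal.map hBn _ hφ
  have hle : B ≤ (B.map ((QuotientGroup.mk' N).subgroupMap A)).comap
      ((QuotientGroup.mk' N).subgroupMap A) := Subgroup.le_comap_map _ B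
  have hsurj : Function.Surjective (QuotientGroup.map B
      (B.map ((QuotientGroup.mk' N).subgroupMap A)) ((QuotientGroup.mk' N).subgroupMap A) hle) := by
    apply QuotientGroup.map_surjective_of_surjective
    exact (QuotientGroup.mk_surjective).comp hφ
  refine ⟨B.map ((QuotientGroup.mk' N).subgroupMap A), hB'n, ?_, ?_, ?_⟩
  · exact isCyclic_of_surjective (((QuotientGroup.mk' N).subgroupMap A).subgroupMap B)
      (((QuotientGroup.mk' N).subgroupMap A).subgroupMap_surjective B)
  · exact isCyclic_of_surjective _ hsurj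
  · have h1 := Subgroup.card_dvd_of_surjective _ hsurj
    rw [hr] at h1
    obtain ⟨r', -, h⟩ := (Nat.dvd_prime_pow Nat.prime_two).mp h1
    exact ⟨r', h⟩

end Cfsg.Agent.Lib.Helper31.MCQUOT
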