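import Mathlib
import Cfsg.Agent.Lib.Helper37.OrtStmt

set_option autoImplicit false

/-! S5981 piece DER2 (helper37 call): `x = diag(ω, ω, ω⁻², 1, …, 1)` (`ω` of odd prime order
`r ∣ q - 1`, `n ≥ 6`, `(n, r) ≠ (6, 3)`) is not a similarity of any non-degenerate symmetric form,
by the eigenvalue symmetry `DiagSym`. -/

namespace Cfsg.Agent.Lib.Helper31.OrtDER2

open Cfsg.Agent.Lib.Helper37
open scoped Matrix

universe u

/-- the eigenvalues `ω, ω, ω⁻², 1, …, 1`. -/
def lamN {F : Type u} [Field F] (ω : F) (k : ℕ) : F :=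
  if k < 2 then ω else if k = 2 then (ω⁻¹) ^ 2 else 1

theorem card_sub {n : ℕ} (P : Fin n → Prop) [DecidablePred P] :
    Nat.card {j : Fin n // P j} = (Finset.univ.filter P).card := by
  rw [Nat.card_eq_fintype_card, Fintype.card_subtype]

theorem main (hDS : OrtStmt.DiagSym.{u}) : OrtStmt.Der2.{u} := by
  intro F _ _ r _ hr2 hrq n hn hex
  classical
  have hrp : r.Prime := Fact.out
  obtain ⟨u, hu⟩ : ∃ u : Fˣ, orderOf u = r := by
    have h1 : r ∣ Fintype.card Fˣ := by rw [Fintype.card_units]; exact hrq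
    exact exists_prime_orderOf_dvd_card r h1
  have hωord : orderOf (u : F) = r := by rw [orderOf_units, hu]
  have hω0 : (u : F) ≠ 0 := u.ne_zero
  have hωr : (u : F) ^ r = 1 := by rw [← hωord]; exact pow_orderOf_eq_one _
  have hpow : ∀ k : ℕ, (u : F) ^ k = 1 → r ∣ k := fun k hk =>
    hωord ▸ orderOf_dvd_of_pow_eq_one hk
  have hω1 : (u : F) ≠ 1 := fun h => by
    have h1 := hpow 1 (by rw [pow_one]; exact h)
    exact hrp.one_lt.ne' (Nat.dvd_one.mp h1)
  have hω2 : (u : F) ^ 2 ≠ 1 := fun h =>
    hr2 ((Nat.prime_dvd_prime_iff_eq hrp Nat.prime_two).mp (hpow 2 h))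
  have hωi1 : ((u : F)⁻¹) ^ 2 ≠ 1 := by
    rw [inv_pow]
    intro h
    exact hω2 (inv_eq_one.mp h)
  have hlam0 : ∀ j : Fin n, lamN (u : F) (j : ℕ) ≠ 0 := by
    intro j
    simp only [lamN]
    split_ifs
    · exact hω0
    · exact pow_ne_zero _ (inv_ne_zero hω0)
    · exact one_ne_zero
  refine ⟨Matrix.diagonal fun j : Fin n => lamN (u : F) (j : ℕ), ?_, ?_, ?_, ?_⟩
  · rw [Matrix.det_diagonal, Fin.prod_univ_eq_prod_range (lamN (u : F)) n]
    have hsub : Finset.range 3 ⊆ Finset.range n := Finset.range_subset_range.mpr (by omega)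
    rw [← Finset.prod_subset hsub (fun k _ hk => by
      rw [Finset.mem_range] at hk
      simp only [lamN]
      rw [if_neg (by omega), if_neg (by omega)])]
    rw [Finset.prod_range_succ, Finset.prod_range_succ, Finset.prod_range_one]
    simp only [lamN]
    norm_num
    field_simp
  · rw [Matrix.diagonal_pow, ← Matrix.diagonal_one]
    congr 1
    funext j
    show lamN (u : F) (j : ℕ) ^ r = 1
    simp only [lamN]
    split_ifs
    · exact hωr
    · rw [← pow_mul, mul_comm, pow_mul, inv_pow, hωr, inv_one, one_pow]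
    · exact one_pow r
  · intro z hz
    have h0 := congrFun (congrFun hz ⟨0, by omega⟩) ⟨0, by omega⟩
    have h3 := congrFun (congrFun hz ⟨3, by omega⟩) ⟨3, by omega⟩
    simp [Matrix.smul_apply, lamN] at h0 h3
    exact hω1 (h0.trans h3.symm)
  · intro S' c hS hdet hsim
    have hT : (Matrix.diagonal fun j : Fin n => lamN (u : F) (j : ℕ)) *
        (1 : Matrix (Fin n) (Fin n) F) =
        1 * Matrix.diagonal fun j : Fin n => lamN (u : F) (j : ℕ) := by
      rw [mul_one, one_mul]
    have hN := hDS F n (Matrix.diagonal fun j : Fin n => lamN (u : F) (j : ℕ)) 1 S'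
      (fun j : Fin n => lamN (u : F) (j : ℕ)) c (by rw [Matrix.det_one]; exact one_ne_zero)
      hlam0 hT hS hdet hsim
    -- the two index sets
    have hAB := Finset.card_filter_add_card_filter_not
      (s := (Finset.univ : Finset (Fin n))) (fun j : Fin n => (j : ℕ) ≤ 2)
    rw [Finset.card_univ, Fintype.card_fin] at hAB
    have hA3 : (Finset.univ.filter fun j : Fin n => (j : ℕ) ≤ 2).card ≤ 3 := by
      have h1 := Finset.card_le_card_of_injOn (s := Finset.univ.filter fun j : Fin n => (j : ℕ) ≤ 2)
        (t := Finset.range 3) (fun j : Fin n => (j : ℕ))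
        (fun j hj => by
          have h2 := (Finset.mem_filter.mp (Finset.mem_coe.mp hj)).2
          show ((j : Fin n) : ℕ) ∈ ((Finset.range 3 : Finset ℕ) : Set ℕ)
          exact Finset.mem_coe.mpr (Finset.mem_range.mpr (by omega)))
        (fun a _ b _ hab => Fin.ext hab)
      rwa [Finset.card_range] at h1
    have hL1 : ∀ j : Fin n, lamN (u : F) (j : ℕ) = 1 ↔ ¬ (j : ℕ) ≤ 2 := by
      intro j
      simp only [lamN]
      split_ifs with h1 h2
      · exact ⟨fun h => absurd h hω1, fun h => absurd (by omega) h⟩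
      · exact ⟨fun h => absurd h hωi1, fun h => absurd (by omega) h⟩
      · exact ⟨fun _ => by omega, fun _ => rfl⟩
    have hB : (Finset.univ.filter fun j : Fin n => lamN (u : F) (j : ℕ) = 1) =
        Finset.univ.filter fun j : Fin n => ¬ (j : ℕ) ≤ 2 :=
      Finset.filter_congr fun j _ => hL1 j
    -- step 1: `c = 1`
    have hc1 : c = 1 := by
      by_contra hc
      have h1 := hN 1
      rw [card_sub, card_sub, hB] at h1
      have hsub : (Finset.univ.filter fun j : Fin n => lamN (u : F) (j : ℕ) * 1 = c) ⊆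
          Finset.univ.filter fun j : Fin n => (j : ℕ) ≤ 2 := by
        intro j hj
        have h2 := (Finset.mem_filter.mp hj).2
        rw [mul_one] at h2
        rw [Finset.mem_filter]
        refine ⟨Finset.mem_univ _, ?_⟩
        by_contra h3
        exact hc (h2 ▸ (hL1 j).mpr h3)
      have hle := Finset.card_le_card hsub
      have heq := Finset.eq_of_subset_of_card_le hsub (by omega)
      have hn6 : n = 6 := by omega
      have m0 : (⟨0, by omega⟩ : Fin n) ∈
          Finset.univ.filter fun j : Fin n => lamN (u : F) (j : ℕ) * 1 = c := by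
        rw [heq, Finset.mem_filter]; exact ⟨Finset.mem_univ _, by simp⟩
      have m2 : (⟨2, by omega⟩ : Fin n) ∈
          Finset.univ.filter fun j : Fin n => lamN (u : F) (j : ℕ) * 1 = c := by
        rw [heq, Finset.mem_filter]; exact ⟨Finset.mem_univ _, by simp⟩
      have e0 := (Finset.mem_filter.mp m0).2
      have e2 := (Finset.mem_filter.mp m2).2
      simp only [lamN] at e0 e2
      norm_num at e0 e2
      have h3 : (u : F) ^ 3 = 1 := by
        have h4 : (u : F) = ((u : F) ^ 2)⁻¹ := e0.trans e2.symm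
        have h5 : (u : F) ^ 2 ≠ 0 := pow_ne_zero _ hω0
        calc (u : F) ^ 3 = (u : F) * (u : F) ^ 2 := by ring
          _ = ((u : F) ^ 2)⁻¹ * (u : F) ^ 2 := by rw [← h4]
          _ = 1 := inv_mul_cancel₀ h5
      have hr3 : r = 3 := (Nat.prime_dvd_prime_iff_eq hrp Nat.prime_three).mp (hpow 3 h3)
      exact hex ⟨hn6, hr3⟩
    -- step 2: the eigenvalue `ω`
    have h2 := hN (u : F)
    rw [card_sub, card_sub, hc1] at h2
    have hpos : 0 < (Finset.univ.filter fun j : Fin n => lamN (u : F) (j : ℕ) = (u : F)).card :=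
      Finset.card_pos.mpr ⟨⟨0, by omega⟩, by
        rw [Finset.mem_filter]; exact ⟨Finset.mem_univ _, by simp [lamN]⟩⟩
    have hempty : (Finset.univ.filter fun j : Fin n => lamN (u : F) (j : ℕ) * (u : F) = 1) = ∅ := by
      rw [Finset.filter_eq_empty_iff]
      intro j _
      simp only [lamN]
      split_ifs
      · intro h; exact hω2 (by rw [pow_two]; exact h)
      · intro h
        apply hω1
        have h5 : ((u : F)⁻¹) ^ 2 * (u : F) = (u : F)⁻¹ := by field_simp
        rw [h5] at h
        exact inv_eq_one.mp h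
      · rw [one_mul]; exact hω1
    rw [hempty, Finset.card_empty] at h2
    omega

end Cfsg.Agent.Lib.Helper31.OrtDER2
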