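import Mathlib
import Cfsg.Agent.Lib.Helper18.R59Stmt

/-!
S2359 piece `SLI`: in the centraliser (of order `q + 1`, commutative) of an element of prime
order `p ∤ 6 (q - 1)` of `SL₂(q)`, `q = 3^(2m+1)`, the elements whose square is central are
`1, i₀, i₀², i₀³`.
-/

set_option autoImplicit false

namespace Cfsg.Agent.Lib.Helper31.R59SLI

open Matrix Cfsg.Agent.Lib.Helper18.R59Stmt

universe u

section basic

variable {K : Type u} [Field K]

local notation "SL2K" => SpecialLinearGroup (Fin 2) K

theorem det_eq (g : SL2K) : g 0 0 * g 1 1 - g 0 1 * g 1 0 = 1 := by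
  have := g.det_coe
  rw [Matrix.det_fin_two] at this
  exact this

theorem ext_entries {x y : SL2K} (h00 : x 0 0 = y 0 0) (h01 : x 0 1 = y 0 1)
    (h10 : x 1 0 = y 1 0) (h11 : x 1 1 = y 1 1) : x = y := by
  apply Matrix.SpecialLinearGroup.ext
  intro i j
  fin_cases i <;> fin_cases j
  · exact h00
  · exact h01
  · exact h10
  · exact h11

theorem mul_entries (x y : SL2K) :
    (x * y) 0 0 = x 0 0 * y 0 0 + x 0 1 * y 1 0 ∧ (x * y) 0 1 = x 0 0 * y 0 1 + x 0 1 * y 1 1 ∧
    (x * y) 1 0 = x 1 0 * y 0 0 + x 1 1 * y 1 0 ∧ (x * y) 1 1 = x 1 0 * y 0 1 + x 1 1 * y 1 1 := by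
  simp [Matrix.SpecialLinearGroup.coe_mul, Matrix.mul_apply, Fin.sum_univ_two]

theorem neg_entries (x : SL2K) (i j : Fin 2) : (-x) i j = -(x i j) := rfl

theorem one_entries : ((1 : SL2K) 0 0 = 1) ∧ ((1 : SL2K) 0 1 = 0) ∧ ((1 : SL2K) 1 0 = 0) ∧
    ((1 : SL2K) 1 1 = 1) := by
  refine ⟨?_, ?_, ?_, ?_⟩ <;> simp

/-- an element of square one is `1` or `-1` -/
theorem eq_one_or_neg_of_sq (h2 : (2 : K) ≠ 0) {x : SL2K} (h : x * x = 1) :
    x = 1 ∨ x = -1 := by
  obtain ⟨a00, a01, a10, a11⟩ := mul_entries x x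
  obtain ⟨o00, o01, o10, o11⟩ := one_entries (K := K)
  have hd := det_eq x
  rw [h] at a00 a01 a10 a11
  rw [o00] at a00
  rw [o01] at a01
  rw [o10] at a10
  rw [o11] at a11
  have hτ : x 0 0 + x 1 1 ≠ 0 := by
    intro ht
    apply h2
    linear_combination a00 - hd + x 0 0 * ht
  have h01 : x 0 1 = 0 := by
    have h3 : x 0 1 * (x 0 0 + x 1 1) = 0 := by linear_combination -a01
    exact (mul_eq_zero.mp h3).resolve_right hτ
  have h10 : x 1 0 = 0 := by
    have h3 : x 1 0 * (x 0 0 + x 1 1) = 0 := by linear_combination -a10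
    exact (mul_eq_zero.mp h3).resolve_right hτ
  rw [h01, h10] at hd a00
  have h00 : (x 0 0 - 1) * (x 0 0 + 1) = 0 := by linear_combination -a00
  rcases mul_eq_zero.mp h00 with e | e
  · left
    have e0 : x 0 0 = 1 := by linear_combination e
    have e1 : x 1 1 = 1 := by rw [e0] at hd; linear_combination hd
    apply ext_entries
    · rw [e0, o00]
    · rw [h01, o01]
    · rw [h10, o10]
    · rw [e1, o11]
  · right
    have e0 : x 0 0 = -1 := by linear_combination e
    have e1 : x 1 1 = -1 := by rw [e0] at hd; linear_combination -hd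
    apply ext_entries
    · rw [e0, neg_entries, o00]
    · rw [h01, neg_entries, o01, neg_zero]
    · rw [h10, neg_entries, o10, neg_zero]
    · rw [e1, neg_entries, o11]

/-- `-1 * g = -g` -/
theorem neg_one_mul' (g : SL2K) : (-1 : SL2K) * g = -g := by
  obtain ⟨a00, a01, a10, a11⟩ := mul_entries (-1 : SL2K) g
  obtain ⟨o00, o01, o10, o11⟩ := one_entries (K := K)
  apply ext_entries
  · rw [a00, neg_entries, neg_entries, neg_entries, o00, o01]; ring
  · rw [a01, neg_entries, neg_entries, neg_entries, o00, o01]; ring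
  · rw [a10, neg_entries, neg_entries, neg_entries, o10, o11]; ring
  · rw [a11, neg_entries, neg_entries, neg_entries, o10, o11]; ring

/-- `-1 * -1 = 1` -/
theorem neg_one_sq' : (-1 : SL2K) * (-1) = 1 := by
  rw [neg_one_mul']
  apply ext_entries <;> rw [neg_entries, neg_entries, neg_neg]

/-- `g * -1 = -g` -/
theorem mul_neg_one' (g : SL2K) : g * (-1 : SL2K) = -g := by
  obtain ⟨a00, a01, a10, a11⟩ := mul_entries g (-1 : SL2K)
  obtain ⟨o00, o01, o10, o11⟩ := one_entries (K := K)
  apply ext_entries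
  · rw [a00, neg_entries, neg_entries, neg_entries, o00, o10]; ring
  · rw [a01, neg_entries, neg_entries, neg_entries, o01, o11]; ring
  · rw [a10, neg_entries, neg_entries, neg_entries, o00, o10]; ring
  · rw [a11, neg_entries, neg_entries, neg_entries, o01, o11]; ring

theorem neg_one_mem_center : (-1 : SL2K) ∈ Subgroup.center SL2K := by
  rw [Subgroup.mem_center_iff]
  intro g
  rw [neg_one_mul', mul_neg_one']

/-- a central element is `1` or `-1` -/
theorem center_cases {z : SL2K} (hz : z ∈ Subgroup.center SL2K) : z = 1 ∨ z = -1 := by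
  rw [Matrix.SpecialLinearGroup.mem_center_iff] at hz
  obtain ⟨r, hr, hrz⟩ := hz
  rw [Fintype.card_fin] at hr
  have h00 : z 0 0 = r := by rw [← hrz]; simp
  have h01 : z 0 1 = 0 := by rw [← hrz]; simp
  have h10 : z 1 0 = 0 := by rw [← hrz]; simp
  have h11 : z 1 1 = r := by rw [← hrz]; simp
  obtain ⟨o00, o01, o10, o11⟩ := one_entries (K := K)
  have h3 : (r - 1) * (r + 1) = 0 := by linear_combination hr
  rcases mul_eq_zero.mp h3 with e | e
  · left
    have e0 : r = 1 := by linear_combination e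
    apply ext_entries
    · rw [h00, e0, o00]
    · rw [h01, o01]
    · rw [h10, o10]
    · rw [h11, e0, o11]
  · right
    have e0 : r = -1 := by linear_combination e
    apply ext_entries
    · rw [h00, e0, neg_entries, o00]
    · rw [h01, neg_entries, o01, neg_zero]
    · rw [h10, neg_entries, o10, neg_zero]
    · rw [h11, e0, neg_entries, o11]

end basic

theorem main : SLI.{u} := by
  intro hSLC K _ _ m hcard x p hp hp2 hp3 hpq hord
  obtain ⟨hcomm, hcardC⟩ := hSLC K m hcard x p hp hp2 hp3 hpq hord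
  -- `2 ≠ 0`
  have h2 : (2 : K) ≠ 0 := by
    apply Ring.two_ne_zero
    intro hc
    have h1 := FiniteField.even_card_iff_char_two.mp hc
    rw [hcard, Nat.pow_mod] at h1
    norm_num at h1
  -- the centraliser as a subgroup
  let C : Subgroup (SpecialLinearGroup (Fin 2) K) := Subgroup.centralizer {x}
  have hCmem : ∀ y : SpecialLinearGroup (Fin 2) K, y ∈ C ↔ y * x = x * y := by
    intro y
    rw [Subgroup.mem_centralizer_singleton_iff, eq_comm]
  have hCcard : Nat.card C = 3 ^ (2 * m + 1) + 1 := by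
    rw [← hcardC]
    exact Nat.card_congr (Equiv.subtypeEquivRight hCmem)
  have h4 : 2 ^ 2 ∣ Nat.card C := by
    rw [hCcard]
    have h9 : 9 ^ m % 4 = 1 := by rw [Nat.pow_mod]; norm_num
    have h3 : 3 ^ (2 * m + 1) = 3 * 9 ^ m := by rw [pow_succ, pow_mul]; norm_num; ring
    rw [h3]
    omega
  have : Fact (Nat.Prime 2) := ⟨Nat.prime_two⟩
  obtain ⟨H, hH⟩ := Sylow.exists_subgroup_card_pow_prime 2 h4
  -- an element of `H` whose square is not one
  have hex : ∃ h : H, ((h : C) : SpecialLinearGroup (Fin 2) K) * ((h : C) : SpecialLinearGroup (Fin 2) K) ≠ 1 := by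
    by_contra hcon
    push Not at hcon
    classical
    let f : H → Bool := fun h => decide (((h : C) : SpecialLinearGroup (Fin 2) K) = 1)
    have hf : Function.Injective f := by
      intro h h' hff
      have e1 := eq_one_or_neg_of_sq h2 (hcon h)
      have e2 := eq_one_or_neg_of_sq h2 (hcon h')
      have hff' : (((h : C) : SpecialLinearGroup (Fin 2) K) = 1) ↔
          (((h' : C) : SpecialLinearGroup (Fin 2) K) = 1) := by
        simpa [f] using hff
      apply Subtype.ext
      apply Subtype.ext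
      rcases e1 with e1 | e1
      · rw [e1, hff'.mp e1]
      · rcases e2 with e2 | e2
        · rw [hff'.mpr e2, e2]
        · rw [e1, e2]
    have h5 := Nat.card_le_card_of_injective f hf
    rw [hH, Nat.card_eq_fintype_card, Fintype.card_bool] at h5
    norm_num at h5
  obtain ⟨h, hh⟩ := hex
  set i₀ : SpecialLinearGroup (Fin 2) K := ((h : C) : SpecialLinearGroup (Fin 2) K) with hi₀
  have hi₀C : i₀ * x = x * i₀ := (hCmem i₀).mp (h : C).2
  have hpow : i₀ * i₀ * (i₀ * i₀) = 1 := by
    have h6 : h ^ 4 = 1 := by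
      have := pow_card_eq_one' (G := H) (x := h)
      rwa [hH] at this
    have h7 : i₀ ^ 4 = 1 := by
      have : ((h ^ 4 : H) : C) = 1 := by rw [h6]; rfl
      have h8 : (((h ^ 4 : H) : C) : SpecialLinearGroup (Fin 2) K) = 1 := by rw [this]; rfl
      rw [← h8]
      rfl
    have h7' : i₀ * i₀ * (i₀ * i₀) = i₀ ^ 4 := by
      simp only [pow_succ, pow_zero, one_mul, mul_assoc]
    rw [h7', h7]
  have hsq : i₀ * i₀ = -1 := (eq_one_or_neg_of_sq h2 hpow).resolve_left hh
  refine ⟨i₀, hi₀C, hh, ?_, ?_⟩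
  · rw [hsq]; exact neg_one_mem_center
  · intro y hy hyc
    rcases center_cases hyc with e | e
    · rcases eq_one_or_neg_of_sq h2 e with e' | e'
      · left; exact e'
      · right; right; left; rw [hsq, e']
    · -- `(y * i₀⁻¹)² = 1`
      have hyi : y * i₀ = i₀ * y := hcomm y i₀ hy hi₀C
      have h9 : (y * i₀⁻¹) * (y * i₀⁻¹) = 1 := by
        have h10 : (y * i₀⁻¹) * (y * i₀⁻¹) = (y * y) * (i₀ * i₀)⁻¹ := by
          have h11 : i₀⁻¹ * y = y * i₀⁻¹ := by
            rw [inv_mul_eq_iff_eq_mul, ← mul_assoc, ← hyi, mul_assoc, mul_inv_cancel, mul_one]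
          rw [mul_assoc, ← mul_assoc i₀⁻¹, h11, _root_.mul_inv_rev]
          group
        rw [h10, e, hsq, mul_inv_cancel]
      rcases eq_one_or_neg_of_sq h2 h9 with e' | e'
      · right; left
        rw [mul_inv_eq_one] at e'
        exact e'
      · right; right; right
        rw [mul_inv_eq_iff_eq_mul] at e'
        rw [hsq, e']

end Cfsg.Agent.Lib.Helper31.R59SLI
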