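import Mathlib
import Cfsg.Agent.Lib.Helper11.ZJFam
import Cfsg.Agent.Lib.Helper2.S4Sec
import Cfsg.Agent.S0650

/-! Glauberman-type lemma: in an `S₄`-free group with `C(O_2) ≤ O_2` whose Sylow `2`-subgroups
have class at most two, the elementary abelian subgroups of largest order of a Sylow
`2`-subgroup lie in `O_2` (no solvability hypothesis). -/

open Cfsg

set_option autoImplicit false
set_option linter.unusedSectionVars false
set_option linter.unusedVariables false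

namespace Cfsg.Agent.Lib.Helper31.S4Free

universe u

variable {G : Type u} [Group G]

/-! ### Elementary lemmas -/

theorem eq_one_of_odd_of_two_pow {x : G} (hodd : Odd (orderOf x)) (k : ℕ)
    (hk : x ^ 2 ^ k = 1) : x = 1 := by
  have h1 : orderOf x ∣ 2 ^ k := orderOf_dvd_of_pow_eq_one hk
  have h2 : (orderOf x).Coprime (2 ^ k) :=
    Nat.Coprime.pow_right k (Nat.coprime_two_right.mpr hodd)
  exact orderOf_eq_one_iff.mp (Nat.Coprime.eq_one_of_dvd h2 h1)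

theorem conj_pow_eq (y z w : G) (h1 : y * z * y⁻¹ = w * z) (h2 : y * w * y⁻¹ = w) (n : ℕ) :
    y ^ n * z * (y ^ n)⁻¹ = w ^ n * z := by
  induction n with
  | zero => simp
  | succ n ih =>
    calc y ^ (n + 1) * z * (y ^ (n + 1))⁻¹
        = y * (y ^ n * z * (y ^ n)⁻¹) * y⁻¹ := by rw [pow_succ']; group
      _ = y * (w ^ n * z) * y⁻¹ := by rw [ih]
      _ = (y * w ^ n * y⁻¹) * (y * z * y⁻¹) := by group
      _ = (y * w * y⁻¹) ^ n * (y * z * y⁻¹) := by rw [conj_pow]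
      _ = w ^ n * (w * z) := by rw [h2, h1]
      _ = w ^ (n + 1) * z := by rw [pow_succ, mul_assoc]

/-- If `y` has odd order, `y z y⁻¹ = w z` with `w` a `2`-element centralized by `y`,
then `w = 1`. -/
theorem eq_one_of_conj_eq (y z w : G) (hy : Odd (orderOf y)) (h1 : y * z * y⁻¹ = w * z)
    (h2 : y * w * y⁻¹ = w) (k : ℕ) (hw : w ^ 2 ^ k = 1) : w = 1 := by
  have h3 := conj_pow_eq y z w h1 h2 (orderOf y)
  rw [pow_orderOf_eq_one, one_mul, inv_one, mul_one] at h3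
  have h4 : w ^ orderOf y = 1 := by
    calc w ^ orderOf y = (w ^ orderOf y * z) * z⁻¹ := by group
      _ = 1 := by rw [← h3]; group
  have hc : Nat.Coprime (orderOf y) (2 ^ k) :=
    Nat.Coprime.pow_right k (Nat.coprime_two_right.mpr hy)
  have h5 := pow_gcd_eq_one.mpr ⟨h4, hw⟩
  rwa [hc, pow_one] at h5

/-- An element of odd order normalizing an abelian `2`-group and centralizing its involutions
centralizes it. -/
theorem centralizes_of_omega (y : G) (hy : Odd (orderOf y)) (Zs : Subgroup G)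
    (hZp : IsPGroup 2 Zs) (hZab : ∀ a ∈ Zs, ∀ b ∈ Zs, a * b = b * a)
    (hZn : ∀ z ∈ Zs, y * z * y⁻¹ ∈ Zs)
    (hom : ∀ z ∈ Zs, z * z = 1 → y * z = z * y) :
    ∀ z ∈ Zs, y * z = z * y := by
  have key : ∀ k : ℕ, ∀ z ∈ Zs, z ^ 2 ^ k = 1 → y * z = z * y := by
    intro k
    induction k with
    | zero =>
      intro z _ hz
      rw [pow_zero, pow_one] at hz
      rw [hz, mul_one, one_mul]
    | succ k ih =>
      intro z hz hzk
      have hzz : (z * z) ^ 2 ^ k = 1 := by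
        rw [← pow_two, ← pow_mul, ← pow_succ']; exact hzk
      have h1 : y * (z * z) = (z * z) * y := ih (z * z) (mul_mem hz hz) hzz
      obtain ⟨w, hw⟩ : ∃ w, w = y * z * y⁻¹ * z⁻¹ := ⟨_, rfl⟩
      have hz' : y * z * y⁻¹ ∈ Zs := hZn z hz
      have hwZ : w ∈ Zs := hw ▸ mul_mem hz' (inv_mem hz)
      have hww : w * w = 1 := by
        have e1 : (y * z * y⁻¹) * z⁻¹ = z⁻¹ * (y * z * y⁻¹) := hZab _ hz' _ (inv_mem hz)
        have e2 : y * (z * z) * y⁻¹ = z * z := by rw [h1]; group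
        calc w * w = (y * z * y⁻¹) * (z⁻¹ * (y * z * y⁻¹)) * z⁻¹ := by rw [hw]; group
          _ = (y * z * y⁻¹) * ((y * z * y⁻¹) * z⁻¹) * z⁻¹ := by rw [e1]
          _ = (y * (z * z) * y⁻¹) * z⁻¹ * z⁻¹ := by group
          _ = 1 := by rw [e2]; group
      have hyw : y * w = w * y := hom w hwZ hww
      have h2 : y * w * y⁻¹ = w := by rw [hyw]; group
      have h3 : y * z * y⁻¹ = w * z := by rw [hw]; group
      have hw1 : w = 1 := eq_one_of_conj_eq y z w hy h3 h2 1 (by rw [pow_one, pow_two]; exact hww)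
      rw [hw1, one_mul] at h3
      calc y * z = (y * z * y⁻¹) * y := by group
        _ = z * y := by rw [h3]
  intro z hz
  obtain ⟨k, hk⟩ := hZp ⟨z, hz⟩
  have hk' : z ^ 2 ^ k = 1 := by simpa using congrArg Subtype.val hk
  exact key k z hz hk'

/-- Elements of a `p`-subgroup `R` of `M` can be simultaneously conjugated into a Sylow
`p`-subgroup contained in `M` by an element of `M`. -/
theorem exists_conj_into_sylow [Finite G] {p : ℕ} [Fact p.Prime] (P : Sylow p G)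
    (M : Subgroup G) (hPM : (P : Subgroup G) ≤ M) (R : Subgroup G) (hRM : R ≤ M)
    (hR : IsPGroup p R) : ∃ m ∈ M, ∀ r ∈ R, m⁻¹ * r * m ∈ (P : Subgroup G) := by
  have hR' : IsPGroup p (R.subgroupOf M) := hR.comap_subtype
  obtain ⟨P', hP'⟩ := hR'.exists_le_sylow
  obtain ⟨m, hm⟩ := MulAction.exists_smul_eq M (P.subtype hPM) P'
  refine ⟨m, m.2, ?_⟩
  intro r hr
  have h1 : (⟨r, hRM hr⟩ : M) ∈ P' := hP' (Subgroup.mem_subgroupOf.mpr hr)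
  rw [← hm, ← SetLike.mem_coe, Sylow.coe_smul, Set.mem_smul_set_iff_inv_smul_mem] at h1
  have h2 : ((MulAut.conj m)⁻¹ • (⟨r, hRM hr⟩ : M) : M) ∈ (P.subtype hPM : Subgroup M) := h1
  rw [Sylow.coe_subtype, Subgroup.mem_subgroupOf] at h2
  simpa [MulAut.smul_def] using h2


/-! ### The configuration -/

/-- class at most two, elementwise -/
def Cl2 (T : Subgroup G) : Prop :=
  ∀ x ∈ T, ∀ y ∈ T, ∀ z ∈ T, (x * y * x⁻¹ * y⁻¹) * z = z * (x * y * x⁻¹ * y⁻¹)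

/-- `S` is a Sylow `2`-subgroup of class at most two, lying in a unique maximal subgroup `M`
of `H`, and `Q = O_2(H)` contains its centralizer. -/
structure Conf (S H M Q : Subgroup G) : Prop where
  hS2 : IsPGroup 2 S
  hSmax : ∀ R : Subgroup G, IsPGroup 2 R → S ≤ R → R ≤ S
  hcl : Cl2 S
  hSM : S ≤ M
  hMH : M ≤ H
  hQS : Q ≤ S
  hQinv : ∀ h ∈ H, ∀ q ∈ Q, h * q * h⁻¹ ∈ Q
  hQmax : ∀ R : Subgroup G, R ≤ S → (∀ h ∈ H, ∀ r ∈ R, h * r * h⁻¹ ∈ R) → R ≤ Q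
  hCQ : ∀ g : G, (∀ q ∈ Q, g * q = q * g) → g ∈ Q
  hMuniq : ∀ K : Subgroup G, S ≤ K → K ≤ H → K ≠ H → K ≤ M
  hNS : ∀ h ∈ H, (∀ s ∈ S, h * s * h⁻¹ ∈ S) → h ∈ M
  hSyl : ∀ R : Subgroup G, R ≤ M → IsPGroup 2 R → ∃ m ∈ M, ∀ r ∈ R, m⁻¹ * r * m ∈ S

namespace Conf

variable {S H M Q : Subgroup G}

theorem hSH (c : Conf S H M Q) : S ≤ H := c.hSM.trans c.hMH

theorem hQH (c : Conf S H M Q) : Q ≤ H := c.hQS.trans c.hSH

theorem comm_mem (c : Conf S H M Q) (s₁ : G) (h₁ : s₁ ∈ S) (s₂ : G) (h₂ : s₂ ∈ S) :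
    s₁ * s₂ * s₁⁻¹ * s₂⁻¹ ∈ Q :=
  c.hCQ _ (fun q hq => c.hcl s₁ h₁ s₂ h₂ q (c.hQS hq))

theorem G1 (c : Conf S H M Q) (y : G) (hy : y ∈ H)
    (h : ∀ s ∈ S, y * s * y⁻¹ ∈ M) : y ∈ M := by
  obtain ⟨R, hRdef⟩ : ∃ R : Subgroup G, R = S.map (MulAut.conj y).toMonoidHom := ⟨_, rfl⟩
  have hRmem : ∀ s ∈ S, y * s * y⁻¹ ∈ R := by
    intro s hs
    rw [hRdef]
    exact ⟨s, hs, by simp [MulAut.conj_apply]⟩
  have hRM : R ≤ M := by
    rw [hRdef]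
    rintro _ ⟨s, hs, rfl⟩
    have := h s hs
    simpa [MulAut.conj_apply] using this
  have hR2 : IsPGroup 2 R := by rw [hRdef]; exact c.hS2.map _
  obtain ⟨m, hm, hmR⟩ := c.hSyl R hRM hR2
  have h1 : m⁻¹ * y ∈ M := by
    apply c.hNS (m⁻¹ * y) (mul_mem (inv_mem (c.hMH hm)) hy)
    intro s hs
    have h2 := hmR (y * s * y⁻¹) (hRmem s hs)
    have e : m⁻¹ * y * s * (m⁻¹ * y)⁻¹ = m⁻¹ * (y * s * y⁻¹) * m := by group
    rw [e]; exact h2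
  have e : y = m * (m⁻¹ * y) := by group
  rw [e]; exact mul_mem hm h1

theorem G2 (c : Conf S H M Q) (x : G) (hxH : x ∈ H) (hxM : x ∉ M) (K : Subgroup G)
    (hKH : K ≤ H) (hSK : S ≤ K) (hxK : ∀ s ∈ S, x * s * x⁻¹ ∈ K) : H ≤ K := by
  by_contra hne
  have hK : K ≠ H := fun h => hne (h ▸ le_rfl)
  have hKM := c.hMuniq K hSK hKH hK
  exact hxM (c.G1 x hxH (fun s hs => hKM (hxK s hs)))

theorem L (c : Conf S H M Q) (y : G) (hyH : y ∈ H) (hyM : y ∉ M) (s₀ : G)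
    (hs₀ : s₀ ∈ S) (hs₀Q : s₀ ∉ Q) (K : Subgroup G) (hKH : K ≤ H) (hSK : S ≤ K)
    (hb : y * s₀ * y⁻¹ ∈ K) : H ≤ K := by
  by_contra hne
  have hK : K ≠ H := fun h => hne (h ▸ le_rfl)
  have hKM := c.hMuniq K hSK hKH hK
  obtain ⟨b, hbdef⟩ : ∃ b, b = y * s₀ * y⁻¹ := ⟨_, rfl⟩
  have hbM : b ∈ M := hbdef ▸ hKM hb
  have hbH : b ∈ H := c.hMH hbM
  have hb2 : IsPGroup 2 (Subgroup.zpowers b) := by
    have e : Subgroup.zpowers b = (Subgroup.zpowers s₀).map (MulAut.conj y).toMonoidHom := by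
      rw [MonoidHom.map_zpowers, hbdef]
      simp [MulAut.conj_apply]
    rw [e]
    exact (c.hS2.to_le ((Subgroup.zpowers_le).mpr hs₀)).map _
  obtain ⟨m, hm, hmb⟩ := c.hSyl (Subgroup.zpowers b) ((Subgroup.zpowers_le).mpr hbM) hb2
  have hmH : m ∈ H := c.hMH hm
  obtain ⟨s₁, hs₁def⟩ : ∃ s₁, s₁ = m⁻¹ * b * m := ⟨_, rfl⟩
  have hs₁ : s₁ ∈ S := hs₁def ▸ hmb b (Subgroup.mem_zpowers b)
  have hbm : b = m * s₁ * m⁻¹ := by rw [hs₁def]; group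
  obtain ⟨Ks, hKsmem⟩ : ∃ Ks : Subgroup G, ∀ h, h ∈ Ks ↔ h ∈ H ∧ h * b * h⁻¹ * b⁻¹ ∈ Q := by
    refine ⟨{ carrier := {h | h ∈ H ∧ h * b * h⁻¹ * b⁻¹ ∈ Q}
              mul_mem' := ?_
              one_mem' := ?_
              inv_mem' := ?_ }, fun h => Iff.rfl⟩
    · rintro g h ⟨hg, hgq⟩ ⟨hh, hhq⟩
      refine ⟨mul_mem hg hh, ?_⟩
      have e : g * h * b * (g * h)⁻¹ * b⁻¹ =
          (g * (h * b * h⁻¹ * b⁻¹) * g⁻¹) * (g * b * g⁻¹ * b⁻¹) := by group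
      rw [e]; exact mul_mem (c.hQinv g hg _ hhq) hgq
    · refine ⟨one_mem _, ?_⟩
      have e : (1 : G) * b * 1⁻¹ * b⁻¹ = 1 := by group
      rw [e]; exact one_mem _
    · rintro g ⟨hg, hgq⟩
      refine ⟨inv_mem hg, ?_⟩
      have e : g⁻¹ * b * g⁻¹⁻¹ * b⁻¹ = g⁻¹ * (g * b * g⁻¹ * b⁻¹)⁻¹ * g⁻¹⁻¹ := by group
      rw [e]; exact c.hQinv g⁻¹ (inv_mem hg) _ (inv_mem hgq)
  have hKsH : Ks ≤ H := fun h hh => ((hKsmem h).mp hh).1
  have h1 : ∀ s ∈ S, m * s * m⁻¹ ∈ Ks := by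
    intro s hs
    rw [hKsmem]
    refine ⟨mul_mem (mul_mem hmH (c.hSH hs)) (inv_mem hmH), ?_⟩
    have e : m * s * m⁻¹ * b * (m * s * m⁻¹)⁻¹ * b⁻¹ = m * (s * s₁ * s⁻¹ * s₁⁻¹) * m⁻¹ := by
      rw [hbm]; group
    rw [e]
    exact c.hQinv m hmH _ (c.comm_mem s hs s₁ hs₁)
  have h2 : ∀ s ∈ S, y * s * y⁻¹ ∈ Ks := by
    intro s hs
    rw [hKsmem]
    refine ⟨mul_mem (mul_mem hyH (c.hSH hs)) (inv_mem hyH), ?_⟩
    have e : y * s * y⁻¹ * b * (y * s * y⁻¹)⁻¹ * b⁻¹ = y * (s * s₀ * s⁻¹ * s₀⁻¹) * y⁻¹ := by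
      rw [hbdef]; group
    rw [e]
    exact c.hQinv y hyH _ (c.comm_mem s hs s₀ hs₀)
  have h3 : ¬ H ≤ Ks := by
    intro hHK
    have h4 : ∀ h ∈ H, h * s₀ * h⁻¹ * s₀⁻¹ ∈ Q := by
      intro h hh
      have h5 : y * h * y⁻¹ ∈ Ks := hHK (mul_mem (mul_mem hyH hh) (inv_mem hyH))
      have h6 := ((hKsmem _).mp h5).2
      have e : y * h * y⁻¹ * b * (y * h * y⁻¹)⁻¹ * b⁻¹ = y * (h * s₀ * h⁻¹ * s₀⁻¹) * y⁻¹ := by
        rw [hbdef]; group
      rw [e] at h6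
      have h7 := c.hQinv y⁻¹ (inv_mem hyH) _ h6
      have e2 : y⁻¹ * (y * (h * s₀ * h⁻¹ * s₀⁻¹) * y⁻¹) * y⁻¹⁻¹ = h * s₀ * h⁻¹ * s₀⁻¹ := by
        group
      rwa [e2] at h7
    have hR : Q ⊔ Subgroup.zpowers s₀ ≤ Q := by
      apply c.hQmax
      · exact sup_le c.hQS ((Subgroup.zpowers_le).mpr hs₀)
      · intro h hh r hr
        have hle : Q ⊔ Subgroup.zpowers s₀ ≤
            (Q ⊔ Subgroup.zpowers s₀).comap (MulAut.conj h).toMonoidHom := by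
          apply sup_le
          · intro q hq
            rw [Subgroup.mem_comap]
            have h8 : h * q * h⁻¹ ∈ Q ⊔ Subgroup.zpowers s₀ :=
              (le_sup_left : Q ≤ Q ⊔ Subgroup.zpowers s₀) (c.hQinv h hh q hq)
            simpa [MulAut.conj_apply] using h8
          · rw [Subgroup.zpowers_le, Subgroup.mem_comap]
            have h8 : (h * s₀ * h⁻¹ * s₀⁻¹) * s₀ ∈ Q ⊔ Subgroup.zpowers s₀ :=
              mul_mem ((le_sup_left : Q ≤ Q ⊔ Subgroup.zpowers s₀) (h4 h hh))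
                ((le_sup_right : Subgroup.zpowers s₀ ≤ Q ⊔ Subgroup.zpowers s₀)
                  (Subgroup.mem_zpowers s₀))
            have e : (h * s₀ * h⁻¹ * s₀⁻¹) * s₀ = h * s₀ * h⁻¹ := by group
            rw [e] at h8
            simpa [MulAut.conj_apply] using h8
        have h9 := hle hr
        rw [Subgroup.mem_comap] at h9
        simpa [MulAut.conj_apply] using h9
    exact hs₀Q (hR ((le_sup_right : Subgroup.zpowers s₀ ≤ Q ⊔ Subgroup.zpowers s₀)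
      (Subgroup.mem_zpowers s₀)))
  obtain ⟨K2, hK2mem⟩ : ∃ K2 : Subgroup G, ∀ g, g ∈ K2 ↔ m * g * m⁻¹ ∈ Ks :=
    ⟨Ks.comap (MulAut.conj m).toMonoidHom, fun g => by
      rw [Subgroup.mem_comap]; simp [MulAut.conj_apply]⟩
  have hSK2 : S ≤ K2 := fun s hs => (hK2mem s).mpr (h1 s hs)
  have hK2H : K2 ≤ H := by
    intro g hg
    have h5 := hKsH ((hK2mem g).mp hg)
    have e : g = m⁻¹ * (m * g * m⁻¹) * m := by group
    rw [e]; exact mul_mem (mul_mem (inv_mem hmH) h5) hmH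
  have hK2ne : K2 ≠ H := by
    intro hK2
    apply h3
    intro h hh
    have h5 : m⁻¹ * h * m ∈ K2 := by
      rw [hK2]; exact mul_mem (mul_mem (inv_mem hmH) hh) hmH
    have h6 := (hK2mem _).mp h5
    have e : m * (m⁻¹ * h * m) * m⁻¹ = h := by group
    rwa [e] at h6
  have hK2M := c.hMuniq K2 hSK2 hK2H hK2ne
  apply hyM
  apply c.G1 y hyH
  intro s hs
  have h5 : m⁻¹ * (y * s * y⁻¹) * m ∈ K2 := by
    rw [hK2mem]
    have e : m * (m⁻¹ * (y * s * y⁻¹) * m) * m⁻¹ = y * s * y⁻¹ := by group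
    rw [e]; exact h2 s hs
  have h6 := hK2M h5
  have e : y * s * y⁻¹ = m * (m⁻¹ * (y * s * y⁻¹) * m) * m⁻¹ := by group
  rw [e]; exact mul_mem (mul_mem hm h6) (inv_mem hm)

theorem L' (c : Conf S H M Q) (x : G) (hxH : x ∈ H) (hxM : x ∉ M) (a : G)
    (ha : a ∈ S) (haQ : a ∉ Q) (K : Subgroup G) (hKH : K ≤ H)
    (hxK : ∀ s ∈ S, x * s * x⁻¹ ∈ K) (haK : a ∈ K) : H ≤ K := by
  obtain ⟨K', hK'mem⟩ : ∃ K' : Subgroup G, ∀ g, g ∈ K' ↔ x * g * x⁻¹ ∈ K :=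
    ⟨K.comap (MulAut.conj x).toMonoidHom, fun g => by
      rw [Subgroup.mem_comap]; simp [MulAut.conj_apply]⟩
  have hx' : x⁻¹ ∈ H := inv_mem hxH
  have hx'M : x⁻¹ ∉ M := fun h => hxM (by simpa using inv_mem h)
  have hK'H : K' ≤ H := by
    intro g hg
    have h5 := hKH ((hK'mem g).mp hg)
    have e : g = x⁻¹ * (x * g * x⁻¹) * x := by group
    rw [e]; exact mul_mem (mul_mem hx' h5) hxH
  have hSK' : S ≤ K' := fun s hs => (hK'mem s).mpr (hxK s hs)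
  have hb : x⁻¹ * a * x⁻¹⁻¹ ∈ K' := by
    rw [hK'mem]
    have e : x * (x⁻¹ * a * x⁻¹⁻¹) * x⁻¹ = a := by group
    rw [e]; exact haK
  have h0 := c.L x⁻¹ hx' hx'M a ha haQ K' hK'H hSK' hb
  intro h hh
  have h1 : x⁻¹ * h * x ∈ K' := h0 (mul_mem (mul_mem hx' hh) hxH)
  have h2 := (hK'mem _).mp h1
  have e : x * (x⁻¹ * h * x) * x⁻¹ = h := by group
  rwa [e] at h2

end Conf


/-! ### `Z(Q)`, `Ω₁(Z(Q))` and conjugates -/

/-- the conjugate `x R x⁻¹` -/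
def cj (x : G) (R : Subgroup G) : Subgroup G := R.map (MulAut.conj x).toMonoidHom

theorem mem_cj {x g : G} {R : Subgroup G} : g ∈ cj x R ↔ x⁻¹ * g * x ∈ R := by
  unfold cj
  constructor
  · rintro ⟨r, hr, rfl⟩
    simpa [mul_assoc] using hr
  · intro h
    exact ⟨x⁻¹ * g * x, h, by simp [mul_assoc]⟩

theorem conj_mem_cj {x r : G} {R : Subgroup G} (hr : r ∈ R) : x * r * x⁻¹ ∈ cj x R := by
  rw [mem_cj]
  have e : x⁻¹ * (x * r * x⁻¹) * x = r := by group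
  rw [e]; exact hr

theorem card_cj [Finite G] (x : G) (R : Subgroup G) : Nat.card (cj x R) = Nat.card R :=
  Subgroup.card_map_of_injective (MulAut.conj x).injective

theorem Cl2.cj {T : Subgroup G} (h : Cl2 T) (x : G) : Cl2 (cj x T) := by
  intro g₁ h₁ g₂ h₂ g₃ h₃
  rw [mem_cj] at h₁ h₂ h₃
  have h0 := h _ h₁ _ h₂ _ h₃
  calc (g₁ * g₂ * g₁⁻¹ * g₂⁻¹) * g₃
      = x * ((x⁻¹ * g₁ * x) * (x⁻¹ * g₂ * x) * (x⁻¹ * g₁ * x)⁻¹ * (x⁻¹ * g₂ * x)⁻¹ *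
          (x⁻¹ * g₃ * x)) * x⁻¹ := by group
    _ = x * ((x⁻¹ * g₃ * x) * ((x⁻¹ * g₁ * x) * (x⁻¹ * g₂ * x) * (x⁻¹ * g₁ * x)⁻¹ *
          (x⁻¹ * g₂ * x)⁻¹)) * x⁻¹ := by rw [h0]
    _ = g₃ * (g₁ * g₂ * g₁⁻¹ * g₂⁻¹) := by group

/-- the centre of `Q` -/
def ZQ (Q : Subgroup G) : Subgroup G := Q ⊓ Subgroup.centralizer (Q : Set G)

theorem mem_ZQ {Q : Subgroup G} {z : G} : z ∈ ZQ Q ↔ z ∈ Q ∧ ∀ q ∈ Q, q * z = z * q := by
  unfold ZQ
  rw [Subgroup.mem_inf, Subgroup.mem_centralizer_iff]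
  rfl

/-- `Ω₁(Z(Q))` -/
def VV (Q : Subgroup G) : Subgroup G where
  carrier := {v | v ∈ Q ∧ (∀ q ∈ Q, q * v = v * q) ∧ v * v = 1}
  mul_mem' := by
    rintro a b ⟨ha, hac, haa⟩ ⟨hb, hbc, hbb⟩
    refine ⟨mul_mem ha hb, fun q hq => ?_, ?_⟩
    · calc q * (a * b) = (q * a) * b := by group
        _ = (a * q) * b := by rw [hac q hq]
        _ = a * (q * b) := by group
        _ = a * (b * q) := by rw [hbc q hq]
        _ = a * b * q := by group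
    · have hab : b * a = a * b := hac b hb
      calc a * b * (a * b) = a * (b * a) * b := by group
        _ = a * (a * b) * b := by rw [hab]
        _ = (a * a) * (b * b) := by group
        _ = 1 := by rw [haa, hbb, one_mul]
  one_mem' := ⟨one_mem _, fun q _ => by rw [mul_one, one_mul], by rw [mul_one]⟩
  inv_mem' := by
    rintro a ⟨ha, hac, haa⟩
    have hinv : a⁻¹ = a := inv_eq_of_mul_eq_one_left haa
    rw [hinv]
    exact ⟨ha, hac, haa⟩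

theorem mem_VV {Q : Subgroup G} {v : G} :
    v ∈ VV Q ↔ v ∈ Q ∧ (∀ q ∈ Q, q * v = v * q) ∧ v * v = 1 := Iff.rfl

theorem VV_le (Q : Subgroup G) : VV Q ≤ Q := fun _ hv => hv.1

theorem VV_comm {Q : Subgroup G} {a b : G} (ha : a ∈ VV Q) (hb : b ∈ VV Q) : a * b = b * a :=
  hb.2.1 a ha.1

theorem VV_sq {Q : Subgroup G} {a : G} (ha : a ∈ VV Q) : a * a = 1 := ha.2.2

theorem VV_inv_eq {Q : Subgroup G} {a : G} (ha : a ∈ VV Q) : a⁻¹ = a :=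
  inv_eq_of_mul_eq_one_left ha.2.2

namespace Conf

variable {S H M Q : Subgroup G}

theorem hQinv' (c : Conf S H M Q) (h : G) (hh : h ∈ H) (q : G) (hq : q ∈ Q) :
    h⁻¹ * q * h ∈ Q := by
  have := c.hQinv h⁻¹ (inv_mem hh) q hq
  simpa using this

theorem VV_inv (c : Conf S H M Q) (h : G) (hh : h ∈ H) (v : G) (hv : v ∈ VV Q) :
    h * v * h⁻¹ ∈ VV Q := by
  refine ⟨c.hQinv h hh v hv.1, fun q hq => ?_, ?_⟩
  · have h1 := hv.2.1 _ (c.hQinv' h hh q hq)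
    calc q * (h * v * h⁻¹) = h * ((h⁻¹ * q * h) * v) * h⁻¹ := by group
      _ = h * (v * (h⁻¹ * q * h)) * h⁻¹ := by rw [h1]
      _ = h * v * h⁻¹ * q := by group
  · calc h * v * h⁻¹ * (h * v * h⁻¹) = h * (v * v) * h⁻¹ := by group
      _ = 1 := by rw [hv.2.2]; group

theorem ZQ_inv (c : Conf S H M Q) (h : G) (hh : h ∈ H) (z : G) (hz : z ∈ ZQ Q) :
    h * z * h⁻¹ ∈ ZQ Q := by
  rw [mem_ZQ] at hz ⊢
  refine ⟨c.hQinv h hh z hz.1, fun q hq => ?_⟩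
  have h1 := hz.2 _ (c.hQinv' h hh q hq)
  calc q * (h * z * h⁻¹) = h * ((h⁻¹ * q * h) * z) * h⁻¹ := by group
    _ = h * (z * (h⁻¹ * q * h)) * h⁻¹ := by rw [h1]
    _ = h * z * h⁻¹ * q := by group

theorem Q_le_cj (c : Conf S H M Q) (x : G) (hx : x ∈ H) : Q ≤ cj x S := by
  intro q hq
  rw [mem_cj]
  exact c.hQS (c.hQinv' x hx q hq)

theorem cj_le (c : Conf S H M Q) (x : G) (hx : x ∈ H) : cj x S ≤ H := by
  intro g hg
  rw [mem_cj] at hg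
  have e : g = x * (x⁻¹ * g * x) * x⁻¹ := by group
  rw [e]; exact mul_mem (mul_mem hx (c.hSH hg)) (inv_mem hx)

theorem comm_mem_ZQ (c : Conf S H M Q) (T : Subgroup G) (hQT : Q ≤ T) (hT : Cl2 T)
    (s₁ : G) (h₁ : s₁ ∈ T) (s₂ : G) (h₂ : s₂ ∈ T) : s₁ * s₂ * s₁⁻¹ * s₂⁻¹ ∈ ZQ Q := by
  rw [mem_ZQ]
  have h0 : ∀ q ∈ Q, (s₁ * s₂ * s₁⁻¹ * s₂⁻¹) * q = q * (s₁ * s₂ * s₁⁻¹ * s₂⁻¹) :=
    fun q hq => hT s₁ h₁ s₂ h₂ q (hQT hq)
  exact ⟨c.hCQ _ h0, fun q hq => (h0 q hq).symm⟩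

/-- `H` acts trivially on `Q / Z(Q)`. -/
theorem triv (c : Conf S H M Q) (x : G) (hxH : x ∈ H) (hxM : x ∉ M) :
    ∀ h ∈ H, ∀ q ∈ Q, h * q * h⁻¹ * q⁻¹ ∈ ZQ Q := by
  obtain ⟨KT, hKTmem⟩ : ∃ KT : Subgroup G,
      ∀ g, g ∈ KT ↔ g ∈ H ∧ ∀ q ∈ Q, g * q * g⁻¹ * q⁻¹ ∈ ZQ Q := by
    refine ⟨{ carrier := {g | g ∈ H ∧ ∀ q ∈ Q, g * q * g⁻¹ * q⁻¹ ∈ ZQ Q}
              mul_mem' := ?_
              one_mem' := ?_
              inv_mem' := ?_ }, fun h => Iff.rfl⟩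
    · rintro g h ⟨hg, hgq⟩ ⟨hh, hhq⟩
      refine ⟨mul_mem hg hh, fun q hq => ?_⟩
      have h1 := hhq q hq
      have h2 := hgq q hq
      have h3 := c.ZQ_inv g hg _ h1
      have e : g * h * q * (g * h)⁻¹ * q⁻¹ =
          (g * (h * q * h⁻¹ * q⁻¹) * g⁻¹) * (g * q * g⁻¹ * q⁻¹) := by group
      rw [e]; exact mul_mem h3 h2
    · refine ⟨one_mem _, fun q hq => ?_⟩
      have e : (1 : G) * q * 1⁻¹ * q⁻¹ = 1 := by group
      rw [e]; exact one_mem _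
    · rintro g ⟨hg, hgq⟩
      refine ⟨inv_mem hg, fun q hq => ?_⟩
      have hq' : g⁻¹ * q * g ∈ Q := c.hQinv' g hg q hq
      have h1 := hgq _ hq'
      have e : g⁻¹ * q * g⁻¹⁻¹ * q⁻¹ =
          (g * (g⁻¹ * q * g) * g⁻¹ * (g⁻¹ * q * g)⁻¹)⁻¹ := by group
      rw [e]; exact inv_mem h1
  have hKTH : KT ≤ H := fun g hg => ((hKTmem g).mp hg).1
  have hSKT : S ≤ KT := by
    intro s hs
    rw [hKTmem]
    exact ⟨c.hSH hs, fun q hq => c.comm_mem_ZQ S c.hQS c.hcl s hs q (c.hQS hq)⟩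
  have hxKT : ∀ s ∈ S, x * s * x⁻¹ ∈ KT := by
    intro s hs
    rw [hKTmem]
    refine ⟨mul_mem (mul_mem hxH (c.hSH hs)) (inv_mem hxH), fun q hq => ?_⟩
    exact c.comm_mem_ZQ (cj x S) (c.Q_le_cj x hxH) (c.hcl.cj x) _ (conj_mem_cj hs) q
      (c.Q_le_cj x hxH hq)
  have hHK := c.G2 x hxH hxM KT hKTH hSKT hxKT
  intro h hh
  exact ((hKTmem h).mp (hHK hh)).2

theorem two_pow_of_mem (c : Conf S H M Q) (s : G) (hs : s ∈ S) : ∃ k : ℕ, s ^ 2 ^ k = 1 := by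
  obtain ⟨k, hk⟩ := c.hS2 ⟨s, hs⟩
  exact ⟨k, by simpa using congrArg Subtype.val hk⟩

/-- odd order elements of `H` act faithfully on `Ω₁(Z(Q))` -/
theorem cvodd (c : Conf S H M Q) (x : G) (hxH : x ∈ H) (hxM : x ∉ M) (y : G) (hy : y ∈ H)
    (hodd : Odd (orderOf y)) (hyV : ∀ v ∈ VV Q, y * v = v * y) : y = 1 := by
  have hZQS : ZQ Q ≤ S := fun z hz => c.hQS (mem_ZQ.mp hz).1
  have h1 : ∀ z ∈ ZQ Q, y * z = z * y := by
    apply centralizes_of_omega y hodd (ZQ Q) (c.hS2.to_le hZQS)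
    · intro a ha b hb
      exact (mem_ZQ.mp hb).2 a (mem_ZQ.mp ha).1
    · exact fun z hz => c.ZQ_inv y hy z hz
    · intro z hz hzz
      exact hyV z ⟨(mem_ZQ.mp hz).1, (mem_ZQ.mp hz).2, hzz⟩
  have h2 : ∀ q ∈ Q, y * q = q * y := by
    intro q hq
    obtain ⟨z, hzdef⟩ : ∃ z, z = y * q * y⁻¹ * q⁻¹ := ⟨_, rfl⟩
    have hz : z ∈ ZQ Q := hzdef ▸ c.triv x hxH hxM y hy q hq
    have h3 : y * z * y⁻¹ = z := by rw [h1 z hz]; group
    have h4 : y * q * y⁻¹ = z * q := by rw [hzdef]; group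
    obtain ⟨k, hk⟩ := c.two_pow_of_mem z (hZQS hz)
    have hz1 : z = 1 := eq_one_of_conj_eq y q z hodd h4 h3 k hk
    rw [hz1, one_mul] at h4
    calc y * q = (y * q * y⁻¹) * y := by group
      _ = q * y := by rw [h4]
  have h3 : y ∈ Q := c.hCQ y h2
  obtain ⟨k, hk⟩ := c.two_pow_of_mem y (c.hQS h3)
  exact eq_one_of_odd_of_two_pow hodd k hk

/-- quadratic action of a Sylow `2`-subgroup on `Ω₁(Z(Q))` -/
theorem quad (c : Conf S H M Q) (T : Subgroup G) (hQT : Q ≤ T) (hT : Cl2 T) (hTH : T ≤ H)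
    (t : G) (ht : t ∈ T) (v : G) (hv : v ∈ VV Q) :
    t * v * t⁻¹ * v⁻¹ ∈ VV Q ∧
      ∀ t' ∈ T, t' * (t * v * t⁻¹ * v⁻¹) = (t * v * t⁻¹ * v⁻¹) * t' :=
  ⟨mul_mem (c.VV_inv t (hTH ht) v hv) (inv_mem hv),
    fun t' ht' => (hT t ht v (hQT hv.1) t' ht').symm⟩

end Conf


/-! ### The subspace fixed by the odd order elements -/

theorem orderOf_conj' (h y : G) : orderOf (h * y * h⁻¹) = orderOf y := by
  have := orderOf_injective (MulAut.conj h).toMonoidHom (MulAut.conj h).injective y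
  simpa [MulAut.conj_apply] using this

/-- For an `H`-invariant subgroup `N` and an element `b`, the elements of `H` that fix `b`
modulo `N` form a subgroup. -/
theorem exists_comm_subgroup (H N : Subgroup G) (hN : ∀ h ∈ H, ∀ n ∈ N, h * n * h⁻¹ ∈ N)
    (b : G) : ∃ K : Subgroup G, ∀ h, h ∈ K ↔ h ∈ H ∧ h * b * h⁻¹ * b⁻¹ ∈ N := by
  refine ⟨{ carrier := {h | h ∈ H ∧ h * b * h⁻¹ * b⁻¹ ∈ N}
            mul_mem' := ?_
            one_mem' := ?_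
            inv_mem' := ?_ }, fun h => Iff.rfl⟩
  · rintro g h ⟨hg, hgq⟩ ⟨hh, hhq⟩
    refine ⟨mul_mem hg hh, ?_⟩
    have e : g * h * b * (g * h)⁻¹ * b⁻¹ =
        (g * (h * b * h⁻¹ * b⁻¹) * g⁻¹) * (g * b * g⁻¹ * b⁻¹) := by group
    rw [e]; exact mul_mem (hN g hg _ hhq) hgq
  · refine ⟨one_mem _, ?_⟩
    have e : (1 : G) * b * 1⁻¹ * b⁻¹ = 1 := by group
    rw [e]; exact one_mem _
  · rintro g ⟨hg, hgq⟩
    refine ⟨inv_mem hg, ?_⟩
    have e : g⁻¹ * b * g⁻¹⁻¹ * b⁻¹ = g⁻¹ * (g * b * g⁻¹ * b⁻¹)⁻¹ * g⁻¹⁻¹ := by group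
    rw [e]; exact hN g⁻¹ (inv_mem hg) _ (inv_mem hgq)

/-- For `H`-invariant subgroups `N` and `W`, the elements of `H` acting trivially on `W`
modulo `N` form a subgroup. -/
theorem exists_comm_subgroup_all (H N W : Subgroup G)
    (hN : ∀ h ∈ H, ∀ n ∈ N, h * n * h⁻¹ ∈ N) (hW : ∀ h ∈ H, ∀ w ∈ W, h * w * h⁻¹ ∈ W) :
    ∃ K : Subgroup G, ∀ g, g ∈ K ↔ g ∈ H ∧ ∀ w ∈ W, g * w * g⁻¹ * w⁻¹ ∈ N := by
  refine ⟨{ carrier := {g | g ∈ H ∧ ∀ w ∈ W, g * w * g⁻¹ * w⁻¹ ∈ N}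
            mul_mem' := ?_
            one_mem' := ?_
            inv_mem' := ?_ }, fun h => Iff.rfl⟩
  · rintro g h ⟨hg, hgq⟩ ⟨hh, hhq⟩
    refine ⟨mul_mem hg hh, fun q hq => ?_⟩
    have e : g * h * q * (g * h)⁻¹ * q⁻¹ =
        (g * (h * q * h⁻¹ * q⁻¹) * g⁻¹) * (g * q * g⁻¹ * q⁻¹) := by group
    rw [e]; exact mul_mem (hN g hg _ (hhq q hq)) (hgq q hq)
  · refine ⟨one_mem _, fun q hq => ?_⟩
    have e : (1 : G) * q * 1⁻¹ * q⁻¹ = 1 := by group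
    rw [e]; exact one_mem _
  · rintro g ⟨hg, hgq⟩
    refine ⟨inv_mem hg, fun q hq => ?_⟩
    have hq' : g⁻¹ * q * g ∈ W := by
      have := hW g⁻¹ (inv_mem hg) q hq
      simpa using this
    have h1 := hgq _ hq'
    have e : g⁻¹ * q * g⁻¹⁻¹ * q⁻¹ =
        (g * (g⁻¹ * q * g) * g⁻¹ * (g⁻¹ * q * g)⁻¹)⁻¹ := by group
    rw [e]; exact inv_mem h1

/-- the elements of `Ω₁(Z(Q))` centralized by every element of odd order of `H` -/
def ZZ (H Q : Subgroup G) : Subgroup G where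
  carrier := {v | v ∈ VV Q ∧ ∀ y ∈ H, Odd (orderOf y) → y * v = v * y}
  mul_mem' := by
    rintro a b ⟨ha, hac⟩ ⟨hb, hbc⟩
    refine ⟨mul_mem ha hb, fun y hy ho => ?_⟩
    calc y * (a * b) = (y * a) * b := by group
      _ = (a * y) * b := by rw [hac y hy ho]
      _ = a * (y * b) := by group
      _ = a * (b * y) := by rw [hbc y hy ho]
      _ = a * b * y := by group
  one_mem' := ⟨one_mem _, fun y _ _ => by rw [mul_one, one_mul]⟩
  inv_mem' := by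
    rintro a ⟨ha, hac⟩
    rw [VV_inv_eq ha]; exact ⟨ha, hac⟩

theorem mem_ZZ {H Q : Subgroup G} {v : G} :
    v ∈ ZZ H Q ↔ v ∈ VV Q ∧ ∀ y ∈ H, Odd (orderOf y) → y * v = v * y := Iff.rfl

theorem ZZ_le (H Q : Subgroup G) : ZZ H Q ≤ VV Q := fun _ hv => hv.1

namespace Conf

variable {S H M Q : Subgroup G}

theorem ZZ_inv (c : Conf S H M Q) (h : G) (hh : h ∈ H) (z : G) (hz : z ∈ ZZ H Q) :
    h * z * h⁻¹ ∈ ZZ H Q := by
  refine ⟨c.VV_inv h hh z hz.1, fun y hy ho => ?_⟩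
  have hy' : h⁻¹ * y * h ∈ H := mul_mem (mul_mem (inv_mem hh) hy) hh
  have ho' : Odd (orderOf (h⁻¹ * y * h)) := by
    have := orderOf_conj' h⁻¹ y
    rw [inv_inv] at this
    rw [this]; exact ho
  have h1 := hz.2 _ hy' ho'
  calc y * (h * z * h⁻¹) = h * ((h⁻¹ * y * h) * z) * h⁻¹ := by group
    _ = h * (z * (h⁻¹ * y * h)) * h⁻¹ := by rw [h1]
    _ = h * z * h⁻¹ * y := by group

/-- a vector fixed by `H` modulo `ZZ` lies in `ZZ` -/
theorem ZZ_K (c : Conf S H M Q) (v : G) (hv : v ∈ VV Q)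
    (h : ∀ g ∈ H, g * v * g⁻¹ * v⁻¹ ∈ ZZ H Q) : v ∈ ZZ H Q := by
  refine ⟨hv, fun y hy ho => ?_⟩
  obtain ⟨w, hwdef⟩ : ∃ w, w = y * v * y⁻¹ * v⁻¹ := ⟨_, rfl⟩
  have hw : w ∈ ZZ H Q := hwdef ▸ h y hy
  have h3 : y * w * y⁻¹ = w := by rw [hw.2 y hy ho]; group
  have h4 : y * v * y⁻¹ = w * v := by rw [hwdef]; group
  have hw1 : w = 1 :=
    eq_one_of_conj_eq y v w ho h4 h3 1 (by rw [pow_one, pow_two]; exact VV_sq hw.1)
  rw [hw1, one_mul] at h4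
  calc y * v = (y * v * y⁻¹) * y := by group
    _ = v * y := by rw [h4]

theorem claimA (c : Conf S H M Q) (x : G) (hxH : x ∈ H) (hxM : x ∉ M) (v : G)
    (hv : v ∈ VV Q) (hvx : ∀ s ∈ S, (x * s * x⁻¹) * v = v * (x * s * x⁻¹)) (a : G)
    (ha : a ∈ S) (haQ : a ∉ Q) (hav : a * v * a⁻¹ * v⁻¹ ∈ ZZ H Q) : v ∈ ZZ H Q := by
  obtain ⟨K, hK⟩ := exists_comm_subgroup H (ZZ H Q) c.ZZ_inv v
  have hKH : K ≤ H := fun g hg => ((hK g).mp hg).1
  have hxK : ∀ s ∈ S, x * s * x⁻¹ ∈ K := by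
    intro s hs
    rw [hK]
    refine ⟨mul_mem (mul_mem hxH (c.hSH hs)) (inv_mem hxH), ?_⟩
    have e : x * s * x⁻¹ * v * (x * s * x⁻¹)⁻¹ * v⁻¹ = 1 := by
      rw [hvx s hs]; group
    rw [e]; exact one_mem _
  have haK : a ∈ K := (hK a).mpr ⟨c.hSH ha, hav⟩
  have hHK := c.L' x hxH hxM a ha haQ K hKH hxK haK
  exact c.ZZ_K v hv (fun g hg => ((hK g).mp (hHK hg)).2)

theorem claimB (c : Conf S H M Q) (x : G) (hxH : x ∈ H) (hxM : x ∉ M) (v : G)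
    (hv : v ∈ VV Q) (hvS : ∀ s ∈ S, s * v = v * s) (s₀ : G) (hs₀ : s₀ ∈ S) (hs₀Q : s₀ ∉ Q)
    (hbv : (x * s₀ * x⁻¹) * v * (x * s₀ * x⁻¹)⁻¹ * v⁻¹ ∈ ZZ H Q) : v ∈ ZZ H Q := by
  obtain ⟨K, hK⟩ := exists_comm_subgroup H (ZZ H Q) c.ZZ_inv v
  have hKH : K ≤ H := fun g hg => ((hK g).mp hg).1
  have hSK : S ≤ K := by
    intro s hs
    rw [hK]
    refine ⟨c.hSH hs, ?_⟩
    have e : s * v * s⁻¹ * v⁻¹ = 1 := by
      rw [hvS s hs]; group
    rw [e]; exact one_mem _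
  have hbK : x * s₀ * x⁻¹ ∈ K :=
    (hK _).mpr ⟨mul_mem (mul_mem hxH (c.hSH hs₀)) (inv_mem hxH), hbv⟩
  have hHK := c.L x hxH hxM s₀ hs₀ hs₀Q K hKH hSK hbK
  exact c.ZZ_K v hv (fun g hg => ((hK g).mp (hHK hg)).2)

theorem claimC [Finite G] (c : Conf S H M Q) (x : G) (hxH : x ∈ H) (hxM : x ∉ M) :
    ∃ u ∈ VV Q, (∀ s ∈ S, s * u = u * s) ∧ u ∉ ZZ H Q := by
  by_contra hcon
  push Not at hcon
  -- the same for the conjugate Sylow subgroup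
  have hcon' : ∀ v ∈ VV Q, (∀ s ∈ S, (x * s * x⁻¹) * v = v * (x * s * x⁻¹)) → v ∈ ZZ H Q := by
    intro v hv hvx
    have hu : x⁻¹ * v * x ∈ VV Q := by
      have := c.VV_inv x⁻¹ (inv_mem hxH) v hv
      simpa using this
    have hus : ∀ s ∈ S, s * (x⁻¹ * v * x) = (x⁻¹ * v * x) * s := by
      intro s hs
      calc s * (x⁻¹ * v * x) = x⁻¹ * ((x * s * x⁻¹) * v) * x := by group
        _ = x⁻¹ * (v * (x * s * x⁻¹)) * x := by rw [hvx s hs]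
        _ = (x⁻¹ * v * x) * s := by group
    have h1 := c.ZZ_inv x hxH _ (hcon _ hu hus)
    have e : x * (x⁻¹ * v * x) * x⁻¹ = v := by group
    rwa [e] at h1
  obtain ⟨K, hK⟩ := exists_comm_subgroup_all H (ZZ H Q) (VV Q) c.ZZ_inv c.VV_inv
  have hKH : K ≤ H := fun g hg => ((hK g).mp hg).1
  have hSK : S ≤ K := by
    intro s hs
    rw [hK]
    refine ⟨c.hSH hs, fun v hv => ?_⟩
    have h1 := c.quad S c.hQS c.hcl c.hSH s hs v hv
    exact hcon _ h1.1 h1.2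
  have hxK : ∀ s ∈ S, x * s * x⁻¹ ∈ K := by
    intro s hs
    rw [hK]
    refine ⟨mul_mem (mul_mem hxH (c.hSH hs)) (inv_mem hxH), fun v hv => ?_⟩
    have h1 := c.quad (cj x S) (c.Q_le_cj x hxH) (c.hcl.cj x) (c.cj_le x hxH) _
      (conj_mem_cj hs) v hv
    exact hcon' _ h1.1 (fun s' hs' => h1.2 _ (conj_mem_cj hs'))
  have hHK := c.G2 x hxH hxM K hKH hSK hxK
  have hVZ : ∀ v ∈ VV Q, v ∈ ZZ H Q :=
    fun v hv => c.ZZ_K v hv (fun g hg => ((hK g).mp (hHK hg)).2 v hv)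
  have hodd : ∀ y ∈ H, Odd (orderOf y) → y = 1 :=
    fun y hy ho => c.cvodd x hxH hxM y hy ho (fun v hv => (hVZ v hv).2 y hy ho)
  have hH2 : IsPGroup 2 H := by
    rintro ⟨d, hd⟩
    obtain ⟨k, m, hm, hkm⟩ := Nat.exists_eq_two_pow_mul_odd (orderOf_pos d).ne'
    refine ⟨k, Subtype.ext ?_⟩
    show d ^ 2 ^ k = 1
    apply hodd _ (pow_mem hd _)
    apply Odd.of_dvd_nat hm
    apply orderOf_dvd_of_pow_eq_one
    rw [← pow_mul, ← hkm, pow_orderOf_eq_one]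
  exact hxM (c.hSM (c.hSmax H hH2 c.hSH hxH))

theorem claimC' [Finite G] (c : Conf S H M Q) (x : G) (hxH : x ∈ H) (hxM : x ∉ M) :
    ∃ v ∈ VV Q, (∀ s ∈ S, (x * s * x⁻¹) * v = v * (x * s * x⁻¹)) ∧ v ∉ ZZ H Q := by
  obtain ⟨u, hu, hus, huZ⟩ := c.claimC x hxH hxM
  refine ⟨x * u * x⁻¹, c.VV_inv x hxH u hu, fun s hs => ?_, fun h => huZ ?_⟩
  · calc x * s * x⁻¹ * (x * u * x⁻¹) = x * (s * u) * x⁻¹ := by group
      _ = x * (u * s) * x⁻¹ := by rw [hus s hs]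
      _ = x * u * x⁻¹ * (x * s * x⁻¹) := by group
  · have h1 := c.ZZ_inv x⁻¹ (inv_mem hxH) _ h
    have e : x⁻¹ * (x * u * x⁻¹) * x⁻¹⁻¹ = u := by group
    rwa [e] at h1

end Conf


/-! ### Counting -/

section counting

variable [Finite G]

theorem relIndex_ne_zero' (A B : Subgroup G) : A.relIndex B ≠ 0 := by
  unfold Subgroup.relIndex
  exact Subgroup.index_ne_zero_of_finite

theorem card_eq_mul_relIndex {A B : Subgroup G} (h : A ≤ B) :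
    Nat.card B = Nat.card A * A.relIndex B := by
  have := Subgroup.card_mul_index (A.subgroupOf B)
  rw [Nat.card_congr (Subgroup.subgroupOfEquivOfLe h).toEquiv] at this
  exact this.symm

theorem card_subgroupOf_eq (A B : Subgroup G) :
    Nat.card (A.subgroupOf B) = Nat.card (A ⊓ B : Subgroup G) := by
  rw [← Subgroup.inf_subgroupOf_right]
  exact Nat.card_congr (Subgroup.subgroupOfEquivOfLe inf_le_right).toEquiv

theorem card_ineq_D (V D C Cb Z₀ : Subgroup G) (hDV : D ≤ V) (hCb : Cb ≤ V) (hC : C ≤ Cb)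
    (hker : Cb ⊓ D ≤ D ⊓ Z₀) :
    Nat.card D * Nat.card C ≤ Nat.card V * Nat.card (D ⊓ Z₀ : Subgroup G) := by
  have e1 : Nat.card D = Nat.card (Cb ⊓ D : Subgroup G) * Cb.relIndex D := by
    have := card_eq_mul_relIndex (inf_le_right : Cb ⊓ D ≤ D)
    rwa [Subgroup.inf_relIndex_right] at this
  have e2 : Nat.card V = Nat.card Cb * Cb.relIndex V := card_eq_mul_relIndex hCb
  have h1 : Nat.card (Cb ⊓ D : Subgroup G) ≤ Nat.card (D ⊓ Z₀ : Subgroup G) :=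
    Subgroup.card_le_of_le hker
  have h2 : Cb.relIndex D ≤ Cb.relIndex V :=
    Subgroup.relIndex_le_of_le_right hDV (relIndex_ne_zero' _ _)
  have h3 : Nat.card C ≤ Nat.card Cb := Subgroup.card_le_of_le hC
  calc Nat.card D * Nat.card C
      = Nat.card (Cb ⊓ D : Subgroup G) * Cb.relIndex D * Nat.card C := by rw [e1]
    _ ≤ Nat.card (D ⊓ Z₀ : Subgroup G) * Cb.relIndex V * Nat.card Cb :=
        Nat.mul_le_mul (Nat.mul_le_mul h1 h2) h3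
    _ = Nat.card V * Nat.card (D ⊓ Z₀ : Subgroup G) := by rw [e2]; ring

end counting

theorem surj_mod {X Y : Type*} [Group X] [CommGroup Y] [Finite X] [Finite Y] (ψ : X →* Y)
    (Z₀ : Subgroup Y) :
    Nat.card X * Nat.card Z₀ ≤ Nat.card Y * Nat.card (Z₀.comap ψ) ∧
    (Nat.card X * Nat.card Z₀ = Nat.card Y * Nat.card (Z₀.comap ψ) →
      ∀ u : Y, ∃ a : X, ∃ z ∈ Z₀, ψ a * z = u) := by
  obtain ⟨φ, hφ⟩ : ∃ φ : X →* Y ⧸ Z₀, φ = (QuotientGroup.mk' Z₀).comp ψ := ⟨_, rfl⟩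
  have hker : φ.ker = Z₀.comap ψ := by
    rw [hφ, ← MonoidHom.comap_ker, QuotientGroup.ker_mk']
  have e1 : Nat.card (Z₀.comap ψ) * Nat.card φ.range = Nat.card X := by
    have := Subgroup.card_mul_index φ.ker
    rwa [Subgroup.index_ker, hker] at this
  have e2 : Nat.card Y = Nat.card (Y ⧸ Z₀) * Nat.card Z₀ :=
    Subgroup.card_eq_card_quotient_mul_card_subgroup Z₀
  have h1 : Nat.card φ.range ≤ Nat.card (Y ⧸ Z₀) := Subgroup.card_le_card_group _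
  have hpos1 : 0 < Nat.card (Z₀.comap ψ) := Nat.card_pos
  have hpos2 : 0 < Nat.card Z₀ := Nat.card_pos
  constructor
  · calc Nat.card X * Nat.card Z₀
        = Nat.card (Z₀.comap ψ) * Nat.card φ.range * Nat.card Z₀ := by rw [e1]
      _ ≤ Nat.card (Z₀.comap ψ) * Nat.card (Y ⧸ Z₀) * Nat.card Z₀ :=
          Nat.mul_le_mul_right _ (Nat.mul_le_mul_left _ h1)
      _ = Nat.card Y * Nat.card (Z₀.comap ψ) := by rw [e2]; ring
  · intro heq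
    have h2 : Nat.card φ.range = Nat.card (Y ⧸ Z₀) := by
      have h3 : Nat.card (Z₀.comap ψ) * Nat.card φ.range * Nat.card Z₀ =
          Nat.card (Z₀.comap ψ) * Nat.card (Y ⧸ Z₀) * Nat.card Z₀ := by
        rw [e1, heq, e2]; ring
      exact Nat.eq_of_mul_eq_mul_left hpos1 (Nat.eq_of_mul_eq_mul_right hpos2 h3)
    have h3 : φ.range = ⊤ := Subgroup.eq_top_of_card_eq _ h2
    intro u
    have h4 : (QuotientGroup.mk' Z₀ u) ∈ φ.range := by rw [h3]; trivial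
    obtain ⟨a, ha⟩ := h4
    refine ⟨a, (ψ a)⁻¹ * u, ?_, by group⟩
    rw [hφ] at ha
    have h5 : (QuotientGroup.mk (ψ a) : Y ⧸ Z₀) = QuotientGroup.mk u := ha
    exact QuotientGroup.eq.mp h5

namespace Conf

variable {S H M Q : Subgroup G} [Finite G]

/-- the offender inequality -/
theorem off (c : Conf S H M Q) (A' : Subgroup G) (hA'e : IsElementaryAbelian 2 A')
    (hmax : ∀ B : Subgroup G, B ≤ S → IsElementaryAbelian 2 B → Nat.card B ≤ Nat.card A') :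
    Nat.card (VV Q) * Nat.card (A' ⊓ Q : Subgroup G) ≤
      Nat.card A' * Nat.card (VV Q ⊓ Subgroup.centralizer (A' : Set G) : Subgroup G) := by
  have hA'c := hA'e.1
  obtain ⟨A₁, hA₁⟩ : ∃ A₁ : Subgroup G, A₁ = A' ⊓ Q := ⟨_, rfl⟩
  have hA₁A : A₁ ≤ A' := hA₁ ▸ inf_le_left
  have hA₁Q : A₁ ≤ Q := hA₁ ▸ inf_le_right
  have hA₁V : A₁ ≤ Subgroup.centralizer (VV Q : Set G) := by
    intro a ha
    rw [Subgroup.mem_centralizer_iff]
    intro v hv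
    exact (hv.2.1 a (hA₁Q ha)).symm
  have hVA₁ : VV Q ≤ Subgroup.centralizer (A₁ : Set G) := Subgroup.le_centralizer_iff.mp hA₁V
  have hVV : VV Q ≤ Subgroup.centralizer (VV Q : Set G) := by
    intro x hx
    rw [Subgroup.mem_centralizer_iff]
    intro y hy
    exact VV_comm hy hx
  have hAA : A₁ ≤ Subgroup.centralizer (A₁ : Set G) := by
    intro x hx
    rw [Subgroup.mem_centralizer_iff]
    intro y hy
    exact setLike_mul_comm (hA₁A hy) (hA₁A hx)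
  have h1 : A₁ ⊔ VV Q ≤ Subgroup.centralizer (A₁ : Set G) := sup_le hAA hVA₁
  have h2 : A₁ ⊔ VV Q ≤ Subgroup.centralizer (VV Q : Set G) := sup_le hA₁V hVV
  have hXc : IsMulCommutative ↥(A₁ ⊔ VV Q) :=
    Subgroup.le_centralizer_iff_isMulCommutative.mp
      (sup_le (Subgroup.le_centralizer_iff.mp h1) (Subgroup.le_centralizer_iff.mp h2))
  have hXS : A₁ ⊔ VV Q ≤ S := sup_le (hA₁Q.trans c.hQS) ((VV_le Q).trans c.hQS)
  have hXsq : ∀ x ∈ A₁ ⊔ VV Q, x ^ 2 = 1 := by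
    obtain ⟨E, hE⟩ : ∃ E : Subgroup G, ∀ x, x ∈ E ↔ x ∈ A₁ ⊔ VV Q ∧ x * x = 1 := by
      refine ⟨{ carrier := {x | x ∈ A₁ ⊔ VV Q ∧ x * x = 1}
                mul_mem' := ?_
                one_mem' := ⟨one_mem _, mul_one 1⟩
                inv_mem' := ?_ }, fun x => Iff.rfl⟩
      · rintro a b ⟨ha, haa⟩ ⟨hb, hbb⟩
        refine ⟨mul_mem ha hb, ?_⟩
        have hab : b * a = a * b := setLike_mul_comm hb ha
        calc a * b * (a * b) = a * (b * a) * b := by group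
          _ = a * (a * b) * b := by rw [hab]
          _ = (a * a) * (b * b) := by group
          _ = 1 := by rw [haa, hbb, one_mul]
      · rintro a ⟨ha, haa⟩
        have hinv : a⁻¹ = a := inv_eq_of_mul_eq_one_left haa
        rw [hinv]; exact ⟨ha, haa⟩
    have hle : A₁ ⊔ VV Q ≤ E := by
      apply sup_le
      · intro a ha
        rw [hE]
        refine ⟨(le_sup_left : A₁ ≤ A₁ ⊔ VV Q) ha, ?_⟩
        rw [← pow_two]; exact hA'e.2 a (hA₁A ha)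
      · intro v hv
        rw [hE]
        exact ⟨(le_sup_right : VV Q ≤ A₁ ⊔ VV Q) hv, VV_sq hv⟩
    intro x hx
    rw [pow_two]; exact ((hE x).mp (hle hx)).2
  have hXe : IsElementaryAbelian 2 (A₁ ⊔ VV Q) := ⟨hXc, hXsq⟩
  have hc2 : Nat.card ↥(A₁ ⊔ VV Q) ≤ Nat.card A' := hmax _ hXS hXe
  have e1 : Nat.card A₁ = Nat.card (VV Q ⊓ A₁ : Subgroup G) * (VV Q).relIndex A₁ := by
    have := card_eq_mul_relIndex (inf_le_right : VV Q ⊓ A₁ ≤ A₁)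
    rwa [Subgroup.inf_relIndex_right] at this
  have e2 : Nat.card ↥(A₁ ⊔ VV Q) = Nat.card (VV Q) * (VV Q).relIndex (A₁ ⊔ VV Q) :=
    card_eq_mul_relIndex le_sup_right
  have h3 : (VV Q).relIndex A₁ ≤ (VV Q).relIndex (A₁ ⊔ VV Q) :=
    Subgroup.relIndex_le_of_le_right le_sup_left (relIndex_ne_zero' _ _)
  have h4 : Nat.card (VV Q ⊓ A₁ : Subgroup G) ≤
      Nat.card (VV Q ⊓ Subgroup.centralizer (A' : Set G) : Subgroup G) := by
    apply Subgroup.card_le_of_le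
    intro v hv
    rw [Subgroup.mem_inf] at hv ⊢
    refine ⟨hv.1, ?_⟩
    rw [Subgroup.mem_centralizer_iff]
    intro a ha
    exact setLike_mul_comm ha (hA₁A hv.2)
  calc Nat.card (VV Q) * Nat.card (A' ⊓ Q : Subgroup G)
      = Nat.card (VV Q) * Nat.card A₁ := by rw [hA₁]
    _ = Nat.card (VV Q) * (Nat.card (VV Q ⊓ A₁ : Subgroup G) * (VV Q).relIndex A₁) := by
        rw [← e1]
    _ ≤ Nat.card (VV Q) * (Nat.card (VV Q ⊓ A₁ : Subgroup G) *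
          (VV Q).relIndex (A₁ ⊔ VV Q)) :=
        Nat.mul_le_mul_left _ (Nat.mul_le_mul_left _ h3)
    _ = Nat.card ↥(A₁ ⊔ VV Q) * Nat.card (VV Q ⊓ A₁ : Subgroup G) := by rw [e2]; ring
    _ ≤ Nat.card A' * Nat.card (VV Q ⊓ Subgroup.centralizer (A' : Set G) : Subgroup G) :=
        Nat.mul_le_mul hc2 h4

end Conf


namespace Conf

variable {S H M Q : Subgroup G} [Finite G]

theorem claimD (c : Conf S H M Q) (x : G) (hxH : x ∈ H) (hxM : x ∉ M) (A' : Subgroup G)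
    (s₀ : G) (hs₀ : s₀ ∈ S) (hs₀Q : s₀ ∉ Q) (hbA : x * s₀ * x⁻¹ ∈ A') :
    Nat.card (VV Q ⊓ Subgroup.centralizer (S : Set G) : Subgroup G) *
        Nat.card (VV Q ⊓ Subgroup.centralizer (A' : Set G) : Subgroup G) ≤
      Nat.card (VV Q) *
        Nat.card ((VV Q ⊓ Subgroup.centralizer (S : Set G)) ⊓ ZZ H Q : Subgroup G) := by
  apply card_ineq_D (VV Q) (VV Q ⊓ Subgroup.centralizer (S : Set G))
    (VV Q ⊓ Subgroup.centralizer (A' : Set G))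
    (VV Q ⊓ Subgroup.centralizer ({x * s₀ * x⁻¹} : Set G)) (ZZ H Q) inf_le_left inf_le_left
  · apply inf_le_inf_left
    apply Subgroup.centralizer_le
    intro y hy
    rw [Set.mem_singleton_iff] at hy
    rw [hy]; exact hbA
  · intro v hv
    rw [Subgroup.mem_inf, Subgroup.mem_inf, Subgroup.mem_inf] at hv
    obtain ⟨⟨hvV, hvb⟩, -, hvS⟩ := hv
    rw [Subgroup.mem_centralizer_iff] at hvb hvS
    refine Subgroup.mem_inf.mpr ⟨Subgroup.mem_inf.mpr ⟨hvV, Subgroup.mem_centralizer_iff.mpr hvS⟩,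
      ?_⟩
    apply c.claimB x hxH hxM v hvV hvS s₀ hs₀ hs₀Q
    have e : x * s₀ * x⁻¹ * v * (x * s₀ * x⁻¹)⁻¹ * v⁻¹ = 1 := by
      rw [hvb _ (Set.mem_singleton _)]; group
    rw [e]; exact one_mem _

theorem claimE (c : Conf S H M Q) (x : G) (hxH : x ∈ H) (hxM : x ∉ M) (A : Subgroup G)
    (hAS : A ≤ S) (v : G) (hv : v ∈ VV Q)
    (hvx : ∀ s ∈ S, (x * s * x⁻¹) * v = v * (x * s * x⁻¹)) (hvZ : v ∉ ZZ H Q) :
    Nat.card A *
        Nat.card (ZZ H Q ⊓ (VV Q ⊓ Subgroup.centralizer (S : Set G)) : Subgroup G) ≤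
      Nat.card (VV Q ⊓ Subgroup.centralizer (S : Set G) : Subgroup G) *
        Nat.card (Q ⊓ A : Subgroup G) ∧
    (Nat.card A *
        Nat.card (ZZ H Q ⊓ (VV Q ⊓ Subgroup.centralizer (S : Set G)) : Subgroup G) =
      Nat.card (VV Q ⊓ Subgroup.centralizer (S : Set G) : Subgroup G) *
        Nat.card (Q ⊓ A : Subgroup G) →
      ∀ u ∈ VV Q ⊓ Subgroup.centralizer (S : Set G), ∃ a ∈ A, ∃ z ∈ ZZ H Q,
        (a * v * a⁻¹ * v⁻¹) * z = u) := by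
  obtain ⟨D, hD⟩ : ∃ D : Subgroup G, D = VV Q ⊓ Subgroup.centralizer (S : Set G) := ⟨_, rfl⟩
  rw [← hD]
  have hDmem : ∀ g, g ∈ D ↔ g ∈ VV Q ∧ ∀ s ∈ S, s * g = g * s := by
    intro g; rw [hD, Subgroup.mem_inf, Subgroup.mem_centralizer_iff]; rfl
  let instD : CommGroup ↥D :=
    { (inferInstance : Group ↥D) with
      mul_comm := fun a b => Subtype.ext (VV_comm ((hDmem a).mp a.2).1 ((hDmem b).mp b.2).1) }
  have hmemD : ∀ a ∈ A, a * v * a⁻¹ * v⁻¹ ∈ D := by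
    intro a ha
    have h1 := c.quad S c.hQS c.hcl c.hSH a (hAS ha) v hv
    exact (hDmem _).mpr ⟨h1.1, h1.2⟩
  obtain ⟨ψ, hψ⟩ : ∃ ψ : ↥A →* ↥D, ∀ a : ↥A, ((ψ a : ↥D) : G) = (a : G) * v * (a : G)⁻¹ * v⁻¹ := by
    refine ⟨{ toFun := fun a => ⟨(a : G) * v * (a : G)⁻¹ * v⁻¹, hmemD a a.2⟩
              map_one' := ?_
              map_mul' := ?_ }, fun a => rfl⟩
    · apply Subtype.ext
      show ((1 : ↥A) : G) * v * ((1 : ↥A) : G)⁻¹ * v⁻¹ = ((1 : ↥D) : G)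
      rw [Subgroup.coe_one, Subgroup.coe_one]; group
    · intro a b
      apply Subtype.ext
      show ((a * b : ↥A) : G) * v * ((a * b : ↥A) : G)⁻¹ * v⁻¹ =
        ((a : G) * v * (a : G)⁻¹ * v⁻¹) * ((b : G) * v * (b : G)⁻¹ * v⁻¹)
      rw [Subgroup.coe_mul]
      have hb := (hDmem _).mp (hmemD b b.2)
      have ha := (hDmem _).mp (hmemD a a.2)
      have h1 : (a : G) * ((b : G) * v * (b : G)⁻¹ * v⁻¹) =
          ((b : G) * v * (b : G)⁻¹ * v⁻¹) * (a : G) := hb.2 a (hAS a.2)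
      calc (a : G) * (b : G) * v * ((a : G) * (b : G))⁻¹ * v⁻¹
          = ((a : G) * ((b : G) * v * (b : G)⁻¹ * v⁻¹)) * (a : G)⁻¹ *
              ((a : G) * v * (a : G)⁻¹ * v⁻¹) := by group
        _ = (((b : G) * v * (b : G)⁻¹ * v⁻¹) * (a : G)) * (a : G)⁻¹ *
              ((a : G) * v * (a : G)⁻¹ * v⁻¹) := by rw [h1]
        _ = ((b : G) * v * (b : G)⁻¹ * v⁻¹) * ((a : G) * v * (a : G)⁻¹ * v⁻¹) := by group
        _ = ((a : G) * v * (a : G)⁻¹ * v⁻¹) * ((b : G) * v * (b : G)⁻¹ * v⁻¹) :=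
            VV_comm hb.1 ha.1
  have hcomap : ((ZZ H Q).subgroupOf D).comap ψ = Q.subgroupOf A := by
    ext a
    rw [Subgroup.mem_comap, Subgroup.mem_subgroupOf, Subgroup.mem_subgroupOf, hψ]
    constructor
    · intro h1
      by_contra haQ
      exact hvZ (c.claimA x hxH hxM v hv hvx a (hAS a.2) haQ h1)
    · intro haQ
      have h1 : (a : G) * v = v * (a : G) := hv.2.1 a haQ
      have e : (a : G) * v * (a : G)⁻¹ * v⁻¹ = 1 := by rw [h1]; group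
      rw [e]; exact one_mem _
  have hsm := surj_mod ψ ((ZZ H Q).subgroupOf D)
  rw [hcomap, card_subgroupOf_eq, card_subgroupOf_eq] at hsm
  refine ⟨hsm.1, fun heq u hu => ?_⟩
  obtain ⟨a, z, hz, haz⟩ := hsm.2 heq ⟨u, hu⟩
  refine ⟨a, a.2, z, Subgroup.mem_subgroupOf.mp hz, ?_⟩
  have h1 := congrArg Subtype.val haz
  rw [Subgroup.coe_mul, hψ] at h1
  exact h1

end Conf

/-! ### The final contradiction: `S₃` on a two-dimensional section -/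

/-- An involution `α` inverting an automorphism `τ` of order three with a moved vector `v₀`
of an elementary abelian `2`-group: there is a nontrivial `α`-fixed vector of `τ`-norm one. -/
theorem exists_w_of_action {V : Type*} [CommGroup V] (hV2 : ∀ v : V, v * v = 1) (α τ : V → V)
    (hαm : ∀ v w, α (v * w) = α v * α w) (hτm : ∀ v w, τ (v * w) = τ v * τ w)
    (hα1 : α 1 = 1)
    (hα : ∀ v, α (α v) = v) (hτ : ∀ v, τ (τ (τ v)) = v) (hατ : ∀ v, α (τ v) = τ (τ (α v)))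
    (v₀ : V) (hv₀ : τ v₀ ≠ v₀) :
    ∃ w : V, w ≠ 1 ∧ α w = w ∧ w * τ w * τ (τ w) = 1 := by
  have hinv : ∀ v : V, v⁻¹ = v := fun v => inv_eq_of_mul_eq_one_left (hV2 v)
  have hne : ∀ v w : V, v ≠ w → w * v ≠ 1 := by
    intro v w hvw h
    apply hvw
    have h1 : v = w⁻¹ := eq_inv_of_mul_eq_one_right h
    rw [h1, hinv]
  obtain ⟨v₁, hv₁def⟩ : ∃ v₁, v₁ = v₀ * τ v₀ := ⟨_, rfl⟩
  have hv₁ne : v₁ ≠ 1 := hv₁def ▸ hne _ _ hv₀
  have hN1 : v₁ * τ v₁ * τ (τ v₁) = 1 := by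
    have e1 : τ v₁ = τ v₀ * τ (τ v₀) := by rw [hv₁def, hτm]
    have e2 : τ (τ v₁) = τ (τ v₀) * v₀ := by rw [e1, hτm, hτ]
    rw [e2, e1, hv₁def]
    generalize τ (τ v₀) = q
    generalize τ v₀ = p
    calc v₀ * p * (p * q) * (q * v₀) = (v₀ * v₀) * (p * p) * (q * q) := by ac_rfl
      _ = 1 := by rw [hV2 v₀, hV2 p, hV2 q, one_mul, one_mul]
  by_cases hfix : α v₁ = v₁
  · exact ⟨v₁, hv₁ne, hfix, hN1⟩
  · refine ⟨v₁ * α v₁, hne _ _ hfix, ?_, ?_⟩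
    · rw [hαm, hα, mul_comm]
    · have h1 : τ (τ (α v₁)) = α (τ v₁) := (hατ v₁).symm
      have h2 : τ (α v₁) = α (τ (τ v₁)) := by
        rw [hατ (τ v₁), hατ v₁, hτ (τ (α v₁))]
      have hN2 : α v₁ * τ (α v₁) * τ (τ (α v₁)) = 1 := by
        rw [h1, h2, ← hαm, ← hαm]
        have e : v₁ * τ (τ v₁) * τ v₁ = v₁ * τ v₁ * τ (τ v₁) := by ac_rfl
        rw [e, hN1, hα1]
      have e1 : τ (v₁ * α v₁) = τ v₁ * τ (α v₁) := hτm _ _
      have e2 : τ (τ (v₁ * α v₁)) = τ (τ v₁) * τ (τ (α v₁)) := by rw [e1, hτm]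
      rw [e2, e1]
      calc v₁ * α v₁ * (τ v₁ * τ (α v₁)) * (τ (τ v₁) * τ (τ (α v₁)))
          = (v₁ * τ v₁ * τ (τ v₁)) * (α v₁ * τ (α v₁) * τ (τ (α v₁))) := by ac_rfl
        _ = 1 := by rw [hN1, hN2, one_mul]

namespace Conf

variable {S H M Q : Subgroup G}

theorem E_mul (c : Conf S H M Q) (h w₁ w₂ w₁' w₂' : G) (hw₂ : w₂ ∈ VV Q)
    (h1 : h * w₁ * h⁻¹ * w₂⁻¹ ∈ ZZ H Q) (h2 : h * w₁' * h⁻¹ * w₂'⁻¹ ∈ ZZ H Q) :
    h * (w₁ * w₁') * h⁻¹ * (w₂ * w₂')⁻¹ ∈ ZZ H Q := by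
  have hc : (h * w₁' * h⁻¹ * w₂'⁻¹) * w₂⁻¹ = w₂⁻¹ * (h * w₁' * h⁻¹ * w₂'⁻¹) :=
    VV_comm h2.1 (inv_mem hw₂)
  have e : h * (w₁ * w₁') * h⁻¹ * (w₂ * w₂')⁻¹ =
      (h * w₁ * h⁻¹) * ((h * w₁' * h⁻¹ * w₂'⁻¹) * w₂⁻¹) := by group
  rw [e, hc]
  have e' : (h * w₁ * h⁻¹) * (w₂⁻¹ * (h * w₁' * h⁻¹ * w₂'⁻¹)) =
      (h * w₁ * h⁻¹ * w₂⁻¹) * (h * w₁' * h⁻¹ * w₂'⁻¹) := by group
  rw [e']; exact mul_mem h1 h2

theorem E_comp (c : Conf S H M Q) (g h w₁ w₂ w₃ : G) (hg : g ∈ H)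
    (h1 : h * w₁ * h⁻¹ * w₂⁻¹ ∈ ZZ H Q) (h2 : g * w₂ * g⁻¹ * w₃⁻¹ ∈ ZZ H Q) :
    (g * h) * w₁ * (g * h)⁻¹ * w₃⁻¹ ∈ ZZ H Q := by
  have e : (g * h) * w₁ * (g * h)⁻¹ * w₃⁻¹ =
      (g * (h * w₁ * h⁻¹ * w₂⁻¹) * g⁻¹) * (g * w₂ * g⁻¹ * w₃⁻¹) := by group
  rw [e]; exact mul_mem (c.ZZ_inv g hg _ h1) h2

/-- the product of the two involutions has order divisible by three -/
theorem three_dvd (c : Conf S H M Q) (a b u v z : G) (ha : a ∈ H) (hb : b ∈ H)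
    (hu : u ∈ VV Q) (hv : v ∈ VV Q) (hz : z ∈ ZZ H Q)
    (hau : a * u * a⁻¹ = u) (hbv : b * v * b⁻¹ = v) (hbu : b * u * b⁻¹ * u⁻¹ = v)
    (hav : (a * v * a⁻¹ * v⁻¹) * z = u) (hvZ : v ∉ ZZ H Q) : 3 ∣ orderOf (a * b) := by
  have hzi : z⁻¹ ∈ ZZ H Q := inv_mem hz
  have huv : u * v = v * u := VV_comm hu hv
  have hav' : a * v * a⁻¹ = u * z⁻¹ * v := by
    calc a * v * a⁻¹ = ((a * v * a⁻¹ * v⁻¹) * z) * z⁻¹ * v := by group
      _ = u * z⁻¹ * v := by rw [hav]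
  -- the four basic relations
  have Eau : a * u * a⁻¹ * u⁻¹ ∈ ZZ H Q := by
    rw [hau, mul_inv_cancel]; exact one_mem _
  have Eav : a * v * a⁻¹ * (u * v)⁻¹ ∈ ZZ H Q := by
    have h2 : u * z⁻¹ = z⁻¹ * u := VV_comm hu hzi.1
    have e1 : a * v * a⁻¹ * (u * v)⁻¹ = z⁻¹ := by
      calc a * v * a⁻¹ * (u * v)⁻¹ = (u * z⁻¹) * u⁻¹ := by rw [hav']; group
        _ = z⁻¹ := by rw [h2]; group
    rw [e1]; exact hzi
  have Ebv : b * v * b⁻¹ * v⁻¹ ∈ ZZ H Q := by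
    rw [hbv, mul_inv_cancel]; exact one_mem _
  have Ebu : b * u * b⁻¹ * (u * v)⁻¹ ∈ ZZ H Q := by
    have h1 : b * u * b⁻¹ = v * u := by
      calc b * u * b⁻¹ = (b * u * b⁻¹ * u⁻¹) * u := by group
        _ = v * u := by rw [hbu]
    rw [h1, huv, mul_inv_cancel]; exact one_mem _
  have e3 : u * (u * v) = v := by rw [← mul_assoc, VV_sq hu, one_mul]
  have e4 : v * (u * v) = u := by rw [huv, ← mul_assoc, VV_sq hv, one_mul]
  have huvV : u * v ∈ VV Q := mul_mem hu hv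
  -- relations for `a`
  have Eauv : a * (u * v) * a⁻¹ * v⁻¹ ∈ ZZ H Q := by
    have := c.E_mul a u u v (u * v) hu Eau Eav
    rwa [e3] at this
  obtain ⟨g, hgdef⟩ : ∃ g, g = a * b := ⟨_, rfl⟩
  have hgH : g ∈ H := hgdef ▸ mul_mem ha hb
  have Egu : g * u * g⁻¹ * v⁻¹ ∈ ZZ H Q := by
    rw [hgdef]; exact c.E_comp a b u (u * v) v ha Ebu Eauv
  have Egv : g * v * g⁻¹ * (u * v)⁻¹ ∈ ZZ H Q := by
    rw [hgdef]; exact c.E_comp a b v v (u * v) ha Ebv Eav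
  have Eguv : g * (u * v) * g⁻¹ * u⁻¹ ∈ ZZ H Q := by
    have := c.E_mul g u v v (u * v) hv Egu Egv
    rwa [e4] at this
  have Eg2 : (g * g) * u * (g * g)⁻¹ * (u * v)⁻¹ ∈ ZZ H Q :=
    c.E_comp g g u v (u * v) hgH Egu Egv
  have Eg3 : (g * (g * g)) * u * (g * (g * g))⁻¹ * u⁻¹ ∈ ZZ H Q :=
    c.E_comp g (g * g) u (u * v) u hgH Eg2 Eguv
  obtain ⟨K, hK⟩ := exists_comm_subgroup H (ZZ H Q) c.ZZ_inv u
  have hg3K : g ^ 3 ∈ K := by
    have e : g ^ 3 = g * (g * g) := by rw [pow_succ, pow_two, mul_assoc]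
    rw [e, hK]
    exact ⟨mul_mem hgH (mul_mem hgH hgH), Eg3⟩
  by_contra h3
  rw [← hgdef] at h3
  have hcop : Nat.Coprime 3 (orderOf g) := (Nat.Prime.coprime_iff_not_dvd Nat.prime_three).mpr h3
  obtain ⟨m, hm⟩ := exists_pow_eq_self_of_coprime hcop
  have hgK : g ∈ K := by rw [← hm]; exact pow_mem hg3K m
  have Egu' : g * u * g⁻¹ * u⁻¹ ∈ ZZ H Q := ((hK g).mp hgK).2
  have h5 : u * v⁻¹ ∈ ZZ H Q := by
    have e : u * v⁻¹ = (g * u * g⁻¹ * u⁻¹)⁻¹ * (g * u * g⁻¹ * v⁻¹) := by group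
    rw [e]; exact mul_mem (inv_mem Egu') Egu
  have h6 := c.ZZ_inv a ha _ h5
  have h7 : a * (u * v⁻¹) * a⁻¹ = v⁻¹ * z := by
    have hc : u * (v⁻¹ * z) = (v⁻¹ * z) * u := VV_comm hu (mul_mem (inv_mem hv) hz.1)
    calc a * (u * v⁻¹) * a⁻¹ = (a * u * a⁻¹) * (a * v * a⁻¹)⁻¹ := by group
      _ = u * (u * z⁻¹ * v)⁻¹ := by rw [hau, hav']
      _ = (u * (v⁻¹ * z)) * u⁻¹ := by group
      _ = v⁻¹ * z := by rw [hc]; group
  rw [h7] at h6
  apply hvZ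
  have e : v = z * (v⁻¹ * z)⁻¹ := by group
  rw [e]; exact mul_mem hz (inv_mem h6)

/-- an involution inverting an element of order divisible by three produces an `S₄`-section -/
theorem s4_of_data [Finite G] (c : Conf S H M Q) (x : G) (hxH : x ∈ H) (hxM : x ∉ M) (a g : G)
    (ha : a ∈ H) (hg : g ∈ H) (haa : a * a = 1) (hag : a * g * a⁻¹ = g⁻¹)
    (h3 : 3 ∣ orderOf g) : Involves (Equiv.Perm (Fin 4)) G := by
  obtain ⟨t, htdef⟩ : ∃ t, t = g ^ (orderOf g / 3) := ⟨_, rfl⟩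
  have hto : orderOf t = 3 := htdef ▸ orderOf_pow_orderOf_div (orderOf_pos g).ne' h3
  have htH : t ∈ H := htdef ▸ pow_mem hg _
  have ht3 : t ^ 3 = 1 := by rw [← hto]; exact pow_orderOf_eq_one t
  have ht3' : t * t * t = 1 := by
    rw [← ht3]; simp only [pow_succ, pow_zero, one_mul]
  have hat : a * t * a⁻¹ = t⁻¹ := by rw [htdef, ← conj_pow, hag, inv_pow]
  have hodd : Odd (orderOf t) := by rw [hto]; exact ⟨1, rfl⟩
  have ht1 : t ≠ 1 := by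
    intro h
    rw [h, orderOf_one] at hto
    omega
  have hex : ∃ v₀ ∈ VV Q, t * v₀ ≠ v₀ * t := by
    by_contra hcon
    push Not at hcon
    exact ht1 (c.cvodd x hxH hxM t htH hodd hcon)
  obtain ⟨v₀, hv₀, hv₀t⟩ := hex
  have e1 : t * t = t⁻¹ := eq_inv_of_mul_eq_one_left ht3'
  let instV : CommGroup ↥(VV Q) :=
    { (inferInstance : Group ↥(VV Q)) with
      mul_comm := fun p q => Subtype.ext (VV_comm p.2 q.2) }
  obtain ⟨α, hα⟩ : ∃ α : ↥(VV Q) → ↥(VV Q), ∀ v, ((α v : ↥(VV Q)) : G) = a * v * a⁻¹ :=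
    ⟨fun v => ⟨a * v * a⁻¹, c.VV_inv a ha v v.2⟩, fun v => rfl⟩
  obtain ⟨τ, hτ⟩ : ∃ τ : ↥(VV Q) → ↥(VV Q), ∀ v, ((τ v : ↥(VV Q)) : G) = t * v * t⁻¹ :=
    ⟨fun v => ⟨t * v * t⁻¹, c.VV_inv t htH v v.2⟩, fun v => rfl⟩
  have hV2 : ∀ v : ↥(VV Q), v * v = 1 := fun v => Subtype.ext (VV_sq v.2)
  have hαm : ∀ v w : ↥(VV Q), α (v * w) = α v * α w := by
    intro v w
    apply Subtype.ext
    rw [Subgroup.coe_mul, hα, hα, hα, Subgroup.coe_mul]; group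
  have hτm : ∀ v w : ↥(VV Q), τ (v * w) = τ v * τ w := by
    intro v w
    apply Subtype.ext
    rw [Subgroup.coe_mul, hτ, hτ, hτ, Subgroup.coe_mul]; group
  have hα1 : α 1 = 1 := by
    apply Subtype.ext
    rw [hα, Subgroup.coe_one]; group
  have hαα : ∀ v, α (α v) = v := by
    intro v
    apply Subtype.ext
    rw [hα, hα]
    calc a * (a * (v : G) * a⁻¹) * a⁻¹ = (a * a) * v * (a * a)⁻¹ := by group
      _ = v := by rw [haa]; group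
  have hτττ : ∀ v, τ (τ (τ v)) = v := by
    intro v
    apply Subtype.ext
    rw [hτ, hτ, hτ]
    calc t * (t * (t * (v : G) * t⁻¹) * t⁻¹) * t⁻¹ = (t * t * t) * v * (t * t * t)⁻¹ := by group
      _ = v := by rw [ht3']; group
  have hατ : ∀ v, α (τ v) = τ (τ (α v)) := by
    intro v
    apply Subtype.ext
    rw [hα, hτ, hτ, hτ, hα]
    have e : a * t = t * t * a := by
      calc a * t = (a * t * a⁻¹) * a := by group
        _ = t * t * a := by rw [hat, e1]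
    calc a * (t * (v : G) * t⁻¹) * a⁻¹ = (a * t) * v * (a * t)⁻¹ := by group
      _ = (t * t * a) * v * (t * t * a)⁻¹ := by rw [e]
      _ = t * (t * (a * v * a⁻¹) * t⁻¹) * t⁻¹ := by group
  have hv₀' : τ ⟨v₀, hv₀⟩ ≠ ⟨v₀, hv₀⟩ := by
    intro h
    have h1 : t * v₀ * t⁻¹ = v₀ := by
      have := congrArg Subtype.val h
      rw [hτ] at this
      exact this
    apply hv₀t
    calc t * v₀ = (t * v₀ * t⁻¹) * t := by group
      _ = v₀ * t := by rw [h1]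
  obtain ⟨w, hw1, hαw, hN⟩ :=
    exists_w_of_action hV2 α τ hαm hτm hα1 hαα hτττ hατ ⟨v₀, hv₀⟩ hv₀'
  obtain ⟨w', hw'⟩ : ∃ w' : G, w' = (w : G) := ⟨_, rfl⟩
  have hw'V : w' ∈ VV Q := hw' ▸ w.2
  have hw'1 : w' ≠ 1 := by
    intro h0
    apply hw1
    apply Subtype.ext
    rw [← hw', h0]
    rfl
  have hw'sq : w' * w' = 1 := VV_sq hw'V
  have haw : a * w' * a⁻¹ = w' := by
    have := congrArg Subtype.val hαw
    rw [hα, ← hw'] at this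
    exact this
  have hrelG : w' * (t * w' * t⁻¹) * (t * t * w' * (t * t)⁻¹) = 1 := by
    have h0 : (w : G) * ((τ w : ↥(VV Q)) : G) * ((τ (τ w) : ↥(VV Q)) : G) = 1 :=
      congrArg Subtype.val hN
    rw [hτ, hτ, hτ, ← hw'] at h0
    rw [← h0]; group
  have e2 : t⁻¹ * w' * t = t * t * w' * (t * t)⁻¹ := by rw [e1, inv_inv]
  have e3 : t⁻¹ * t⁻¹ * w' * t * t = t * w' * t⁻¹ := by
    calc t⁻¹ * t⁻¹ * w' * t * t = (t * t * t)⁻¹ * (t * w' * t⁻¹) * (t * t * t) := by group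
      _ = t * w' * t⁻¹ := by rw [ht3']; group
  have e4 : (t⁻¹ * w') ^ 3 = t⁻¹ * (w' * (t⁻¹ * w' * t) * (t⁻¹ * t⁻¹ * w' * t * t)) *
      (t * t * t)⁻¹ * t := by
    rw [pow_succ, pow_two]
    group
  have hc₁V : t * w' * t⁻¹ ∈ VV Q := c.VV_inv t htH w' hw'V
  have hc₂V : t * t * w' * (t * t)⁻¹ ∈ VV Q := c.VV_inv (t * t) (mul_mem htH htH) w' hw'V
  have e5 : (t⁻¹ * w') ^ 3 = 1 := by
    rw [e4, e2, e3, ht3', mul_assoc w', VV_comm hc₂V hc₁V, ← mul_assoc w', hrelG]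
    group
  have haw' : a * w' = w' * a := by
    calc a * w' = (a * w' * a⁻¹) * a := by group
      _ = w' * a := by rw [haw]
  obtain ⟨K, ⟨e⟩⟩ := Cfsg.Agent.Lib.Helper2.S4Sec.exists_S4_of_data a t w' haa ht3 hw'sq hat
    haw' e5 hw'1
  exact Cfsg.Agent.S5299.involves_of_inj_surj K.subtype K.subtype_injective e.toMonoidHom
    e.surjective

end Conf

/-! ### The minimal counterexample -/

/-- the largest `H`-invariant subgroup of `S` -/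
def OH (S H : Subgroup G) : Subgroup G where
  carrier := {q | ∀ h ∈ H, h⁻¹ * q * h ∈ S}
  mul_mem' := by
    intro a b ha hb h hh
    have e : h⁻¹ * (a * b) * h = (h⁻¹ * a * h) * (h⁻¹ * b * h) := by group
    rw [e]; exact mul_mem (ha h hh) (hb h hh)
  one_mem' := by
    intro h hh
    have e : h⁻¹ * 1 * h = 1 := by group
    rw [e]; exact one_mem _
  inv_mem' := by
    intro a ha h hh
    have e : h⁻¹ * a⁻¹ * h = (h⁻¹ * a * h)⁻¹ := by group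
    rw [e]; exact inv_mem (ha h hh)

theorem mem_OH {S H : Subgroup G} {q : G} : q ∈ OH S H ↔ ∀ h ∈ H, h⁻¹ * q * h ∈ S := Iff.rfl

theorem OH_le (S H : Subgroup G) : OH S H ≤ S := by
  intro q hq
  have := hq 1 (one_mem _)
  simpa using this

theorem OH_inv (S H : Subgroup G) (h : G) (hh : h ∈ H) (q : G) (hq : q ∈ OH S H) :
    h * q * h⁻¹ ∈ OH S H := by
  intro h' hh'
  have := hq (h⁻¹ * h') (mul_mem (inv_mem hh) hh')
  have e : h'⁻¹ * (h * q * h⁻¹) * h' = (h⁻¹ * h')⁻¹ * q * (h⁻¹ * h') := by group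
  rw [e]; exact this

theorem OH_max (S H R : Subgroup G) (hRS : R ≤ S)
    (hR : ∀ h ∈ H, ∀ r ∈ R, h * r * h⁻¹ ∈ R) : R ≤ OH S H := by
  intro r hr h hh
  have := hR h⁻¹ (inv_mem hh) r hr
  rw [inv_inv] at this
  exact hRS this

open Cfsg.Agent.Lib.Helper11.ZJFam in
theorem cj_mem_famE [Finite G] (S : Subgroup G) (h : G) (A' : Subgroup G)
    (hA' : A' ∈ famE 2 S) (hle : cj h A' ≤ S) : cj h A' ∈ famE 2 S := by
  rw [mem_famE_iff] at hA' ⊢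
  refine ⟨hle, isElementaryAbelian_map_equiv (MulAut.conj h) A' hA'.2.1, ?_⟩
  intro Y hY hYe
  rw [card_cj]; exact hA'.2.2 Y hY hYe

open Cfsg.Agent.Lib.Helper11.ZJFam in
theorem mem_normalizer_sSup [Finite G] (S : Subgroup G) (h : G)
    (hh : ∀ A' ∈ famE 2 S, cj h A' ≤ S) :
    h ∈ Subgroup.normalizer ((sSup (famE 2 S) : Subgroup G) : Set G) := by
  apply Cfsg.Agent.S0650.mem_normalizer_of_conj_mem
  have hle : sSup (famE 2 S) ≤ (sSup (famE 2 S)).comap (MulAut.conj h).toMonoidHom := by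
    apply sSup_le
    intro A' hA'
    rw [← Subgroup.map_le_iff_le_comap]
    exact le_sSup (cj_mem_famE S h A' hA' (hh A' hA'))
  intro x hx
  have := hle hx
  rw [Subgroup.mem_comap] at this
  simpa [MulAut.conj_apply] using this

open Cfsg.Agent.Lib.Helper11.ZJFam in
/-- In an `S₄`-free group `G` with `C_G(O_2(G)) ≤ O_2(G)` whose Sylow `2`-subgroups have
class at most `2`, every elementary abelian subgroup of largest order of a Sylow `2`-subgroup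
lies in `O_2(G)`. -/
theorem core (G : Type u) [Group G] [Finite G]
    (hfree : ¬ Involves (Equiv.Perm (Fin 4)) G)
    (hCQ : Subgroup.centralizer ((pCore 2 G : Subgroup G) : Set G) ≤ pCore 2 G)
    (P : Sylow 2 G)
    (hcl : ∀ x ∈ (P : Subgroup G), ∀ y ∈ (P : Subgroup G), ∀ z ∈ (P : Subgroup G),
      (x * y * x⁻¹ * y⁻¹) * z = z * (x * y * x⁻¹ * y⁻¹))
    (A : Subgroup G) (hA : A ∈ famE 2 (P : Subgroup G)) : A ≤ pCore 2 G := by
  classical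
  haveI : Fact (Nat.Prime 2) := ⟨Nat.prime_two⟩
  by_contra hAH
  obtain ⟨S, hSdef⟩ : ∃ S : Subgroup G, S = (P : Subgroup G) := ⟨_, rfl⟩
  rw [← hSdef] at hcl hA
  have hS2 : IsPGroup 2 S := by rw [hSdef]; exact P.isPGroup'
  have hSmax : ∀ R : Subgroup G, IsPGroup 2 R → S ≤ R → R ≤ S := by
    intro R hR hSR
    rw [hSdef] at hSR ⊢
    exact (P.is_maximal' hR hSR).le
  have hpS : pCore 2 G ≤ S := by
    rw [hSdef]; exact Cfsg.Agent.Lib.Helper76.PSolv.pCore_le_sylow P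
  have hpn : (pCore 2 G).Normal := Cfsg.Agent.Lib.Helper11.ZJ.pCore_normal' 2 G
  -- the set of bad subgroups
  obtain ⟨𝓗, h𝓗⟩ : ∃ 𝓗 : Set (Subgroup G),
      𝓗 = {H | S ≤ H ∧ ∃ A' ∈ famE 2 S, ¬ A' ≤ OH S H} := ⟨_, rfl⟩
  have htop : (⊤ : Subgroup G) ∈ 𝓗 := by
    rw [h𝓗]
    refine ⟨le_top, A, hA, fun hAO => hAH (hAO.trans ?_)⟩
    have hn : (OH S ⊤).Normal := ⟨fun q hq g => OH_inv S ⊤ g (Subgroup.mem_top g) q hq⟩
    have h2 : IsPGroup 2 (OH S ⊤) := hS2.to_le (OH_le S ⊤)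
    exact le_sSup ⟨hn, h2⟩
  obtain ⟨H, hH𝓗, hHmin⟩ :=
    WellFounded.has_min (wellFounded_lt (α := Subgroup G)) 𝓗 ⟨⊤, htop⟩
  rw [h𝓗] at hH𝓗
  obtain ⟨hSH, A', hA', hA'Q⟩ := hH𝓗
  obtain ⟨Q, hQdef⟩ : ∃ Q : Subgroup G, Q = OH S H := ⟨_, rfl⟩
  rw [← hQdef] at hA'Q
  obtain ⟨hA'S, hA'e, hA'max⟩ := (mem_famE_iff 2 S A').mp hA'
  obtain ⟨J, hJdef⟩ : ∃ J : Subgroup G, J = sSup (famE 2 S) := ⟨_, rfl⟩
  obtain ⟨M, hMdef⟩ : ∃ M : Subgroup G, M = H ⊓ Subgroup.normalizer (J : Set G) := ⟨_, rfl⟩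
  have hJS : J ≤ S := by
    rw [hJdef]; exact sSup_le (fun B hB => ((mem_famE_iff 2 S B).mp hB).1)
  have hA'J : A' ≤ J := by rw [hJdef]; exact le_sSup hA'
  have hnorm : ∀ h : G, (∀ B ∈ famE 2 S, cj h B ≤ S) →
      h ∈ Subgroup.normalizer (J : Set G) := by
    intro h hh
    rw [hJdef]; exact mem_normalizer_sSup S h hh
  have hnormS : ∀ h : G, (∀ s ∈ S, h * s * h⁻¹ ∈ S) →
      h ∈ Subgroup.normalizer (J : Set G) := by
    intro h hh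
    apply hnorm
    intro B hB g hg
    rw [mem_cj] at hg
    have hBS := ((mem_famE_iff 2 S B).mp hB).1
    have := hh _ (hBS hg)
    have e : h * (h⁻¹ * g * h) * h⁻¹ = g := by group
    rwa [e] at this
  have hSM : S ≤ M := by
    rw [hMdef]
    exact le_inf hSH
      (fun s hs => hnormS s (fun s' hs' => mul_mem (mul_mem hs hs') (inv_mem hs)))
  have hMH : M ≤ H := by rw [hMdef]; exact inf_le_left
  have hMuniq : ∀ K : Subgroup G, S ≤ K → K ≤ H → K ≠ H → K ≤ M := by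
    intro K hSK hKH hKne
    have hKlt : K < H := lt_of_le_of_ne hKH hKne
    have hKn : K ∉ 𝓗 := fun hK => hHmin K hK hKlt
    rw [h𝓗] at hKn
    have hK' : ∀ B ∈ famE 2 S, B ≤ OH S K := by
      intro B hB
      by_contra hBK
      exact hKn ⟨hSK, B, hB, hBK⟩
    rw [hMdef]
    refine le_inf hKH (fun k hk => hnorm k (fun B hB g hg => ?_))
    rw [mem_cj] at hg
    have h1 := OH_inv S K k hk _ (hK' B hB hg)
    have e : k * (k⁻¹ * g * k) * k⁻¹ = g := by group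
    rw [e] at h1
    exact OH_le S K h1
  have hQS : Q ≤ S := by rw [hQdef]; exact OH_le S H
  have hQinv : ∀ h ∈ H, ∀ q ∈ Q, h * q * h⁻¹ ∈ Q := by
    rw [hQdef]; exact fun h hh q hq => OH_inv S H h hh q hq
  have hQmax : ∀ R : Subgroup G, R ≤ S → (∀ h ∈ H, ∀ r ∈ R, h * r * h⁻¹ ∈ R) → R ≤ Q := by
    rw [hQdef]; exact fun R hRS hR => OH_max S H R hRS hR
  have hpQ : pCore 2 G ≤ Q := hQmax _ hpS (fun h _ r hr => hpn.conj_mem r hr h)
  have hCQ' : ∀ g : G, (∀ q ∈ Q, g * q = q * g) → g ∈ Q := by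
    intro g hg
    apply hpQ
    apply hCQ
    rw [Subgroup.mem_centralizer_iff]
    intro q hq
    exact (hg q (hpQ hq)).symm
  have hNS : ∀ h ∈ H, (∀ s ∈ S, h * s * h⁻¹ ∈ S) → h ∈ M := by
    intro h hh hs
    rw [hMdef]
    exact Subgroup.mem_inf.mpr ⟨hh, hnormS h hs⟩
  have hSyl : ∀ R : Subgroup G, R ≤ M → IsPGroup 2 R →
      ∃ m ∈ M, ∀ r ∈ R, m⁻¹ * r * m ∈ S := by
    intro R hRM hR
    have hPM : (P : Subgroup G) ≤ M := by rw [← hSdef]; exact hSM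
    have := exists_conj_into_sylow P M hPM R hRM hR
    rwa [← hSdef] at this
  have c : Conf S H M Q :=
    ⟨hS2, hSmax, hcl, hSM, hMH, hQS, hQinv, hQmax, hCQ', hMuniq, hNS, hSyl⟩
  -- an element of `H` outside `M`
  have hHM : ¬ H ≤ M := by
    intro hHM
    apply hA'Q
    apply hA'J.trans
    apply hQmax J hJS
    intro h hh r hr
    have hn : h ∈ Subgroup.normalizer (J : Set G) := by
      have := hHM hh
      rw [hMdef] at this
      exact (Subgroup.mem_inf.mp this).2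
    exact (Subgroup.mem_normalizer_iff.mp hn r).mp hr
  obtain ⟨x, hxH, hxM⟩ := SetLike.not_le_iff_exists.mp hHM
  obtain ⟨a₀, ha₀A, ha₀Q⟩ := SetLike.not_le_iff_exists.mp hA'Q
  have ha₀S : a₀ ∈ S := hA'S ha₀A
  obtain ⟨b, hbdef⟩ : ∃ b, b = x * a₀ * x⁻¹ := ⟨_, rfl⟩
  obtain ⟨A'', hA''def⟩ : ∃ A'' : Subgroup G, A'' = cj x A' := ⟨_, rfl⟩
  have hbA'' : x * a₀ * x⁻¹ ∈ A'' := by rw [hA''def]; exact conj_mem_cj ha₀A
  have hA''e : IsElementaryAbelian 2 A'' := by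
    rw [hA''def]; exact isElementaryAbelian_map_equiv (MulAut.conj x) A' hA'e
  have hA''card : Nat.card A'' = Nat.card A' := by rw [hA''def]; exact card_cj x A'
  have hA''max : ∀ B : Subgroup G, B ≤ S → IsElementaryAbelian 2 B →
      Nat.card B ≤ Nat.card A'' := by
    intro B hB hBe
    rw [hA''card]; exact hA'max B hB hBe
  have hinfcard : Nat.card (A'' ⊓ Q : Subgroup G) = Nat.card (Q ⊓ A' : Subgroup G) := by
    have e : (A'' ⊓ Q : Subgroup G) = cj x (Q ⊓ A') := by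
      ext g
      rw [hA''def, Subgroup.mem_inf, mem_cj, mem_cj, Subgroup.mem_inf]
      constructor
      · rintro ⟨h1, h2⟩
        exact ⟨c.hQinv' x hxH g h2, h1⟩
      · rintro ⟨h1, h2⟩
        refine ⟨h2, ?_⟩
        have := c.hQinv x hxH _ h1
        have e : x * (x⁻¹ * g * x) * x⁻¹ = g := by group
        rwa [e] at this
    rw [e, card_cj]
  have hoff := c.off A'' hA''e hA''max
  have hD := c.claimD x hxH hxM A'' a₀ ha₀S ha₀Q hbA''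
  obtain ⟨u, hu, hus, huZ⟩ := c.claimC x hxH hxM
  obtain ⟨v, hvdef⟩ : ∃ v, v = b * u * b⁻¹ * u⁻¹ := ⟨_, rfl⟩
  have hbcj : b ∈ cj x S := by rw [hbdef]; exact conj_mem_cj ha₀S
  have hq := c.quad (cj x S) (c.Q_le_cj x hxH) (c.hcl.cj x) (c.cj_le x hxH) b hbcj u hu
  rw [← hvdef] at hq
  obtain ⟨hvV, hvc⟩ := hq
  have hvZ : v ∉ ZZ H Q := by
    intro hvZ
    apply huZ
    apply c.claimB x hxH hxM u hu hus a₀ ha₀S ha₀Q
    rw [← hbdef, ← hvdef]; exact hvZ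
  have hvx : ∀ s ∈ S, (x * s * x⁻¹) * v = v * (x * s * x⁻¹) :=
    fun s hs => hvc _ (conj_mem_cj hs)
  obtain ⟨hE, hEsurj⟩ := c.claimE x hxH hxM A' hA'S v hvV hvx hvZ
  -- the counting
  have hνpos : 0 < Nat.card (VV Q) := Nat.card_pos
  rw [hinfcard, hA''card] at hoff
  rw [inf_comm (VV Q ⊓ Subgroup.centralizer (S : Set G)) (ZZ H Q)] at hD
  have key : ∀ ν α α₀ κ δ δ₀ : ℕ, 0 < ν → ν * α₀ ≤ α * κ → δ * κ ≤ ν * δ₀ →
      α * δ₀ ≤ δ * α₀ → α * δ₀ = δ * α₀ := by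
    intro ν α α₀ κ δ δ₀ hν h1 h2 h3
    apply le_antisymm h3
    apply Nat.le_of_mul_le_mul_left _ hν
    calc ν * (δ * α₀) = δ * (ν * α₀) := by ring
      _ ≤ δ * (α * κ) := Nat.mul_le_mul_left _ h1
      _ = α * (δ * κ) := by ring
      _ ≤ α * (ν * δ₀) := Nat.mul_le_mul_left _ h2
      _ = ν * (α * δ₀) := by ring
  have heq := key _ _ _ _ _ _ hνpos hoff hD hE
  have huD : u ∈ VV Q ⊓ Subgroup.centralizer (S : Set G) := by
    rw [Subgroup.mem_inf, Subgroup.mem_centralizer_iff]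
    exact ⟨hu, hus⟩
  obtain ⟨a, haA, z, hz, hazu⟩ := hEsurj heq u huD
  have haS : a ∈ S := hA'S haA
  have haH : a ∈ H := hSH haS
  have hbH : b ∈ H := c.cj_le x hxH hbcj
  have hau : a * u * a⁻¹ = u := by rw [hus a haS]; group
  have hbv : b * v * b⁻¹ = v := by rw [hvc b hbcj]; group
  have h3 := c.three_dvd a b u v z haH hbH hu hvV hz hau hbv hvdef.symm hazu hvZ
  have haa : a * a = 1 := by rw [← pow_two]; exact hA'e.2 a haA
  have hbb : b * b = 1 := by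
    have h0 : a₀ * a₀ = 1 := by rw [← pow_two]; exact hA'e.2 a₀ ha₀A
    calc b * b = x * (a₀ * a₀) * x⁻¹ := by rw [hbdef]; group
      _ = 1 := by rw [h0]; group
  have hag : a * (a * b) * a⁻¹ = (a * b)⁻¹ := by
    have hbi : b⁻¹ = b := inv_eq_of_mul_eq_one_left hbb
    calc a * (a * b) * a⁻¹ = (a * a) * b * a⁻¹ := by group
      _ = b⁻¹ * a⁻¹ := by rw [haa, one_mul, hbi]
      _ = (a * b)⁻¹ := by group
  exact hfree (c.s4_of_data x hxH hxM a (a * b) haH (mul_mem haH hbH) haa hag h3)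

end Cfsg.Agent.Lib.Helper31.S4Free
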