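import Mathlib
import Cfsg.Agent.Lib.Helper62.S57Stmt
import Cfsg.Agent.Lib.Helper31.S56FROBMOD

/-!
S1357 / FROBMODP (call by helper62): the hypotheses of `FrobMod` plus `¬ K ≤ C(V)` give
`|R|` prime (landed S1446 on `W = ⁅V, K⁆`, first clause).
-/

set_option autoImplicit false

namespace Cfsg.Agent.Lib.Helper31.S57FROBMODP

universe u

open Cfsg.Agent.Lib.Helper62.S57Stmt
open Cfsg.Agent.Lib.Helper31.S56FROBMOD
open scoped commutatorElement

theorem main : FrobModP.{u} := by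
  intro Y _ _ V K R q _ hVab hVq hKV hRV hRK hR1 hfrob hsolv hodd hcop hprime hcyc hncent
  have hK1 : K ≠ ⊥ := by
    intro h
    apply hncent
    rw [h]
    exact bot_le
  have hW1 : ⁅V, K⁆ ≠ ⊥ := by
    intro h
    apply hncent
    rw [Subgroup.commutator_comm] at h
    exact Subgroup.commutator_eq_bot_iff_le_centralizer.mp h
  have hconjV : ∀ (A : Subgroup Y), A ≤ Subgroup.normalizer (V : Set Y) →
      ∀ b ∈ A, ∀ v ∈ V, b * v * b⁻¹ ∈ V :=
    fun A hA b hb v hv => (Subgroup.mem_normalizer_iff.mp (hA hb) v).mp hv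
  have hconjK : ∀ b ∈ R, ∀ k ∈ K, b * k * b⁻¹ ∈ K :=
    fun b hb k hk => (Subgroup.mem_normalizer_iff.mp (hRK hb) k).mp hk
  have hWV : ⁅V, K⁆ ≤ V := by
    rw [Subgroup.commutator_le]
    intro v hv k hk
    have h1 : k * v⁻¹ * k⁻¹ ∈ V := hconjV K hKV k hk v⁻¹ (V.inv_mem hv)
    have h2 : ⁅v, k⁆ = v * (k * v⁻¹ * k⁻¹) := by
      rw [commutatorElement_def]; group
    rw [h2]
    exact V.mul_mem hv h1
  have hdec := Cfsg.Agent.Lib.Helper49.CoprimeDecomp.coprime_decomp (V := V) (Q := K) hVab hVq hKV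
    (Nat.Coprime.coprime_dvd_left (Subgroup.card_dvd_of_le le_sup_left) hcop)
  have hKR : K ⊓ R = ⊥ := by
    rw [eq_bot_iff]
    intro x hx
    obtain ⟨hxK, hxR⟩ := Subgroup.mem_inf.mp hx
    rw [Subgroup.mem_bot]
    by_contra hx1
    have h1 : x ∈ K ⊓ Subgroup.centralizer ({x} : Set Y) :=
      Subgroup.mem_inf.mpr ⟨hxK, Subgroup.mem_centralizer_singleton_iff.mpr rfl⟩
    rw [hfrob x hxR hx1] at h1
    exact hx1 (Subgroup.mem_bot.mp h1)
  have hWp : IsPGroup q ↥(⁅V, K⁆ : Subgroup Y) := by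
    intro g
    refine ⟨1, ?_⟩
    apply Subtype.ext
    have := hVq g (hWV g.2)
    simpa using this
  have hWnil : Group.IsNilpotent ↥(⁅V, K⁆ : Subgroup Y) := hWp.isNilpotent
  have hKW : K ≤ Subgroup.normalizer ((⁅V, K⁆ : Subgroup Y) : Set Y) :=
    le_normalizer_of_conj K _ (fun b hb =>
      conj_comm_mem V K b (hconjV K hKV b hb) (fun k hk => K.mul_mem (K.mul_mem hb hk) (K.inv_mem hb)))
  have hRW : R ≤ Subgroup.normalizer ((⁅V, K⁆ : Subgroup Y) : Set Y) :=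
    le_normalizer_of_conj R _ (fun b hb =>
      conj_comm_mem V K b (hconjV R hRV b hb) (hconjK b hb))
  have hcopW : (Nat.card ↥(K ⊔ R)).Coprime (Nat.card ↥(⁅V, K⁆ : Subgroup Y)) := by
    obtain ⟨n, hn⟩ := IsPGroup.iff_card.mp hWp
    rw [hn]
    exact Nat.Coprime.pow_right n hcop
  have hCK : (⁅V, K⁆ : Subgroup Y) ⊓ Subgroup.centralizer (K : Set Y) = ⊥ := by
    rw [eq_bot_iff, ← hdec.1]
    intro x hx
    obtain ⟨hxW, hxC⟩ := Subgroup.mem_inf.mp hx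
    exact Subgroup.mem_inf.mpr ⟨Subgroup.mem_inf.mpr ⟨hWV hxW, hxC⟩, hxW⟩
  have hpr : ∀ x ∈ R, x ≠ 1 →
      (⁅V, K⁆ : Subgroup Y) ⊓ Subgroup.centralizer ({x} : Set Y) =
        (⁅V, K⁆ : Subgroup Y) ⊓ Subgroup.centralizer (R : Set Y) := by
    intro x hx hx1
    have h0 := hprime x hx hx1
    apply le_antisymm
    · intro u hu
      obtain ⟨huW, huC⟩ := Subgroup.mem_inf.mp hu
      have h1 : u ∈ V ⊓ Subgroup.centralizer ({x} : Set Y) := Subgroup.mem_inf.mpr ⟨hWV huW, huC⟩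
      rw [h0] at h1
      exact Subgroup.mem_inf.mpr ⟨huW, (Subgroup.mem_inf.mp h1).2⟩
    · intro u hu
      obtain ⟨huW, huC⟩ := Subgroup.mem_inf.mp hu
      have h1 : u ∈ V ⊓ Subgroup.centralizer (R : Set Y) := Subgroup.mem_inf.mpr ⟨hWV huW, huC⟩
      rw [← h0] at h1
      exact Subgroup.mem_inf.mpr ⟨huW, (Subgroup.mem_inf.mp h1).2⟩
  exact (Cfsg.Agent.S1446.result K R (⁅V, K⁆ : Subgroup Y) hK1 hR1 hKR hRK hfrob hsolv hodd hW1
    hWnil hKW hRW hcopW hCK hpr).1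

end Cfsg.Agent.Lib.Helper31.S57FROBMODP
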