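import Mathlib
import Cfsg.Agent.Lib.Helper93.S64Stmt
import Cfsg.Agent.Lib.Helper31.SigBasic

/-!
S1364 / DECOMP (call by helper93): coprime decomposition `H ≤ C_H(x) Fb` relative to a normal
`Fb ⊇ [H, R]`, for `x ∈ R` of prime order.
-/

set_option autoImplicit false

namespace Cfsg.Agent.Lib.Helper31.S64DECOMP

universe u

open Cfsg.Agent.Lib.Helper93.S64Stmt
open scoped commutatorElement

theorem main : Decomp.{u} := by
  intro X _ _ H R Fb hHn hFn hFH hcop hcomm x hxR hpr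
  have : Fact (orderOf x).Prime := ⟨hpr⟩
  have hpF : ¬ orderOf x ∣ Nat.card Fb := by
    intro h
    have h1 : orderOf x ∣ Nat.card H := h.trans (Subgroup.card_dvd_of_le hFH)
    have h2 : orderOf x ∣ Nat.card R := Subgroup.orderOf_dvd_natCard R hxR
    have h3 : orderOf x ∣ Nat.gcd (Nat.card H) (Nat.card R) := Nat.dvd_gcd h1 h2
    rw [Nat.Coprime.gcd_eq_one hcop] at h3
    exact hpr.one_lt.ne' (Nat.dvd_one.mp h3)
  intro h hh
  have hmem : h⁻¹ * (x * h * x⁻¹) ∈ Fb := by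
    have h1 : ⁅h⁻¹, x⁆ ∈ ⁅H, R⁆ := Subgroup.commutator_mem_commutator (H.inv_mem hh) hxR
    have h2 : ⁅h⁻¹, x⁆ = h⁻¹ * (x * h * x⁻¹) := by
      rw [commutatorElement_def]; group
    rw [← h2]
    exact hcomm h1
  obtain ⟨n, hnF, hc⟩ := SigBasic.exists_commute_in_coset x (pow_orderOf_eq_one x) Fb hpF
    (fun n hn => hFn.conj_mem n hn _) h hmem
  have hmem2 : h * n ∈ H ⊓ Subgroup.centralizer ({x} : Set X) :=
    ⟨H.mul_mem hh (hFH hnF), Subgroup.mem_centralizer_singleton_iff.mpr hc.symm⟩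
  have h5 : h = (h * n) * n⁻¹ := by group
  rw [h5]
  exact Subgroup.mul_mem _ (Subgroup.mem_sup_left hmem2) (Subgroup.mem_sup_right (Fb.inv_mem hnF))

end Cfsg.Agent.Lib.Helper31.S64DECOMP
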