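import Mathlib
import Cfsg.Agent.Lib.Helper45.S8Stmt

set_option autoImplicit false

/-! S3589 piece ARITH (helper45 call): for `q = 2^f`, `DA, DB` finite sets of positive integers and
`c ≤ 3` with `Σ DA + Σ DB + c ≤ 4`, the number `lcm (lcm_{a ∈ DA} (q^a - 1)) (lcm_{b ∈ DB} (q^b + 1))
* 2^c` divides one of the 12 numbers of `LL q`. -/

namespace Cfsg.Agent.Lib.Helper31.S8ARITH

open Cfsg.Agent.Lib.Helper45
open Cfsg.Agent.Lib.Helper45.EOStmt

theorem odd_finset_lcm (D : Finset ℕ) (g : ℕ → ℕ) (h : ∀ a ∈ D, Odd (g a)) : Odd (D.lcm g) := by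
  classical
  induction D using Finset.induction_on with
  | empty => simp
  | insert a s ha ih =>
    rw [Finset.lcm_insert, lcm_eq_nat_lcm]
    have h1 : Odd (g a) := h a (Finset.mem_insert_self a s)
    have h2 : Odd (s.lcm g) := ih fun x hx => h x (Finset.mem_insert_of_mem hx)
    exact Odd.of_dvd_nat (h1.mul h2) (Nat.lcm_dvd_mul _ _)

theorem sq_sub_one (x : ℕ) (hx : 1 ≤ x) : x ^ 2 - 1 = (x - 1) * (x + 1) := by
  obtain ⟨m, rfl⟩ := Nat.exists_eq_add_of_le hx
  have e : (1 + m) ^ 2 = m * (1 + m + 1) + 1 := by ring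
  rw [e, Nat.add_sub_cancel, Nat.add_sub_cancel_left]

theorem coprime_add_two (m : ℕ) (hm : Odd m) : Nat.Coprime m (m + 2) := by
  rw [add_comm, Nat.coprime_add_self_right]
  exact Nat.coprime_two_right.mpr hm

theorem pair_le_sum (D : Finset ℕ) (x : ℕ) (hx : x ∈ D) :
    ∀ a ∈ D, a = x ∨ a + x ≤ D.sum id := by
  intro a ha
  by_cases hne : a = x
  · exact Or.inl hne
  · right
    have hsub : ({a, x} : Finset ℕ) ⊆ D := by
      intro y hy
      rcases Finset.mem_insert.mp hy with rfl | hy
      · exact ha
      · rw [Finset.mem_singleton] at hy; rw [hy]; exact hx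
    have h1 := Finset.sum_le_sum_of_subset (f := id) hsub
    rw [Finset.sum_pair hne] at h1
    exact h1

theorem main : S8Stmt.Arith := by
  intro q f hf hq DA DB c hDA hDB hsum hc
  have hq2 : 2 ≤ q := by
    rw [hq]
    calc 2 = 2 ^ 1 := (pow_one 2).symm
      _ ≤ 2 ^ f := Nat.pow_le_pow_right (by norm_num) hf
  have hqe : Even q := by
    rw [hq]; exact (Nat.even_pow' (by omega)).mpr even_two
  have hq1 : 1 ≤ q := by omega
  have hqq : 1 ≤ q ^ 2 := Nat.one_le_pow _ _ hq1
  have hoddA : ∀ a : ℕ, 1 ≤ a → Odd (q ^ a - 1) := by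
    intro a ha
    have h1 : Even (q ^ a) := (Nat.even_pow' (by omega)).mpr hqe
    have h2 : 1 ≤ q ^ a := Nat.one_le_pow _ _ hq1
    exact Nat.Even.sub_odd h2 h1 odd_one
  have hoddB : ∀ b : ℕ, 1 ≤ b → Odd (q ^ b + 1) := by
    intro b hb
    have h1 : Even (q ^ b) := (Nat.even_pow' (by omega)).mpr hqe
    exact h1.add_one
  -- divisibility facts
  have f1 : q - 1 ∣ q ^ 2 - 1 := by simpa using Nat.sub_dvd_pow_sub_pow (x := q) (y := 1) (n := 2)
  have f2 : q - 1 ∣ q ^ 3 - 1 := by simpa using Nat.sub_dvd_pow_sub_pow (x := q) (y := 1) (n := 3)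
  have f4 : q + 1 ∣ q ^ 3 + 1 := by
    simpa using Odd.nat_add_dvd_pow_add_pow q 1 (by decide : Odd 3)
  have f6 : q ^ 2 - 1 = (q - 1) * (q + 1) := sq_sub_one q hq1
  have f5 : q ^ 4 - 1 = (q ^ 2 - 1) * (q ^ 2 + 1) := by
    have h1 := sq_sub_one (q ^ 2) hqq
    rw [← pow_mul] at h1
    exact h1
  have f3 : q + 1 ∣ q ^ 2 - 1 := ⟨q - 1, by rw [f6, mul_comm]⟩
  have f7 : Nat.Coprime (q ^ 2 - 1) (q ^ 2 + 1) := by
    have h1 := coprime_add_two (q ^ 2 - 1) (hoddA 2 (by norm_num))
    have e : q ^ 2 - 1 + 2 = q ^ 2 + 1 := by omega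
    rwa [e] at h1
  have f8 : Nat.Coprime (q - 1) (q + 1) := by
    have h0 := hoddA 1 (le_refl 1)
    rw [pow_one] at h0
    have h1 := coprime_add_two (q - 1) h0
    have e : q - 1 + 2 = q + 1 := by omega
    rwa [e] at h1
  have g1 : q ^ 4 - 1 ∣ Nat.lcm (q ^ 2 - 1) (q ^ 2 + 1) := by
    rw [f5]
    exact f7.mul_dvd_of_dvd_of_dvd (Nat.dvd_lcm_left _ _) (Nat.dvd_lcm_right _ _)
  have g2 : q ^ 2 - 1 ∣ Nat.lcm (Nat.lcm (q - 1) 4) (q + 1) := by
    rw [f6]
    exact f8.mul_dvd_of_dvd_of_dvd ((Nat.dvd_lcm_left _ _).trans (Nat.dvd_lcm_left _ _))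
      (Nat.dvd_lcm_right _ _)
  -- size facts
  have F1A : ∀ a ∈ DA, a ≤ DA.sum id := fun a ha =>
    Finset.single_le_sum (f := id) (fun _ _ => Nat.zero_le _) ha
  have F1B : ∀ b ∈ DB, b ≤ DB.sum id := fun b hb =>
    Finset.single_le_sum (f := id) (fun _ _ => Nat.zero_le _) hb
  have F2A := pair_le_sum DA
  have F2B := pair_le_sum DB
  -- reduction to elementwise divisibility
  suffices H : ∃ N ∈ S8Stmt.LL q, (∀ a ∈ DA, q ^ a - 1 ∣ N) ∧ (∀ b ∈ DB, q ^ b + 1 ∣ N) ∧
      2 ^ c ∣ N by
    obtain ⟨N, hN, h1, h2, h3⟩ := H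
    refine ⟨N, hN, ?_⟩
    apply Nat.Coprime.mul_dvd_of_dvd_of_dvd
    · apply Nat.Coprime.pow_right
      rw [Nat.coprime_two_right]
      have o1 : Odd (SA q DA) := odd_finset_lcm DA _ fun a ha => hoddA a (hDA a ha)
      have o2 : Odd (SB q DB) := odd_finset_lcm DB _ fun b hb => hoddB b (hDB b hb)
      exact Odd.of_dvd_nat (o1.mul o2) (Nat.lcm_dvd_mul _ _)
    · exact Nat.lcm_dvd (Finset.lcm_dvd h1) (Finset.lcm_dvd h2)
    · exact h3
  obtain rfl | rfl | rfl | rfl : c = 0 ∨ c = 1 ∨ c = 2 ∨ c = 3 := by omega
  · -- c = 0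
    by_cases h4B : 4 ∈ DB
    · refine ⟨q ^ 4 + 1, by simp [S8Stmt.LL], ?_, ?_, by rw [pow_zero]; exact one_dvd _⟩
      · intro a ha
        exfalso
        have := F1A a ha; have := F1B 4 h4B; have := hDA a ha
        omega
      · intro b hb
        have hb4 : b = 4 := by
          rcases F2B 4 h4B b hb with h | h
          · exact h
          · have := hDB b hb; omega
        rw [hb4]
    · by_cases h3A : 3 ∈ DA
      · refine ⟨Nat.lcm (q ^ 3 - 1) (q + 1), by simp [S8Stmt.LL], ?_, ?_,
          by rw [pow_zero]; exact one_dvd _⟩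
        · intro a ha
          have ha' : a = 3 ∨ a = 1 := by
            rcases F2A 3 h3A a ha with h | h
            · exact Or.inl h
            · have := hDA a ha; omega
          rcases ha' with rfl | rfl
          · exact Nat.dvd_lcm_left _ _
          · rw [pow_one]; exact f2.trans (Nat.dvd_lcm_left _ _)
        · intro b hb
          have hb1 : b = 1 := by
            have := F1B b hb; have := F1A 3 h3A; have := hDB b hb; omega
          rw [hb1, pow_one]; exact Nat.dvd_lcm_right _ _
      · by_cases h3B : 3 ∈ DB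
        · refine ⟨Nat.lcm (q - 1) (q ^ 3 + 1), by simp [S8Stmt.LL], ?_, ?_,
            by rw [pow_zero]; exact one_dvd _⟩
          · intro a ha
            have ha1 : a = 1 := by
              have := F1A a ha; have := F1B 3 h3B; have := hDA a ha; omega
            rw [ha1, pow_one]; exact Nat.dvd_lcm_left _ _
          · intro b hb
            have hb' : b = 3 ∨ b = 1 := by
              rcases F2B 3 h3B b hb with h | h
              · exact Or.inl h
              · have := hDB b hb; omega
            rcases hb' with rfl | rfl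
            · exact Nat.dvd_lcm_right _ _
            · rw [pow_one]; exact f4.trans (Nat.dvd_lcm_right _ _)
        · refine ⟨Nat.lcm (q ^ 2 - 1) (q ^ 2 + 1), by simp [S8Stmt.LL], ?_, ?_,
            by rw [pow_zero]; exact one_dvd _⟩
          · intro a ha
            have ha' : a = 1 ∨ a = 2 ∨ a = 4 := by
              have h1 := F1A a ha; have h2 := hDA a ha
              have h3 : a ≠ 3 := fun h => h3A (h ▸ ha)
              omega
            rcases ha' with rfl | rfl | rfl
            · rw [pow_one]; exact f1.trans (Nat.dvd_lcm_left _ _)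
            · exact Nat.dvd_lcm_left _ _
            · exact g1
          · intro b hb
            have hb' : b = 1 ∨ b = 2 := by
              have h1 := F1B b hb; have h2 := hDB b hb
              have h3 : b ≠ 3 := fun h => h3B (h ▸ hb)
              have h4 : b ≠ 4 := fun h => h4B (h ▸ hb)
              omega
            rcases hb' with rfl | rfl
            · rw [pow_one]; exact f3.trans (Nat.dvd_lcm_left _ _)
            · exact Nat.dvd_lcm_right _ _
  · -- c = 1
    by_cases h3A : 3 ∈ DA
    · refine ⟨Nat.lcm (q ^ 3 - 1) 2, by simp [S8Stmt.LL], ?_, ?_,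
        by rw [pow_one]; exact Nat.dvd_lcm_right _ _⟩
      · intro a ha
        have ha3 : a = 3 := by
          rcases F2A 3 h3A a ha with h | h
          · exact h
          · have := hDA a ha; omega
        rw [ha3]; exact Nat.dvd_lcm_left _ _
      · intro b hb
        exfalso
        have := F1B b hb; have := F1A 3 h3A; have := hDB b hb; omega
    · by_cases h3B : 3 ∈ DB
      · refine ⟨Nat.lcm 2 (q ^ 3 + 1), by simp [S8Stmt.LL], ?_, ?_,
          by rw [pow_one]; exact Nat.dvd_lcm_left _ _⟩
        · intro a ha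
          exfalso
          have := F1A a ha; have := F1B 3 h3B; have := hDA a ha; omega
        · intro b hb
          have hb3 : b = 3 := by
            rcases F2B 3 h3B b hb with h | h
            · exact h
            · have := hDB b hb; omega
          rw [hb3]; exact Nat.dvd_lcm_right _ _
      · by_cases h2A : 2 ∈ DA
        · refine ⟨Nat.lcm (Nat.lcm (q - 1) 4) (q + 1), by simp [S8Stmt.LL], ?_, ?_, ?_⟩
          · intro a ha
            have ha' : a = 2 ∨ a = 1 := by
              rcases F2A 2 h2A a ha with h | h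
              · exact Or.inl h
              · have := hDA a ha; omega
            rcases ha' with rfl | rfl
            · exact g2
            · rw [pow_one]; exact (Nat.dvd_lcm_left _ _).trans (Nat.dvd_lcm_left _ _)
          · intro b hb
            have hb1 : b = 1 := by
              have := F1B b hb; have := F1A 2 h2A; have := hDB b hb; omega
            rw [hb1, pow_one]; exact Nat.dvd_lcm_right _ _
          · rw [pow_one]
            exact (Dvd.intro 2 rfl : 2 ∣ 4).trans
              ((Nat.dvd_lcm_right _ _).trans (Nat.dvd_lcm_left _ _))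
        · by_cases h2B : 2 ∈ DB
          · by_cases h1A : 1 ∈ DA
            · refine ⟨Nat.lcm (Nat.lcm (q - 1) 2) (q ^ 2 + 1), by simp [S8Stmt.LL], ?_, ?_,
                by rw [pow_one]; exact (Nat.dvd_lcm_right _ _).trans (Nat.dvd_lcm_left _ _)⟩
              · intro a ha
                have ha1 : a = 1 := by
                  have := F1A a ha; have := F1B 2 h2B; have := hDA a ha; omega
                rw [ha1, pow_one]; exact (Nat.dvd_lcm_left _ _).trans (Nat.dvd_lcm_left _ _)
              · intro b hb
                have hb2 : b = 2 := by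
                  rcases F2B 2 h2B b hb with h | h
                  · exact h
                  · have := hDB b hb; have := F1A 1 h1A; omega
                rw [hb2]; exact Nat.dvd_lcm_right _ _
            · refine ⟨Nat.lcm (Nat.lcm (q + 1) 2) (q ^ 2 + 1), by simp [S8Stmt.LL], ?_, ?_,
                by rw [pow_one]; exact (Nat.dvd_lcm_right _ _).trans (Nat.dvd_lcm_left _ _)⟩
              · intro a ha
                exfalso
                have h1 := F1A a ha; have h2 := F1B 2 h2B; have h3 := hDA a ha
                have h4 : a ≠ 1 := fun h => h1A (h ▸ ha)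
                omega
              · intro b hb
                have hb' : b = 2 ∨ b = 1 := by
                  rcases F2B 2 h2B b hb with h | h
                  · exact Or.inl h
                  · have := hDB b hb; omega
                rcases hb' with rfl | rfl
                · exact Nat.dvd_lcm_right _ _
                · rw [pow_one]; exact (Nat.dvd_lcm_left _ _).trans (Nat.dvd_lcm_left _ _)
          · refine ⟨Nat.lcm (Nat.lcm (q - 1) 4) (q + 1), by simp [S8Stmt.LL], ?_, ?_, ?_⟩
            · intro a ha
              have ha1 : a = 1 := by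
                have h1 := F1A a ha; have h2 := hDA a ha
                have h3 : a ≠ 3 := fun h => h3A (h ▸ ha)
                have h4 : a ≠ 2 := fun h => h2A (h ▸ ha)
                omega
              rw [ha1, pow_one]; exact (Nat.dvd_lcm_left _ _).trans (Nat.dvd_lcm_left _ _)
            · intro b hb
              have hb1 : b = 1 := by
                have h1 := F1B b hb; have h2 := hDB b hb
                have h3 : b ≠ 3 := fun h => h3B (h ▸ hb)
                have h4 : b ≠ 2 := fun h => h2B (h ▸ hb)
                omega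
              rw [hb1, pow_one]; exact Nat.dvd_lcm_right _ _
            · rw [pow_one]
              exact (Dvd.intro 2 rfl : 2 ∣ 4).trans
                ((Nat.dvd_lcm_right _ _).trans (Nat.dvd_lcm_left _ _))
  · -- c = 2
    by_cases h2B : 2 ∈ DB
    · refine ⟨Nat.lcm 4 (q ^ 2 + 1), by simp [S8Stmt.LL], ?_, ?_, Nat.dvd_lcm_left _ _⟩
      · intro a ha
        exfalso
        have := F1A a ha; have := F1B 2 h2B; have := hDA a ha; omega
      · intro b hb
        have hb2 : b = 2 := by
          rcases F2B 2 h2B b hb with h | h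
          · exact h
          · have := hDB b hb; omega
        rw [hb2]; exact Nat.dvd_lcm_right _ _
    · refine ⟨Nat.lcm (Nat.lcm (q - 1) 4) (q + 1), by simp [S8Stmt.LL], ?_, ?_,
        (Nat.dvd_lcm_right _ _).trans (Nat.dvd_lcm_left _ _)⟩
      · intro a ha
        have ha' : a = 1 ∨ a = 2 := by
          have := F1A a ha; have := hDA a ha; omega
        rcases ha' with rfl | rfl
        · rw [pow_one]; exact (Nat.dvd_lcm_left _ _).trans (Nat.dvd_lcm_left _ _)
        · exact g2
      · intro b hb
        have hb1 : b = 1 := by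
          have h1 := F1B b hb; have h2 := hDB b hb
          have h4 : b ≠ 2 := fun h => h2B (h ▸ hb)
          omega
        rw [hb1, pow_one]; exact Nat.dvd_lcm_right _ _
  · -- c = 3
    by_cases h1B : 1 ∈ DB
    · refine ⟨Nat.lcm 8 (q + 1), by simp [S8Stmt.LL], ?_, ?_, Nat.dvd_lcm_left _ _⟩
      · intro a ha
        exfalso
        have := F1A a ha; have := F1B 1 h1B; have := hDA a ha; omega
      · intro b hb
        have hb1 : b = 1 := by
          have := F1B b hb; have := hDB b hb; omega
        rw [hb1, pow_one]; exact Nat.dvd_lcm_right _ _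
    · refine ⟨Nat.lcm (q - 1) 8, by simp [S8Stmt.LL], ?_, ?_, Nat.dvd_lcm_right _ _⟩
      · intro a ha
        have ha1 : a = 1 := by
          have := F1A a ha; have := hDA a ha; omega
        rw [ha1, pow_one]; exact Nat.dvd_lcm_left _ _
      · intro b hb
        exfalso
        have h1 := F1B b hb; have h2 := hDB b hb
        have h4 : b ≠ 1 := fun h => h1B (h ▸ hb)
        omega

end Cfsg.Agent.Lib.Helper31.S8ARITH
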