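import Mathlib
import Cfsg.Agent.Lib.Helper41.TMTwoStmt
import Cfsg.Agent.Lib.Helper44.NegPairs

/-! S5987 (r = 2 block, call by helper41) piece TM2SQNEGTS. -/

set_option autoImplicit false

universe u

open scoped Matrix

namespace Cfsg.Agent.Lib.Helper31.TM2SQNEGTS

open Cfsg.Agent.Lib.Helper41.TMTwoStmt
open Cfsg.Agent.Lib.Helper45.OMiStmt (M Aniso FxM NDegM StabM TopNDM)

theorem finrank_sup_span {F : Type*} [Field F] {V : Type*} [AddCommGroup V] [Module F V]
    [FiniteDimensional F V] (W : Submodule F V) (v : V) (hv : v ∉ W) :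
    Module.finrank F ↥(W ⊔ Submodule.span F {v}) = Module.finrank F ↥W + 1 := by
  have hv0 : v ≠ 0 := fun h => hv (h ▸ W.zero_mem)
  have h1 := Submodule.finrank_sup_add_finrank_inf_eq W (Submodule.span F {v})
  have h2 : W ⊓ Submodule.span F {v} = ⊥ :=
    disjoint_iff.mp ((Submodule.disjoint_span_singleton' hv0).mpr hv)
  rw [h2, finrank_bot, add_zero, finrank_span_singleton hv0] at h1
  exact h1

theorem main (hExt : TsExt.{u}) : SqNegTS.{u} := by
  intro F _ _ hq d a b x hx hxx W hW hTS hfin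
  classical
  have hodd : Odd (Fintype.card F) := by
    rw [Nat.odd_iff]; omega
  have h2 : (2 : F) ≠ 0 := by
    intro h2
    have hc := Nat.cast_card_eq_zero F
    obtain ⟨k, hk⟩ := hodd
    rw [hk] at hc
    push_cast at hc
    rw [h2, zero_mul, zero_add] at hc
    exact one_ne_zero hc
  have hnsq : ¬ IsSquare (-1 : F) := by
    rw [FiniteField.isSquare_neg_one_iff]
    simpa using hq
  obtain ⟨v, hvW, hQv, hBv⟩ := hExt F hodd d a b W hTS hfin
  obtain ⟨Qm, hfun⟩ : ∃ Qm : QuadraticForm F (M d → F),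
      ⇑Qm = Cfsg.quadFormMinus (d - 1) F a b :=
    ⟨_, Cfsg.Agent.Lib.Helper44.NegPairs.coe_minusQ (d - 1) a b⟩
  unfold TSubM at hTS
  rw [← hfun] at hQv hBv hTS
  obtain ⟨X, hX⟩ : ∃ X : Matrix (M d) (M d) F, X = (x : Matrix (M d) (M d) F) := ⟨_, rfl⟩
  rw [← hX] at hxx hW
  have hiso : ∀ u, Qm (X *ᵥ u) = Qm u := by
    intro u
    rw [hfun, hX]
    exact hx u u
  have hpol : ∀ u w, QuadraticMap.polar Qm (X *ᵥ u) (X *ᵥ w) = QuadraticMap.polar Qm u w := by
    intro u w
    unfold QuadraticMap.polar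
    rw [← Matrix.mulVec_add, hiso, hiso, hiso]
  have hXX : ∀ u, X *ᵥ (X *ᵥ u) = -u := by
    intro u
    rw [Matrix.mulVec_mulVec, hxx, Matrix.neg_mulVec, Matrix.one_mulVec]
  have hstab : ∀ w ∈ W, X *ᵥ w ∈ W := fun w hw =>
    hW (Submodule.mem_map.mpr ⟨w, hw, by rw [Matrix.toLin'_apply]⟩)
  have hQxv : Qm (X *ᵥ v) = 0 := by rw [hiso]; exact hQv
  have hBvxv : QuadraticMap.polar Qm v (X *ᵥ v) = 0 := by
    have h1 : QuadraticMap.polar Qm v (X *ᵥ v) = - QuadraticMap.polar Qm v (X *ᵥ v) := by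
      conv_lhs => rw [← hpol v (X *ᵥ v), hXX, QuadraticMap.polar_neg_right,
        QuadraticMap.polar_comm Qm (X *ᵥ v) v]
    have h3 : (2 : F) * QuadraticMap.polar Qm v (X *ᵥ v) = 0 := by linear_combination h1
    rcases mul_eq_zero.mp h3 with h | h
    · exact absurd h h2
    · exact h
  have hBwxv : ∀ w ∈ W, QuadraticMap.polar Qm w (X *ᵥ v) = 0 := by
    intro w hw
    rw [← hpol w (X *ᵥ v), hXX, QuadraticMap.polar_neg_right, hBv _ (hstab w hw), neg_zero]
  -- the new subspace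
  have hmem : ∀ u ∈ (W ⊔ Submodule.span F {v}) ⊔ Submodule.span F {X *ᵥ v},
      ∃ w ∈ W, ∃ α β : F, u = w + α • v + β • X *ᵥ v := by
    intro u hu
    obtain ⟨y, hy, z, hz, rfl⟩ := Submodule.mem_sup.mp hu
    obtain ⟨β, rfl⟩ := Submodule.mem_span_singleton.mp hz
    obtain ⟨w, hw, z', hz', rfl⟩ := Submodule.mem_sup.mp hy
    obtain ⟨α, rfl⟩ := Submodule.mem_span_singleton.mp hz'
    exact ⟨w, hw, α, β, rfl⟩
  have hmem' : ∀ w ∈ W, ∀ α β : F,
      w + α • v + β • X *ᵥ v ∈ (W ⊔ Submodule.span F {v}) ⊔ Submodule.span F {X *ᵥ v} := by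
    intro w hw α β
    exact Submodule.add_mem _ (Submodule.add_mem _
      (Submodule.mem_sup_left (Submodule.mem_sup_left hw))
      (Submodule.mem_sup_left (Submodule.mem_sup_right
        (Submodule.smul_mem _ α (Submodule.mem_span_singleton_self v)))))
      (Submodule.mem_sup_right (Submodule.smul_mem _ β (Submodule.mem_span_singleton_self _)))
  have hxvW : X *ᵥ v ∉ W ⊔ Submodule.span F {v} := by
    intro hmemxv
    obtain ⟨w, hw, z, hz, hsum⟩ := Submodule.mem_sup.mp hmemxv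
    obtain ⟨α, rfl⟩ := Submodule.mem_span_singleton.mp hz
    have h1 : X *ᵥ (w + α • v) = X *ᵥ (X *ᵥ v) := by rw [hsum]
    rw [Matrix.mulVec_add, Matrix.mulVec_smul, hXX, ← hsum, smul_add] at h1
    have h3 : (1 + α * α) • v ∈ W := by
      have e : (1 + α * α) • v = -(X *ᵥ w + α • w) := by
        rw [add_smul, one_smul, mul_smul]
        have e' : v + α • α • v + (X *ᵥ w + α • w) = 0 := by
          have : X *ᵥ w + (α • w + α • α • v) + v = 0 := by rw [h1, neg_add_cancel]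
          rw [← this]
          abel
        exact eq_neg_of_add_eq_zero_left e'
      rw [e]
      exact W.neg_mem (W.add_mem (hstab w hw) (W.smul_mem α hw))
    have hne : 1 + α * α ≠ 0 := by
      intro h
      apply hnsq
      exact ⟨α, by linear_combination -h⟩
    have hvin : v ∈ W := by
      have := W.smul_mem (1 + α * α)⁻¹ h3
      rwa [smul_smul, inv_mul_cancel₀ hne, one_smul] at this
    exact hvW hvin
  rw [← hX]
  refine ⟨(W ⊔ Submodule.span F {v}) ⊔ Submodule.span F {X *ᵥ v}, ?_, ?_, ?_⟩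
  · intro u hu
    obtain ⟨u0, hu0, rfl⟩ := Submodule.mem_map.mp hu
    obtain ⟨w, hw, α, β, rfl⟩ := hmem u0 hu0
    rw [Matrix.toLin'_apply, Matrix.mulVec_add, Matrix.mulVec_add, Matrix.mulVec_smul,
      Matrix.mulVec_smul, hXX]
    have e : X *ᵥ w + α • X *ᵥ v + β • -v = X *ᵥ w + (-β) • v + α • X *ᵥ v := by
      rw [smul_neg, neg_smul]
      abel
    rw [e]
    exact hmem' _ (hstab w hw) (-β) α
  · intro u hu
    obtain ⟨w, hw, α, β, rfl⟩ := hmem u hu
    rw [← hfun]
    rw [QuadraticMap.map_add Qm (w + α • v) (β • X *ᵥ v), QuadraticMap.map_add Qm w (α • v),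
      QuadraticMap.map_smul, QuadraticMap.map_smul, QuadraticMap.polar_add_left,
      QuadraticMap.polar_smul_right, QuadraticMap.polar_smul_right,
      QuadraticMap.polar_smul_right, QuadraticMap.polar_smul_left, hTS w hw, hQv, hQxv,
      hBv w hw, hBwxv w hw, hBvxv]
    simp
  · rw [finrank_sup_span _ _ hxvW, finrank_sup_span _ _ hvW]

end Cfsg.Agent.Lib.Helper31.TM2SQNEGTS
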