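import Mathlib
import Cfsg.Agent.Lib.Lead.TuanStmt

/-! S0997 part T, piece KEx: a Galois exponent exists. -/

set_option autoImplicit false

namespace Cfsg.Agent.Lib.Helper31.TSKEx

open Cfsg Cfsg.Agent.Lib.Lead.BrHalf Cfsg.Agent.Lib.Lead.Tuan

universe u

theorem main : Cfsg.Agent.Lib.Lead.Tuan.KEx.{u} := by
  intro G _ _ p _ c
  have hp : p.Prime := Fact.out
  have he1 : ¬ p ∣ c.e + 1 := by
    intro h
    have := Nat.le_of_dvd (Nat.succ_pos _) h
    have := c.hp
    have he : 0 < c.e := by rw [c.he]; positivity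
    omega
  have h2 : ¬ p ∣ 2 ^ c.b := by
    intro h
    have h2' := (Nat.prime_dvd_prime_iff_eq hp Nat.prime_two).mp (hp.dvd_of_dvd_pow h)
    have := c.hp
    omega
  have hcopM : Nat.Coprime (2 ^ c.b * (c.e + 1)) p := by
    refine Nat.Coprime.symm ((Nat.Prime.coprime_iff_not_dvd hp).mpr ?_)
    intro h
    rcases (Nat.Prime.dvd_mul hp).mp h with h | h
    · exact h2 h
    · exact he1 h
  obtain ⟨k, hk1, hkν⟩ := Nat.chineseRemainder hcopM 1 c.ν
  have hkz : ((k : ℕ) : ZMod p) = ((c.ν : ℕ) : ZMod p) :=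
    (ZMod.natCast_eq_natCast_iff k c.ν p).mpr hkν
  have hknsq : ¬ IsSquare ((k : ℕ) : ZMod p) := by rw [hkz]; exact c.hν
  have hpk : ¬ p ∣ k := by
    intro h
    apply hknsq
    rw [(ZMod.natCast_eq_zero_iff k p).mpr h]
    exact IsSquare.zero
  have hkp : Nat.Coprime k p := ((Nat.Prime.coprime_iff_not_dvd hp).mpr hpk).symm
  have hkM : Nat.Coprime k (2 ^ c.b * (c.e + 1)) := by
    have h3 := hk1.gcd_eq
    rw [Nat.gcd_one_left] at h3
    exact h3
  refine ⟨k, ?_, hknsq, ?_⟩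
  · rw [c.hcard]
    exact Nat.Coprime.mul_right (Nat.Coprime.mul_right hkM.coprime_mul_right_right hkp)
      hkM.coprime_mul_left_right
  · intro g hg
    have hd : orderOf g ∣ 2 ^ c.b * (c.e + 1) * p := by
      have h4 := orderOf_dvd_natCard g
      rw [c.hcard] at h4
      have e : 2 ^ c.b * p * (c.e + 1) = 2 ^ c.b * (c.e + 1) * p := by ring
      rw [e] at h4
      exact h4
    have hcop : Nat.Coprime (orderOf g) p :=
      ((Nat.Prime.coprime_iff_not_dvd hp).mpr hg).symm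
    have hdM : orderOf g ∣ 2 ^ c.b * (c.e + 1) := hcop.dvd_of_dvd_mul_right hd
    have h5 : k ≡ 1 [MOD orderOf g] := hk1.of_dvd hdM
    have h6 : g ^ k = g ^ 1 := pow_eq_pow_iff_modEq.mpr h5
    rw [h6, pow_one]

end Cfsg.Agent.Lib.Helper31.TSKEx
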