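import Mathlib
import Cfsg.Agent.Lib.Lead.TuanStmt

/-! S0997 part T, piece OrdP: elements of order `p` are conjugate to powers of `x`. -/

set_option autoImplicit false

namespace Cfsg.Agent.Lib.Helper31.TSOrdP

open Cfsg Cfsg.Agent.Lib.Lead.BrHalf Cfsg.Agent.Lib.Lead.Tuan

universe u

/-- the `p`-part of the order of `G` is `p`. -/
theorem factorization_card {G : Type u} [Group G] [Fintype G] (p : ℕ) [Fact p.Prime]
    (c : TCtx G p) : (Nat.card G).factorization p = 1 := by
  have hp : p.Prime := Fact.out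
  have he1 : ¬ p ∣ c.e + 1 := by
    intro h
    have := Nat.le_of_dvd (Nat.succ_pos _) h
    have := c.hp
    have he : 0 < c.e := by rw [c.he]; positivity
    omega
  have h2 : ¬ p ∣ 2 ^ c.b := by
    intro h
    have h2' := (Nat.prime_dvd_prime_iff_eq hp Nat.prime_two).mp (hp.dvd_of_dvd_pow h)
    have := c.hp
    omega
  rw [c.hcard, Nat.factorization_mul (Nat.mul_ne_zero (pow_ne_zero _ two_ne_zero) hp.ne_zero) (Nat.succ_ne_zero _),
    Nat.factorization_mul (pow_ne_zero _ two_ne_zero) hp.ne_zero]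
  simp only [Finsupp.coe_add, Pi.add_apply]
  rw [Nat.factorization_eq_zero_of_not_dvd h2, Nat.factorization_eq_zero_of_not_dvd he1,
    hp.factorization_self]

/-- a subgroup generated by an element of order `p` as a Sylow subgroup. -/
theorem card_zpowers_eq {G : Type u} [Group G] [Fintype G] (p : ℕ) [Fact p.Prime]
    (c : TCtx G p) (u : G) (hu : orderOf u = p) :
    Nat.card (Subgroup.zpowers u) = p ^ (Nat.card G).factorization p := by
  rw [factorization_card p c, pow_one, Nat.card_zpowers, hu]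

theorem main : Cfsg.Agent.Lib.Lead.Tuan.OrdP.{u} := by
  intro G _ _ p _ c u hu
  have hp : p.Prime := Fact.out
  obtain ⟨g, hg⟩ := MulAction.exists_smul_eq G
    (Sylow.ofCard (Subgroup.zpowers c.x) (card_zpowers_eq p c c.x c.hx))
    (Sylow.ofCard (Subgroup.zpowers u) (card_zpowers_eq p c u hu))
  have h1 : u ∈ ((g • Sylow.ofCard (Subgroup.zpowers c.x) (card_zpowers_eq p c c.x c.hx) :
      Sylow p G) : Subgroup G) := by
    rw [hg, Sylow.coe_ofCard]
    exact Subgroup.mem_zpowers u
  rw [Sylow.smul_def, Sylow.pointwise_smul_def, Subgroup.mem_smul_pointwise_iff_exists] at h1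
  obtain ⟨y, hy, hyu⟩ := h1
  rw [Sylow.coe_ofCard, ← mem_powers_iff_mem_zpowers] at hy
  obtain ⟨a, rfl⟩ := hy
  have hyu' : g * c.x ^ a * g⁻¹ = u := hyu
  refine ⟨g, a, ?_, ?_⟩
  · intro hpa
    have h2 : c.x ^ a = 1 := by
      rw [← c.hx] at hpa
      exact orderOf_dvd_iff_pow_eq_one.mp hpa
    rw [h2] at hyu'
    have h3 : u = 1 := by rw [← hyu']; simp
    rw [h3, orderOf_one] at hu
    exact hp.one_lt.ne' hu.symm
  · exact hyu'.symm

end Cfsg.Agent.Lib.Helper31.TSOrdP
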