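import Mathlib
import Cfsg.Agent.Lib.Lead.TuanStmt

/-! S0997 part T, piece Sing: `p`-singular elements have order `p`. -/

set_option autoImplicit false

namespace Cfsg.Agent.Lib.Helper31.TSSing

open Cfsg Cfsg.Agent.Lib.Lead.BrHalf Cfsg.Agent.Lib.Lead.Tuan

universe u

theorem main (hO : Cfsg.Agent.Lib.Lead.Tuan.OrdP.{u}) : Cfsg.Agent.Lib.Lead.Tuan.Sing.{u} := by
  intro G _ _ p _ c g hg
  have hp : p.Prime := Fact.out
  obtain ⟨m', hm'⟩ := hg
  have hgpos : 0 < orderOf g := orderOf_pos g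
  have hm'pos : 0 < m' := by
    rcases Nat.eq_zero_or_pos m' with h | h
    · rw [h, mul_zero] at hm'; omega
    · exact h
  have hu : orderOf (g ^ m') = p := by
    rw [orderOf_pow' g hm'pos.ne', hm', Nat.gcd_eq_right (dvd_mul_left m' p),
      Nat.mul_div_cancel _ hm'pos]
  obtain ⟨h, a, hpa, hua⟩ := hO p c (g ^ m') hu
  obtain ⟨y, hy⟩ : ∃ y : G, y = h⁻¹ * g * h := ⟨_, rfl⟩
  have hcomm : Commute y (c.x ^ a) := by
    have h1 : c.x ^ a = h⁻¹ * g ^ m' * h := by rw [hua]; group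
    have h2 : g * g ^ m' = g ^ m' * g := (Commute.pow_right (Commute.refl g) m').eq
    show y * c.x ^ a = c.x ^ a * y
    rw [h1, hy]
    calc h⁻¹ * g * h * (h⁻¹ * g ^ m' * h) = h⁻¹ * (g * g ^ m') * h := by group
      _ = h⁻¹ * (g ^ m' * g) * h := by rw [h2]
      _ = h⁻¹ * g ^ m' * h * (h⁻¹ * g * h) := by group
  have hcop : Nat.Coprime a p := ((Nat.Prime.coprime_iff_not_dvd hp).mpr hpa).symm
  obtain ⟨a', -, ha'⟩ := Nat.exists_mul_mod_eq_one_of_coprime hcop hp.one_lt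
  have hxa : (c.x ^ a) ^ a' = c.x := by
    rw [← pow_mul, ← pow_mod_orderOf, c.hx, ha', pow_one]
  have hcx : y * c.x = c.x * y := by
    have h3 := (Commute.pow_right hcomm a').eq
    rw [hxa] at h3
    exact h3
  obtain ⟨k, hk⟩ := c.hC y hcx
  have hxp : c.x ^ p = 1 := by
    have h5 := pow_orderOf_eq_one c.x
    rwa [c.hx] at h5
  have hyp : y ^ p = 1 := by
    rw [hk, ← pow_mul, mul_comm, pow_mul, hxp, one_pow]
  have hgp : g ^ p = 1 := by
    have h4 : g = h * y * h⁻¹ := by rw [hy]; group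
    rw [h4, conj_pow, hyp]
    group
  have hdvd : orderOf g ∣ p := orderOf_dvd_of_pow_eq_one hgp
  rcases (Nat.dvd_prime hp).mp hdvd with h1 | h1
  · rw [h1] at hm'
    have := hp.two_le
    nlinarith
  · exact h1

end Cfsg.Agent.Lib.Helper31.TSSing
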