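import Mathlib
import Cfsg.Agent.Lib.Helper31.ZSBasic

/-!
S1251 modulo the Z*-theorem (helper31): a strongly closed 2-subgroup `A` normalizing a subgroup
`H` with `O(H) = 1` and `A ∩ H = 1` centralizes `H`.
-/

set_option autoImplicit false
open Cfsg

namespace Cfsg.Agent.Lib.Helper31.ZSClosed

open Cfsg.Agent.Lib.Helper31.ZSBasic Cfsg.Agent.Lib.Helper31.SigBasic
open Cfsg.Agent.Lib.Helper31.InvSylow

universe u

section basic

variable {G : Type*} [Group G]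

/-- In a `p`-group `A` with a proper normal subgroup `A₀` there is an element of `A ∖ A₀` which is
central of order `p` modulo `A₀`. -/
theorem exists_central_mod [Finite G] {p : ℕ} [hp : Fact p.Prime] (A A₀ : Subgroup G)
    (hA : IsPGroup p A) (hle : A₀ ≤ A) (hn : ∀ a ∈ A, ∀ c ∈ A₀, a * c * a⁻¹ ∈ A₀) (hne : A₀ ≠ A) :
    ∃ a ∈ A, a ∉ A₀ ∧ a ^ p ∈ A₀ ∧ ∀ b ∈ A, a⁻¹ * (b * a * b⁻¹) ∈ A₀ := by
  haveI hnorm : (A₀.subgroupOf A).Normal := by
    constructor
    intro n hn' g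
    rw [Subgroup.mem_subgroupOf] at hn' ⊢
    exact hn g g.2 n hn'
  have hQ : IsPGroup p (↥A ⧸ A₀.subgroupOf A) := hA.to_quotient _
  haveI : Nontrivial (↥A ⧸ A₀.subgroupOf A) := by
    by_contra hnt
    rw [not_nontrivial_iff_subsingleton] at hnt
    have h1 := QuotientGroup.subgroup_eq_top_of_subsingleton (A₀.subgroupOf A) hnt
    rw [Subgroup.subgroupOf_eq_top] at h1
    exact hne (le_antisymm hle h1)
  haveI := hQ.center_nontrivial
  have hcp : IsPGroup p (Subgroup.center (↥A ⧸ A₀.subgroupOf A)) := hQ.to_subgroup _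
  have h2 : p ∣ Nat.card (Subgroup.center (↥A ⧸ A₀.subgroupOf A)) := by
    obtain ⟨k, hk⟩ := hcp.exists_card_eq
    rcases k with _ | k
    · exfalso
      have := Finite.one_lt_card (α := Subgroup.center (↥A ⧸ A₀.subgroupOf A))
      rw [pow_zero] at hk
      omega
    · rw [hk, pow_succ]; exact dvd_mul_left _ _
  obtain ⟨ζ, hζ⟩ := exists_prime_orderOf_dvd_card' p h2
  obtain ⟨a, ha⟩ := QuotientGroup.mk_surjective (ζ : ↥A ⧸ A₀.subgroupOf A)
  have hζc := Subgroup.mem_center_iff.mp ζ.2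
  refine ⟨a, a.2, ?_, ?_, ?_⟩
  · intro haA₀
    have h3 : (a : ↥A ⧸ A₀.subgroupOf A) = 1 :=
      (QuotientGroup.eq_one_iff a).mpr (Subgroup.mem_subgroupOf.mpr haA₀)
    rw [ha] at h3
    have h4 : ζ = 1 := Subtype.ext h3
    rw [h4, orderOf_one] at hζ
    exact hp.1.one_lt.ne hζ
  · have h3 : ζ ^ p = 1 := by rw [← hζ]; exact pow_orderOf_eq_one ζ
    have h4 : ((a ^ p : ↥A) : ↥A ⧸ A₀.subgroupOf A) = 1 := by
      rw [QuotientGroup.mk_pow, ha]
      have := congrArg Subtype.val h3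
      simpa using this
    have h5 := (QuotientGroup.eq_one_iff (a ^ p)).mp h4
    rw [Subgroup.mem_subgroupOf] at h5
    simpa using h5
  · intro b hb
    have h3 := hζc ((⟨b, hb⟩ : ↥A) : ↥A ⧸ A₀.subgroupOf A)
    rw [← ha] at h3
    have h4 : ((a : ↥A) : ↥A ⧸ A₀.subgroupOf A) = ((⟨b, hb⟩ * a * (⟨b, hb⟩ : ↥A)⁻¹ : ↥A) :
        ↥A ⧸ A₀.subgroupOf A) := by
      rw [QuotientGroup.mk_mul, QuotientGroup.mk_mul, QuotientGroup.mk_inv, h3, mul_assoc,
        mul_inv_cancel, mul_one]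
    have h5 := QuotientGroup.eq.mp h4
    rw [Subgroup.mem_subgroupOf] at h5
    simpa using h5

/-- If `A` is strongly closed in the Sylow 2-subgroup `S` and `T ⊇ A` is any 2-subgroup, then
conjugates of elements of `A` lying in `T` lie in `A`. -/
theorem closed_conj [Finite G] (S : Sylow 2 G) (A : Subgroup G)
    (hA : IsStronglyClosed A (S : Subgroup G)) (T : Subgroup G) (hT : IsPGroup 2 T) (hAT : A ≤ T) :
    ∀ a ∈ A, ∀ g : G, g * a * g⁻¹ ∈ T → g * a * g⁻¹ ∈ A := by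
  obtain ⟨y, -, hy⟩ := exists_conj_ge (⊤ : Subgroup G) (S : Subgroup G) T le_top
    (Sylow.card_eq_multiplicity S) hT le_top
  have hT' : ∀ t ∈ T, y⁻¹ * t * y ∈ (S : Subgroup G) := by
    intro t ht
    obtain ⟨s, hs, rfl⟩ := hy ht
    have e : y⁻¹ * ((MulAut.conj y).toMonoidHom s) * y = s := by
      show y⁻¹ * (y * s * y⁻¹) * y = s
      group
    rw [e]; exact hs
  have h1 : ∀ a ∈ A, y⁻¹ * a * y⁻¹⁻¹ ∈ A := by
    intro a ha
    apply hA.2 a ha y⁻¹
    rw [inv_inv]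
    exact hT' a (hAT ha)
  have h2 : y⁻¹ ∈ Subgroup.normalizer (A : Set G) := mem_normalizer_of_conj_mem A y⁻¹ h1
  have h3 : y ∈ Subgroup.normalizer (A : Set G) := by
    have := Subgroup.inv_mem _ h2
    rwa [inv_inv] at this
  intro a ha g hg
  have h4 := hT' _ hg
  have h5 : (y⁻¹ * g) * a * (y⁻¹ * g)⁻¹ ∈ A := by
    apply hA.2 a ha
    have e : (y⁻¹ * g) * a * (y⁻¹ * g)⁻¹ = y⁻¹ * (g * a * g⁻¹) * y := by group
    rw [e]; exact h4
  have h6 := conj_mem_of_mem_normalizer h3 h5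
  have e : y * ((y⁻¹ * g) * a * (y⁻¹ * g)⁻¹) * y⁻¹ = g * a * g⁻¹ := by group
  rwa [e] at h6

end basic

/-- S1251 modulo the Z*-theorem. -/
theorem s1251 (ZS : ZStarHyp.{u}) {G : Type u} [Group G] [Finite G] (S : Sylow 2 G)
    (A : Subgroup G) (hA : Cfsg.IsStronglyClosed A (S : Subgroup G)) (H : Subgroup G)
    (hAH : A ≤ Subgroup.normalizer (H : Set G)) (hO : Cfsg.oddCore ↥H = ⊥) (hdisj : A ⊓ H = ⊥) :
    A ≤ Subgroup.centralizer (H : Set G) := by
  by_contra hcon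
  have hA2 : IsPGroup 2 A := S.2.to_le hA.1
  set A₀ : Subgroup G := A ⊓ Subgroup.centralizer (H : Set G) with hA₀
  have hA₀A : A₀ ≤ A := inf_le_left
  have hne : A₀ ≠ A := by
    intro h
    apply hcon
    rw [← h]
    exact inf_le_right
  have hcentmem : ∀ c ∈ A₀, ∀ h ∈ H, h * c = c * h := fun c hc h hh =>
    Subgroup.mem_centralizer_iff.mp (inf_le_right (a := A) hc) h hh
  have hnA : ∀ a ∈ A, ∀ c ∈ A₀, a * c * a⁻¹ ∈ A₀ := by
    intro a ha c hc
    refine Subgroup.mem_inf.mpr ⟨A.mul_mem (A.mul_mem ha (hA₀A hc)) (A.inv_mem ha), ?_⟩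
    rw [Subgroup.mem_centralizer_iff]
    intro h hh
    have h1 : a⁻¹ * h * a ∈ H := inv_conj_mem_of_mem_normalizer (hAH ha) hh
    have h2 := hcentmem c hc _ h1
    calc h * (a * c * a⁻¹) = a * ((a⁻¹ * h * a) * c) * a⁻¹ := by group
      _ = a * (c * (a⁻¹ * h * a)) * a⁻¹ := by rw [h2]
      _ = a * c * a⁻¹ * h := by group
  obtain ⟨a, haA, haA₀, ha2, hacen⟩ := exists_central_mod A A₀ hA2 hA₀A hnA hne
  apply haA₀
  refine Subgroup.mem_inf.mpr ⟨haA, ?_⟩
  -- the group X = H A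
  set X : Subgroup G := H ⊔ A with hX
  have hHX : H ≤ X := le_sup_left
  have hAX : A ≤ X := le_sup_right
  set B : Subgroup X := A₀.subgroupOf X with hB
  haveI hBn : B.Normal := by
    constructor
    intro n hn x
    rw [hB, Subgroup.mem_subgroupOf] at hn ⊢
    obtain ⟨h, hh, a', ha', hx⟩ := mem_sup_of_le_normalizer H A hAH x.2
    have h1 := hnA a' ha' _ hn
    have h2 := hcentmem _ h1 h hh
    have e : ((x * n * x⁻¹ : X) : G) = a' * (n : G) * a'⁻¹ := by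
      show (x : G) * (n : G) * (x : G)⁻¹ = a' * (n : G) * a'⁻¹
      rw [hx]
      calc h * a' * (n : G) * (h * a')⁻¹ = h * (a' * (n : G) * a'⁻¹) * h⁻¹ := by group
        _ = a' * (n : G) * a'⁻¹ * h * h⁻¹ := by rw [h2]
        _ = a' * (n : G) * a'⁻¹ := by group
    rw [e]; exact h1
  -- a Sylow 2-subgroup T of X containing A
  have hAX2 : IsPGroup 2 (A.subgroupOf X) := hA2.comap_subtype
  obtain ⟨T, hT⟩ := hAX2.exists_le_sylow
  set T' : Subgroup G := (T : Subgroup X).map X.subtype with hT'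
  have hT'2 : IsPGroup 2 T' := T.2.map X.subtype
  have hAT' : A ≤ T' := by
    intro a₁ ha₁
    exact ⟨⟨a₁, hAX ha₁⟩, hT (Subgroup.mem_subgroupOf.mpr ha₁), rfl⟩
  have hT'mem : ∀ x : X, (x : G) ∈ T' → x ∈ (T : Subgroup X) := by
    rintro x ⟨t, ht, hte⟩
    have : t = x := Subtype.ext hte
    rw [← this]; exact ht
  have hclosed := closed_conj S A hA T' hT'2 hAT'
  -- the quotient Y = X / A₀
  set π := QuotientGroup.mk' B with hπ
  set Tbar : Sylow 2 (↥X ⧸ B) := T.mapSurjective (QuotientGroup.mk'_surjective B) with hTbar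
  have hTbarc : (Tbar : Subgroup (↥X ⧸ B)) = (T : Subgroup X).map π := by
    rw [hTbar, Sylow.coe_mapSurjective]
  set ax : X := ⟨a, hAX haA⟩ with hax
  have haxT : ax ∈ (T : Subgroup X) := hT (Subgroup.mem_subgroupOf.mpr haA)
  have hmemB : ∀ x : X, π x = 1 ↔ (x : G) ∈ A₀ := by
    intro x
    rw [hπ, QuotientGroup.mk'_apply, QuotientGroup.eq_one_iff, hB, Subgroup.mem_subgroupOf]
  have hord : orderOf (π ax) = 2 := by
    apply orderOf_eq_prime
    · rw [← map_pow, hmemB]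
      exact ha2
    · intro h
      rw [hmemB] at h
      exact haA₀ h
  have hiso : ∀ ybar : ↥X ⧸ B, ybar * π ax * ybar⁻¹ ∈ Tbar → ybar * π ax * ybar⁻¹ = π ax := by
    intro ybar
    obtain ⟨x, rfl⟩ := QuotientGroup.mk'_surjective B ybar
    intro hmem
    have hmem' : π (x * ax * x⁻¹) ∈ (T : Subgroup X).map π := by
      rw [← hTbarc, map_mul, map_mul, map_inv]
      exact hmem
    obtain ⟨t, ht, hteq⟩ := hmem'
    have h1 : π (t⁻¹ * (x * ax * x⁻¹)) = 1 := by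
      rw [map_mul, map_inv, hteq, inv_mul_cancel]
    rw [hmemB] at h1
    have h2 : (x : G) * a * (x : G)⁻¹ ∈ T' := by
      have e : (x : G) * a * (x : G)⁻¹ = (t : G) * ((t⁻¹ * (x * ax * x⁻¹) : X) : G) := by
        show (x : G) * a * (x : G)⁻¹ = (t : G) * ((t : G)⁻¹ * ((x : G) * a * (x : G)⁻¹))
        group
      rw [e]
      exact T'.mul_mem ⟨t, ht, rfl⟩ (hAT' (hA₀A h1))
    have h3 := hclosed a haA (x : G) h2
    obtain ⟨h, hh, a', ha', hx⟩ := mem_sup_of_le_normalizer H A hAH x.2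
    set a₁ := a' * a * a'⁻¹ with ha₁
    have ha₁A : a₁ ∈ A := A.mul_mem (A.mul_mem ha' haA) (A.inv_mem ha')
    have hxa : (x : G) * a * (x : G)⁻¹ = h * a₁ * h⁻¹ := by
      rw [hx, ha₁]; group
    have heH : h * a₁ * h⁻¹ * a₁⁻¹ ∈ H := by
      have h4 : a₁ * h⁻¹ * a₁⁻¹ ∈ H := conj_mem_of_mem_normalizer (hAH ha₁A) (H.inv_mem hh)
      have e : h * a₁ * h⁻¹ * a₁⁻¹ = h * (a₁ * h⁻¹ * a₁⁻¹) := by group
      rw [e]; exact H.mul_mem hh h4
    have heA : h * a₁ * h⁻¹ * a₁⁻¹ ∈ A := by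
      rw [← hxa]
      exact A.mul_mem h3 (A.inv_mem ha₁A)
    have he1 : h * a₁ * h⁻¹ * a₁⁻¹ = 1 := by
      have : h * a₁ * h⁻¹ * a₁⁻¹ ∈ A ⊓ H := Subgroup.mem_inf.mpr ⟨heA, heH⟩
      rw [hdisj] at this
      exact Subgroup.mem_bot.mp this
    have hxa' : (x : G) * a * (x : G)⁻¹ = a₁ := by
      rw [hxa]
      exact mul_inv_eq_one.mp he1
    have h5 : π (ax⁻¹ * (x * ax * x⁻¹)) = 1 := by
      rw [hmemB]
      show a⁻¹ * ((x : G) * a * (x : G)⁻¹) ∈ A₀
      rw [hxa', ha₁]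
      exact hacen a' ha'
    rw [map_mul, map_inv] at h5
    have h6 : π (x * ax * x⁻¹) = π ax := by
      have := inv_mul_eq_one.mp h5
      exact this.symm
    rw [map_mul, map_mul, map_inv] at h6
    exact h6
  have haxTbar : π ax ∈ Tbar := by
    show π ax ∈ (Tbar : Subgroup (↥X ⧸ B))
    rw [hTbarc]
    exact ⟨ax, haxT, rfl⟩
  obtain ⟨Nbar, hNn, hNodd, hNc⟩ := ZS (↥X ⧸ B) Tbar (π ax) hord haxTbar hiso
  -- the normal subgroup M of H of odd order
  set M : Subgroup H := (Nbar.comap π).comap (Subgroup.inclusion hHX) with hM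
  haveI := hNn
  haveI hMn : M.Normal := by rw [hM]; infer_instance
  have hModd : Odd (Nat.card M) := by
    by_contra hnodd
    rw [Nat.not_odd_iff_even, even_iff_two_dvd] at hnodd
    obtain ⟨t, ht⟩ := exists_prime_orderOf_dvd_card' 2 hnodd
    set f : M →* (↥X ⧸ B) := π.comp ((Subgroup.inclusion hHX).comp M.subtype) with hf
    have hft : f t ∈ Nbar := t.2
    have hft2 : f t ^ 2 = 1 := by
      rw [← map_pow, ← ht, pow_orderOf_eq_one, map_one]
    have hd1 : orderOf (f t) ∣ 2 := orderOf_dvd_of_pow_eq_one hft2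
    have hd2 : orderOf (f t) ∣ Nat.card Nbar := Subgroup.orderOf_dvd_natCard Nbar hft
    have hcop : Nat.Coprime 2 (Nat.card Nbar) := Nat.coprime_two_left.mpr hNodd
    have h1 : orderOf (f t) = 1 := Nat.eq_one_of_dvd_coprimes hcop hd1 hd2
    rw [orderOf_eq_one_iff] at h1
    have h2 : ((t : H) : G) ∈ A₀ := (hmemB _).mp h1
    have h3 : ((t : H) : G) ∈ A ⊓ H := Subgroup.mem_inf.mpr ⟨hA₀A h2, (t : H).2⟩
    rw [hdisj, Subgroup.mem_bot] at h3
    have h4 : t = 1 := Subtype.ext (Subtype.ext h3)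
    rw [h4, orderOf_one] at ht
    omega
  have hMbot : M ≤ oddCore ↥H := le_oddCore_of_odd hMn hModd
  rw [hO] at hMbot
  rw [Subgroup.mem_centralizer_iff]
  intro h hh
  have hcH : a * h * a⁻¹ * h⁻¹ ∈ H := by
    have := conj_mem_of_mem_normalizer (hAH haA) hh
    exact H.mul_mem this (H.inv_mem hh)
  have hcM : (⟨a * h * a⁻¹ * h⁻¹, hcH⟩ : H) ∈ M := by
    rw [hM]
    show π (Subgroup.inclusion hHX ⟨a * h * a⁻¹ * h⁻¹, hcH⟩) ∈ Nbar
    have e : Subgroup.inclusion hHX ⟨a * h * a⁻¹ * h⁻¹, hcH⟩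
        = ax * (⟨h, hHX hh⟩ : X) * ax⁻¹ * (⟨h, hHX hh⟩ : X)⁻¹ := by
      apply Subtype.ext
      rfl
    rw [e, map_mul, map_mul, map_inv, map_inv]
    exact hNc _
  have h1 := hMbot hcM
  rw [Subgroup.mem_bot] at h1
  have h2 : a * h * a⁻¹ * h⁻¹ = 1 := congrArg Subtype.val h1
  have h3 : a * h * a⁻¹ = h := mul_inv_eq_one.mp h2
  calc h * a = a * h * a⁻¹ * a := by rw [h3]
    _ = a * h := by group

end Cfsg.Agent.Lib.Helper31.ZSClosed
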